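import Cfsg.Agent.E7P.En1.Rat_m3
import Cfsg.Agent.ChevalleyStructure.St.TabAll
import Cfsg.Agent.H757.GrpLemmas
import Cfsg.Agent.H199.PslAut
import Cfsg.Agent.H259.NatMod
import Cfsg.Agent.E7P.Lie.ATor_m3
import Cfsg.Agent.E7P.Br.Api_m3
import Cfsg.Agent.H179.SLC.Coc_m3
import Cfsg.Agent.H65.E6Ext_m3
import Cfsg.Agent.ChevFast.E7
import Cfsg.Agent.ChevFast.E8
import Mathlib.Algebra.BigOperators.Group.Multiset.Basic
import Mathlib.Algebra.BigOperators.Group.Finset.Basic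
import Mathlib.Algebra.Order.BigOperators.Group.Multiset
import Mathlib.Tactic.Ring
import Mathlib.Tactic.Linarith
import Cfsg.Agent.R2.T1.Inf.Cnt_m3
import Cfsg.Agent.H944.E7Two
import Cfsg.Agent.R2.H28.SL2.ExtY_m3
import Cfsg.Agent.R2.T1.Odd.T9
import Cfsg.Agent.Lib.ListFast
import Cfsg.Agent.FastGrp
import Cfsg.Agent.Prune
set_option linter.all false

section
prune_inst 0x7ffca9f86bb881dfdfff7e7fae90dffc18911fffa6def9437fe061ff0b1f030009852b8589e010fe0e57621410b87853eb7eeeffe86bd07ffffd1e341ffbee4fe5f63108519488300e280ff603f0770a6f3ffff7fbffffffffffffffffffffbeffbfffffffff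

-- part: E7P/Frm/Tor
section
prune_inst 0x140204054e2020000180504300006402a000402004308000840020c068824442d01062194201112081a8044003000000000002040e00000041c04000119008088820204b048401946009f000088410000008040000000000000000000000004000000000
set_option linter.all false
open scoped Cfsg.Agent.FastGrp

-- part: E7P/Frm/Lev
section
/-!
# S5932: the filtration of the unipotent radical (helper32)

* `MGe K β d`, `MGt K β d` : matrices which raise the level by `≥ d`, `> d`;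
* `Ud K β d`, `Ug K β d` : the groups generated by the root groups of level `≥ d`, `> d`; `Pl_levi`, `Ul_eq`;
* `leadu` : the leading term of an element of the unipotent radical; `exists_lead` : every leading term occurs.
-/

set_option autoImplicit false
set_option maxRecDepth 100000

namespace Cfsg.Agent.E7P.Kf

open Cfsg Cfsg.Lie Matrix Module
open Cfsg.Agent.ChevalleyStructure
open Cfsg.Agent.H943.E7V.Block (D1 rho)
open Cfsg.Agent.R2.T1
open Cfsg.Agent.R2.PX (del)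

universe u
variable {K : Type u} [Field K]

variable (K) in
/-- matrices of level `≥ d` -/
def MGe (β : E) (d : ℝ) : Submodule K (Matrix D1 D1 K) where
  carrier := {A | ∀ i j, A i j ≠ 0 → bf β (wv j) + d ≤ bf β (wv i)}
  zero_mem' := fun _ _ h => absurd rfl h
  add_mem' := by
    intro x y hx hy i j hi
    by_cases h : x i j = 0
    · rw [Matrix.add_apply, h, zero_add] at hi
      exact hy i j hi
    · exact hx i j h
  smul_mem' := fun _ _ hx i j hi => hx i j (right_ne_zero_of_mul hi)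

variable (K) in
/-- matrices of level `> d` -/
def MGt (β : E) (d : ℝ) : Submodule K (Matrix D1 D1 K) where
  carrier := {A | ∀ i j, A i j ≠ 0 → bf β (wv j) + d < bf β (wv i)}
  zero_mem' := fun _ _ h => absurd rfl h
  add_mem' := by
    intro x y hx hy i j hi
    by_cases h : x i j = 0
    · rw [Matrix.add_apply, h, zero_add] at hi
      exact hy i j hi
    · exact hx i j h
  smul_mem' := fun _ _ hx i j hi => hx i j (right_ne_zero_of_mul hi)

variable {β : E} {d e : ℝ} {A B : Matrix D1 D1 K}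

theorem mem_MGt : A ∈ MGt K β d ↔ ∀ i j, A i j ≠ 0 → bf β (wv j) + d < bf β (wv i) := Iff.rfl

theorem MGt_le : MGt K β d ≤ MGe K β d := fun _ h i j hij => (h i j hij).le

theorem MGe_mono (h : e ≤ d) : MGe K β d ≤ MGe K β e := fun _ hA i j hij => by
  have := hA i j hij
  linarith

theorem MGt_mono (h : e ≤ d) : MGt K β d ≤ MGt K β e := fun _ hA i j hij => by
  have := hA i j hij
  linarith

theorem MGe_le_MGt (h : e < d) : MGe K β d ≤ MGt K β e := fun _ hA i j hij => by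
  have := hA i j hij
  linarith

theorem MGe_mul (hA : A ∈ MGe K β d) (hB : B ∈ MGe K β e) : A * B ∈ MGe K β (d + e) := by
  intro i j hij
  obtain ⟨k, h1, h2⟩ := exists_mid' hij
  have := hA _ _ h1
  have := hB _ _ h2
  linarith

theorem MGt_mul (hA : A ∈ MGt K β d) (hB : B ∈ MGe K β e) : A * B ∈ MGt K β (d + e) := by
  intro i j hij
  obtain ⟨k, h1, h2⟩ := exists_mid' hij
  have := hA _ _ h1
  have := hB _ _ h2
  linarith

theorem MGe_mul_MGt (hA : A ∈ MGe K β d) (hB : B ∈ MGt K β e) : A * B ∈ MGt K β (d + e) := by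
  intro i j hij
  obtain ⟨k, h1, h2⟩ := exists_mid' hij
  have := hA _ _ h1
  have := hB _ _ h2
  linarith

theorem one_mem_MGe : (1 : Matrix D1 D1 K) ∈ MGe K β 0 := by
  intro i j hij
  by_cases h : i = j
  · rw [h, add_zero]
  · exact absurd (one_apply_ne h) hij

theorem rho_mem_MGe {y : Gh K} (hy : y ∈ Pl K β) : rho K y ∈ MGe K β 0 := fun i j hij => by
  rw [add_zero]
  exact wrep_V.tri hy i j hij

theorem STri_iff : STri β A ↔ A ∈ MGt K β 0 := by
  simp only [STri, mem_MGt, add_zero]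

theorem MGe_conj {y : Gh K} (hy : y ∈ Pl K β) (hA : A ∈ MGe K β d) : rho K y * A * rho K y⁻¹ ∈ MGe K β d := by
  have h := MGe_mul (MGe_mul (rho_mem_MGe hy) hA) (rho_mem_MGe (inv_mem hy))
  rwa [zero_add, add_zero] at h

theorem MGt_conj {y : Gh K} (hy : y ∈ Pl K β) (hA : A ∈ MGt K β d) : rho K y * A * rho K y⁻¹ ∈ MGt K β d := by
  have h := MGt_mul (MGe_mul_MGt (rho_mem_MGe hy) hA) (rho_mem_MGe (inv_mem hy))
  rwa [zero_add, add_zero] at h

theorem eq_zero_of_MGt_neg (hA : A ∈ MGt K β d) (hA' : A ∈ MGe K (-β) (-d)) : A = 0 := by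
  ext i j
  by_contra hij
  have h1 := hA i j hij
  have h2 := hA' i j hij
  rw [map_neg, LinearMap.neg_apply, LinearMap.neg_apply] at h2
  linarith

theorem NM_mem {r : ℕ} (hr : r < 126) : NM K r ∈ MGe K β (bf β (rv r)) := fun i j hij => by
  rw [NM_ne hr hij, map_add]

theorem del_ne {z : chevE7.Idx → K} {i j : D1} (h : del K z i j ≠ 0) : ∃ k, z k ≠ 0 ∧ wv i = wv j + cv (ac k) := by
  rw [R2.PX.del_apply, Matrix.add_apply, Matrix.sum_apply, Matrix.sum_apply] at h
  by_cases h1 : ∑ s : Fin chevE7.nroots, (z (Sum.inr s) • NM K s) i j = 0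
  · rw [h1, add_zero] at h
    obtain ⟨k, -, hk⟩ := Finset.exists_ne_zero_of_sum_ne_zero h
    rw [Matrix.smul_apply, smul_eq_mul] at hk
    refine ⟨_, left_ne_zero_of_mul hk, ?_⟩
    have h2 : i = j := by
      by_contra hne
      exact right_ne_zero_of_mul hk (diagonal_apply_ne _ hne)
    rw [ac_inl, cv_zero, add_zero, h2]
  · obtain ⟨k, -, hk⟩ := Finset.exists_ne_zero_of_sum_ne_zero h1
    rw [Matrix.smul_apply, smul_eq_mul] at hk
    exact ⟨_, left_ne_zero_of_mul hk, NM_ne k.2 (right_ne_zero_of_mul hk)⟩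

theorem exists_del_ne {z : chevE7.Idx → K} {r : Fin chevE7.nroots} (h : z (Sum.inr r) ≠ 0) :
    ∃ i j, del K z i j ≠ 0 ∧ wv i = wv j + rv r := by
  obtain ⟨a, b, c, h1, h2⟩ := R2.PX.Tr.exists_entry r.2
  refine ⟨a, b, ?_, ?_⟩
  · rw [Mu.del_entry z r.2 h1]
    exact mul_ne_zero h (cast_ne h2)
  · rw [wv, wc_add r.2 h1, cv_add]; rfl

theorem del_mem_MGe {z : chevE7.Idx → K} (hz : z ∈ Ge K ac β d) : del K z ∈ MGe K β d := by
  intro i j hij
  obtain ⟨k, h1, h2⟩ := del_ne hij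
  have := hz k h1
  rw [h2, map_add]
  linarith

/-- the toral part of an element with strictly triangular matrix vanishes -/
theorem inl_eq_zero {z : chevE7.Idx → K} (h : ∀ i, del K z i i = 0) (i : Fin chevE7.rank) : z (Sum.inl i) = 0 := by
  have h1 : del K (tv fun i => z (Sum.inl i)) = 0 := by
    ext a b
    by_contra hne
    obtain ⟨k, h2, h3⟩ := del_ne hne
    rcases k with k | k
    · rw [ac_inl, cv_zero, add_zero] at h3
      obtain rfl := wv_inj h3
      apply hne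
      have h4 : del K (z - tv fun i => z (Sum.inl i)) a a = 0 := by
        by_contra h5
        obtain ⟨k, h6, h7⟩ := del_ne h5
        rcases k with k | k
        · exact h6 (sub_self _)
        · exact rv_ne k.2 (left_eq_add.1 h7)
      rw [map_sub, Matrix.sub_apply, h, zero_sub, neg_eq_zero] at h4
      exact h4
    · exact h2 rfl
  exact congrFun (Mu.del_inj h1) (Sum.inl i)

theorem mem_Ge_of_del {z : chevE7.Idx → K} (h : del K z ∈ MGe K β d) : z ∈ Ge K ac β d := by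
  rintro (k | k) hk
  · rw [ac_inl, cv_zero, map_zero]
    by_contra hd
    exact hk (inl_eq_zero (fun i => by
      by_contra h1
      have := h i i h1
      linarith) k)
  · obtain ⟨i, j, h1, h2⟩ := exists_del_ne hk
    have h3 := h i j h1
    rw [h2, map_add] at h3
    exact le_of_add_le_add_left h3

theorem mem_Gt_of_del {z : chevE7.Idx → K} (h : del K z ∈ MGt K β d) : z ∈ Gt K ac β d := by
  rintro (k | k) hk
  · rw [ac_inl, cv_zero, map_zero]
    by_contra hd
    exact hk (inl_eq_zero (fun i => by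
      by_contra h1
      have := h i i h1
      linarith) k)
  · obtain ⟨i, j, h1, h2⟩ := exists_del_ne hk
    have h3 := h i j h1
    rw [h2, map_add] at h3
    exact lt_of_add_lt_add_left h3

/-! ### the commutator relations -/

theorem xs_comm {r s : ℕ} (hr : r < 126) (hs : s < 126) (hsn : s ≠ 125 - r) (t v : K) {T : Subgroup (Gh K)}
    (hT : ∀ c < 126, ∀ i j : ℕ, 0 < i → 0 < j → rc c = i • rc r + j • rc s → ∀ x, xs K c x ∈ T) :
    (xs K s v)⁻¹ * (xs K r t)⁻¹ * xs K s v * xs K r t ∈ T := by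
  by_cases hsr : s = r
  · rw [hsr, xs_inv, xs_inv, xs_mul, xs_mul, xs_mul, show -v + -t + v + t = 0 by ring, xs_zero]
    exact one_mem _
  have h := St.Rels.stGen_comm (D := chevE7) (K := K) hr hs hsr (by
    rw [show chevE7.neg r = 125 - r from neg7 hr]; exact hsn) t v
  refine (show (xs K s v)⁻¹ * (xs K r t)⁻¹ * xs K s v * xs K r t = _ from h) ▸ St.Rels.word_mem T ?_
  intro p hp
  obtain ⟨c, hc, rfl⟩ := List.mem_map.1 hp
  obtain ⟨h1, h2, h3, h4⟩ := St.Functional.commTerms_spec St.TabE7.tabE7.toWf hr hs hc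
  refine hT c.1 h1 _ _ h2 h3 (funext fun i => ?_) _
  have h5 := h4 _ (St.TabE7.tabE7.cartan_fun i i.2)
  simp only [Pi.add_apply, nsmul_eq_mul]
  exact h5

theorem bf_comb {r s c i j : ℕ} (h : rc c = i • rc r + j • rc s) : bf β (rv c) = i * bf β (rv r) + j * bf β (rv s) := by
  rw [rv, h, cv_add, cv_nsmul, cv_nsmul, map_add, map_smul, map_smul]
  rfl

variable (K) in
/-- the root groups of level `≥ d` -/
def Ud (β : E) (d : ℝ) : Subgroup (Gh K) := GS K {r | r < 126 ∧ d ≤ bf β (rv r)}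

variable (K) in
/-- the root groups of level `> d` -/
def Ug (β : E) (d : ℝ) : Subgroup (Gh K) := GS K {r | r < 126 ∧ d < bf β (rv r)}

theorem xs_mem_Ud {r : ℕ} (hr : r < 126) (h : d ≤ bf β (rv r)) (t : K) : xs K r t ∈ Ud K β d :=
  xs_mem_GS (show r ∈ {r | r < 126 ∧ d ≤ bf β (rv r)} from ⟨hr, h⟩) t

theorem xs_mem_Ug {r : ℕ} (hr : r < 126) (h : d < bf β (rv r)) (t : K) : xs K r t ∈ Ug K β d :=
  xs_mem_GS (show r ∈ {r | r < 126 ∧ d < bf β (rv r)} from ⟨hr, h⟩) t

theorem Ud_le_Pl (hd : 0 ≤ d) : Ud K β d ≤ Pl K β := GS_le fun _ hr t => xs_mem_Pl hr.1 (hd.trans hr.2) t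

theorem Ug_le_Ul (hd : 0 ≤ d) : Ug K β d ≤ Ul K β := GS_le fun _ hr t => xs_mem_Ul hr.1 (hd.trans_lt hr.2) t

/-- upper sets of positive levels are normal in the parabolic subgroup -/
theorem Pl_conj_GS {Q : ℝ → Prop} (h0 : ∀ x, Q x → 0 < x) (hQ : ∀ x y, Q x → x ≤ y → Q y) {g : Gh K} (hg : g ∈ Pl K β) :
    ∀ y ∈ GS K {r | r < 126 ∧ Q (bf β (rv r))}, g⁻¹ * y * g ∈ GS K {r | r < 126 ∧ Q (bf β (rv r))} := by
  refine Pl_induction (P := fun g => ∀ y ∈ GS K {r | r < 126 ∧ Q (bf β (rv r))},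
    g⁻¹ * y * g ∈ GS K {r | r < 126 ∧ Q (bf β (rv r))}) ?_ ?_ ?_ ?_ hg
  · intro y hy
    rwa [inv_one, one_mul, mul_one]
  · intro a b _ _ ha hb y hy
    rw [show (a * b)⁻¹ * y * (a * b) = b⁻¹ * (a⁻¹ * y * a) * b by group]
    exact hb _ (ha _ hy)
  · intro r hr hr0 t y hy
    refine GS_induction (P := fun y => (xs K r t)⁻¹ * y * xs K r t ∈ GS K {r | r < 126 ∧ Q (bf β (rv r))}) ?_ ?_ ?_ hy
    · rw [mul_one, inv_mul_cancel]; exact one_mem _
    · intro x y _ _ hx hy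
      rw [show (xs K r t)⁻¹ * (x * y) * xs K r t = (xs K r t)⁻¹ * x * xs K r t * ((xs K r t)⁻¹ * y * xs K r t) by group]
      exact mul_mem hx hy
    · intro s hs v
      have h1 := h0 _ hs.2
      rw [show (xs K r t)⁻¹ * xs K s v * xs K r t = xs K s v * ((xs K s v)⁻¹ * (xs K r t)⁻¹ * xs K s v * xs K r t) by group]
      refine mul_mem (xs_mem_GS hs v) (xs_comm hr hs.1 ?_ t v fun c hc i j _ hj h x =>
        xs_mem_GS (show c ∈ {r | r < 126 ∧ Q (bf β (rv r))} from ⟨hc, hQ _ _ hs.2 ?_⟩) x)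
      · rintro rfl
        rw [rv_neg hr, map_neg] at h1
        linarith
      · rw [bf_comb h]
        have h2 : (1 : ℝ) ≤ j := by exact_mod_cast hj
        have h3 : 0 ≤ (i : ℝ) * bf β (rv r) := mul_nonneg (Nat.cast_nonneg i) hr0
        nlinarith only [h1, h2, h3]
  · intro a y hy
    have h := Phi_conj_GS (fun r hr => hr.1) a⁻¹ hy
    rwa [map_inv, inv_inv] at h

theorem Pl_conj_Ud (hd : 0 < d) {g y : Gh K} (hg : g ∈ Pl K β) (hy : y ∈ Ud K β d) : g⁻¹ * y * g ∈ Ud K β d :=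
  Pl_conj_GS (Q := fun x => d ≤ x) (fun _ h => hd.trans_le h) (fun _ _ h h' => h.trans h') hg y hy

theorem Pl_conj_Ug (hd : 0 ≤ d) {g y : Gh K} (hg : g ∈ Pl K β) (hy : y ∈ Ug K β d) : g⁻¹ * y * g ∈ Ug K β d :=
  Pl_conj_GS (Q := fun x => d < x) (fun _ h => hd.trans_lt h) (fun _ _ h h' => h.trans_le h') hg y hy

/-- **the Levi decomposition** -/
theorem Pl_levi {y : Gh K} (hy : y ∈ Pl K β) : ∃ l ∈ Pl K β ⊓ Pl K (-β), ∃ x ∈ Ug K β 0, y = l * x := by
  refine Pl_induction (P := fun y => ∃ l ∈ Pl K β ⊓ Pl K (-β), ∃ x ∈ Ug K β 0, y = l * x) ?_ ?_ ?_ ?_ hy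
  · exact ⟨1, one_mem _, 1, one_mem _, (mul_one _).symm⟩
  · rintro _ _ - - ⟨l, hl, x, hx, rfl⟩ ⟨l', hl', x', hx', rfl⟩
    exact ⟨l * l', mul_mem hl hl', _, mul_mem (Pl_conj_Ug le_rfl hl'.1 hx) hx', by group⟩
  · intro r hr h0 t
    rcases h0.eq_or_lt with h | h
    · refine ⟨_, ⟨xs_mem_Pl hr h0 t, xs_mem_Pl hr ?_ t⟩, 1, one_mem _, (mul_one _).symm⟩
      rw [map_neg, LinearMap.neg_apply, ← h, neg_zero]
    · exact ⟨1, one_mem _, _, xs_mem_Ug hr h t, (one_mul _).symm⟩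
  · intro a
    exact ⟨_, ⟨Phi_mem_Pl _ a, Phi_mem_Pl _ a⟩, 1, one_mem _, (mul_one _).symm⟩

theorem eq_one_of_Ul_Pl {y : Gh K} (hy : y ∈ Ul K β) (hy' : y ∈ Pl K (-β)) : y = 1 := by
  apply rho_injective
  rw [map_one, ← sub_eq_zero]
  refine eq_zero_of_MGt_neg (STri_iff.1 hy.2) ?_
  rw [neg_zero]
  exact sub_mem (rho_mem_MGe hy') one_mem_MGe

theorem Ul_eq : Ul K β = Ug K β 0 := by
  refine le_antisymm (fun y hy => ?_) (Ug_le_Ul le_rfl)
  obtain ⟨l, hl, x, hx, e⟩ := Pl_levi hy.1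
  have h1 : l = 1 := eq_one_of_Ul_Pl (by
    rw [show l = y * x⁻¹ by rw [e]; group]
    exact mul_mem hy (inv_mem (Ug_le_Ul le_rfl hx))) hl.2
  rwa [e, h1, one_mul]

theorem rho_mul_sub (x y : Gh K) :
    rho K (x * y) - 1 = (rho K x - 1) + (rho K y - 1) + (rho K x - 1) * (rho K y - 1) := by
  rw [map_mul]; noncomm_ring

theorem Ud_MGe (hd : 0 ≤ d) {y : Gh K} (hy : y ∈ Ud K β d) : rho K y - 1 ∈ MGe K β d := by
  refine GS_induction (P := fun y => rho K y - 1 ∈ MGe K β d) ?_ ?_ ?_ hy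
  · rw [map_one, sub_self]; exact zero_mem _
  · intro x y _ _ hx hy
    rw [rho_mul_sub]
    exact add_mem (add_mem hx hy) (MGe_mono (by linarith) (MGe_mul hx hy))
  · intro r hr t
    rw [rho_xs' hr.1, add_sub_cancel_left]
    exact Submodule.smul_mem _ _ (MGe_mono hr.2 (NM_mem hr.1))

theorem Ug_MGt (hd : 0 ≤ d) {y : Gh K} (hy : y ∈ Ug K β d) : rho K y - 1 ∈ MGt K β d := by
  refine GS_induction (P := fun y => rho K y - 1 ∈ MGt K β d) ?_ ?_ ?_ hy
  · rw [map_one, sub_self]; exact zero_mem _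
  · intro x y _ _ hx hy
    rw [rho_mul_sub]
    exact add_mem (add_mem hx hy) (MGt_mono (by linarith) (MGt_mul hx (MGt_le hy)))
  · intro r hr t
    rw [rho_xs' hr.1, add_sub_cancel_left]
    exact Submodule.smul_mem _ _ (MGe_le_MGt hr.2 (NM_mem hr.1))

variable (K) in
/-- the vectors of level `d` -/
def Lv {I : Type*} (c : I → Fin 7 → ℤ) (β : E) (d : ℝ) : Submodule K (I → K) where
  carrier := {x | ∀ i, x i ≠ 0 → bf β (cv (c i)) = d}
  zero_mem' := fun _ h => absurd rfl h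
  add_mem' := by
    intro x y hx hy i hi
    by_cases h : x i = 0
    · rw [Pi.add_apply, h, zero_add] at hi
      exact hy i hi
    · exact hx i h
  smul_mem' := fun _ _ hx i hi => hx i (right_ne_zero_of_mul hi)

theorem mem_Lv {I : Type*} {c : I → Fin 7 → ℤ} {x : I → K} : x ∈ Lv K c β d ↔ ∀ i, x i ≠ 0 → bf β (cv (c i)) = d := Iff.rfl

theorem Lv_le_Ge {I : Type*} {c : I → Fin 7 → ℤ} : Lv K c β d ≤ Ge K c β d := fun _ h i hi => (h i hi).ge

theorem eq_zero_of_Lv_Gt {I : Type*} {c : I → Fin 7 → ℤ} {x : I → K} (h : x ∈ Lv K c β d) (h' : x ∈ Gt K c β d) :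
    x = 0 := by
  funext i
  by_contra hi
  exact (h' i hi).ne' (h i hi)

theorem lead_mul (hd : 0 < d) {x y : Gh K} {z z' : chevE7.Idx → K} (hz : z ∈ Ge K ac β d) (hz' : z' ∈ Ge K ac β d)
    (hx : rho K x - 1 - del K z ∈ MGt K β d) (hy : rho K y - 1 - del K z' ∈ MGt K β d) :
    rho K (x * y) - 1 - del K (z + z') ∈ MGt K β d := by
  have h1 : rho K x - 1 ∈ MGe K β d := by
    have := add_mem (MGt_le hx) (del_mem_MGe hz)
    rwa [sub_add_cancel] at this
  have h2 : rho K y - 1 ∈ MGe K β d := by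
    have := add_mem (MGt_le hy) (del_mem_MGe hz')
    rwa [sub_add_cancel] at this
  rw [rho_mul_sub, map_add, show rho K x - 1 + (rho K y - 1) + (rho K x - 1) * (rho K y - 1) - (del K z + del K z') =
    (rho K x - 1 - del K z) + (rho K y - 1 - del K z') + (rho K x - 1) * (rho K y - 1) by abel]
  exact add_mem (add_mem hx hy) (MGe_le_MGt (by linarith) (MGe_mul h1 h2))

theorem lead_xs {r : ℕ} (hr : r < 126) (t : K) :
    rho K (xs K r t) - 1 - del K (Pi.single (Sum.inr ⟨r, hr⟩) t) = 0 := by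
  rw [rho_xs' hr, add_sub_cancel_left, show (Pi.single (Sum.inr ⟨r, hr⟩) t : chevE7.Idx → K) =
    t • Pi.single (Sum.inr ⟨r, hr⟩) 1 by rw [← Pi.single_smul, smul_eq_mul, mul_one], map_smul, R2.PX.del_inr, sub_self]

theorem single_mem_Lv {r : ℕ} (hr : r < 126) (t : K) :
    (Pi.single (Sum.inr ⟨r, hr⟩) t : chevE7.Idx → K) ∈ Lv K ac β (bf β (rv r)) := by
  intro i hi
  have h : i = Sum.inr ⟨r, hr⟩ := by
    by_contra hne
    exact hi (Pi.single_eq_of_ne hne _)
  rw [h]; rfl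

/-- the leading term and the kernel of the leading term -/
theorem Ud_lead (hd : 0 < d) {y : Gh K} (hy : y ∈ Ud K β d) :
    ∃ z ∈ Lv K ac β d, rho K y - 1 - del K z ∈ MGt K β d ∧ (z = 0 → y ∈ Ug K β d) := by
  classical
  let N : Subgroup (Ud K β d) := (Ug K β d).subgroupOf (Ud K β d)
  have hN : N.Normal := ⟨fun n hn g => by
    have h := Pl_conj_Ug hd.le (inv_mem (Ud_le_Pl hd.le g.2)) hn
    rw [inv_inv] at h
    exact h⟩
  have hgen : ∀ {P : Ud K β d → Prop}, P 1 → (∀ a b, P a → P b → P (a * b)) →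
      (∀ r (hr : r < 126) (h : d ≤ bf β (rv r)) t, P ⟨xs K r t, xs_mem_Ud hr h t⟩) → ∀ y, P y := by
    intro P h1 hm hx y
    obtain ⟨_, h⟩ := GS_induction (P := fun y => ∃ h : y ∈ Ud K β d, P ⟨y, h⟩) ⟨one_mem _, h1⟩
      (fun a b _ _ ⟨ha, ha'⟩ ⟨hb, hb'⟩ => ⟨mul_mem ha hb, hm _ _ ha' hb'⟩)
      (fun r hr t => ⟨xs_mem_Ud hr.1 hr.2 t, hx r hr.1 hr.2 t⟩) y.2
    exact h
  let π := QuotientGroup.mk' N
  have hcomm : ∀ a b : Ud K β d, π a * π b = π b * π a := by
    intro a b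
    refine hgen (P := fun a => π a * π b = π b * π a) (by rw [map_one, one_mul, mul_one]) (fun x y hx hy => by
      rw [map_mul, mul_assoc, hy, ← mul_assoc, hx, mul_assoc]) (fun r hr h t => ?_) a
    refine hgen (P := fun b => π ⟨xs K r t, xs_mem_Ud hr h t⟩ * π b = π b * π ⟨xs K r t, xs_mem_Ud hr h t⟩)
      (by rw [map_one, one_mul, mul_one]) (fun x y hx hy => by
      rw [map_mul, ← mul_assoc, hx, mul_assoc, hy, mul_assoc]) (fun s hs h' v => ?_) b
    rw [← map_mul, ← map_mul, QuotientGroup.mk'_apply, QuotientGroup.mk'_apply, QuotientGroup.eq]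
    show (xs K r t * xs K s v)⁻¹ * (xs K s v * xs K r t) ∈ Ug K β d
    rw [show (xs K r t * xs K s v)⁻¹ * (xs K s v * xs K r t) =
      (xs K s v)⁻¹ * (xs K r t)⁻¹ * xs K s v * xs K r t by group]
    refine xs_comm hr hs ?_ t v fun c hc i j hi hj e x => xs_mem_Ug hc ?_ x
    · rintro rfl
      rw [rv_neg hr, map_neg] at h'
      linarith only [hd, h, h']
    · rw [bf_comb e]
      have h2 : (1 : ℝ) ≤ j := by exact_mod_cast hj
      have h3 : (1 : ℝ) ≤ i := by exact_mod_cast hi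
      nlinarith only [hd, h, h', h2, h3]
  let _ : CommGroup (Ud K β d ⧸ N) := { (inferInstance : Group (Ud K β d ⧸ N)) with
    mul_comm := fun a b => by
      obtain ⟨a, rfl⟩ := QuotientGroup.mk'_surjective N a
      obtain ⟨b, rfl⟩ := QuotientGroup.mk'_surjective N b
      exact hcomm a b }
  let φ : Fin chevE7.nroots → K → Ud K β d ⧸ N := fun r t =>
    if h : d ≤ bf β (rv r) then π ⟨xs K r t, xs_mem_Ud r.2 h t⟩ else 1
  have hφ : ∀ r s t, φ r (s + t) = φ r s * φ r t := by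
    intro r s t
    by_cases h : d ≤ bf β (rv r)
    · simp only [φ, dif_pos h]
      rw [← map_mul]
      exact congrArg π (Subtype.ext (xs_mul r s t).symm)
    · simp only [φ, dif_neg h, mul_one]
  have hφ0 : ∀ r, φ r 0 = 1 := fun r => by
    have h := hφ r 0 0
    rw [add_zero] at h
    exact left_eq_mul.1 h
  have key : ∀ y : Ud K β d, ∃ z ∈ Lv K ac β d, rho K y - 1 - del K z ∈ MGt K β d ∧ π y = ∏ r, φ r (z (Sum.inr r)) := by
    refine hgen ⟨0, zero_mem _, ?_, ?_⟩ ?_ ?_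
    · rw [OneMemClass.coe_one, map_one, map_zero, sub_self, sub_self]; exact zero_mem _
    · rw [map_one]
      exact (Finset.prod_eq_one fun r _ => hφ0 r).symm
    · rintro a b ⟨z, hz, h1, h2⟩ ⟨z', hz', h1', h2'⟩
      refine ⟨z + z', add_mem hz hz', lead_mul hd (Lv_le_Ge hz) (Lv_le_Ge hz') h1 h1', ?_⟩
      rw [map_mul, h2, h2', ← Finset.prod_mul_distrib]
      exact Finset.prod_congr rfl fun r _ => (hφ r _ _).symm
    · intro r hr h t
      rcases h.eq_or_lt with h1 | h1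
      · refine ⟨Pi.single (Sum.inr ⟨r, hr⟩) t, by rw [h1]; exact single_mem_Lv hr t, ?_, ?_⟩
        · rw [lead_xs hr]; exact zero_mem _
        · rw [Finset.prod_eq_single (⟨r, hr⟩ : Fin chevE7.nroots) (fun s _ hs => by
            rw [Pi.single_eq_of_ne (fun e => hs (Sum.inr_injective e)), hφ0])
            (fun h => absurd (Finset.mem_univ _) h), Pi.single_eq_same]
          simp only [φ, dif_pos h]
      · refine ⟨0, zero_mem _, ?_, ?_⟩
        · rw [map_zero, sub_zero]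
          exact Ug_MGt hd.le (xs_mem_Ug hr h1 t)
        · exact ((QuotientGroup.eq_one_iff (N := N) (⟨xs K r t, xs_mem_Ud hr h t⟩ : Ud K β d)).2
            (xs_mem_Ug hr h1 t)).trans (Finset.prod_eq_one fun r _ => hφ0 r).symm
  obtain ⟨z, hz, h1, h2⟩ := key ⟨y, hy⟩
  refine ⟨z, hz, h1, fun h0 => ?_⟩
  rw [h0] at h2
  exact (QuotientGroup.eq_one_iff (N := N) (⟨y, hy⟩ : Ud K β d)).1 (h2.trans (Finset.prod_eq_one fun r _ => hφ0 r))

theorem mem_Ug_of_Ud (hd : 0 < d) {y : Gh K} (hy : y ∈ Ud K β d) (h : rho K y - 1 ∈ MGt K β d) : y ∈ Ug K β d := by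
  obtain ⟨z, hz, h1, h2⟩ := Ud_lead hd hy
  refine h2 (eq_zero_of_Lv_Gt hz (mem_Gt_of_del ?_))
  have h3 := sub_mem h h1
  rwa [sub_sub_cancel] at h3

theorem mem_Ud_of_MGe {y : Gh K} (hy : y ∈ Ul K β) (h : rho K y - 1 ∈ MGe K β d) : y ∈ Ud K β d := by
  classical
  have key : ∀ (n : ℕ) (e : ℝ), 0 ≤ e → ((Finset.range 126).filter fun r => e < bf β (rv r) ∧ bf β (rv r) < d).card ≤ n →
      y ∈ Ug K β e → y ∈ Ud K β d := by
    intro n
    induction n with
    | zero =>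
      intro e _ hc hy
      rw [Nat.le_zero, Finset.card_eq_zero, Finset.filter_eq_empty_iff] at hc
      refine GS_le (fun r hr t => xs_mem_Ud hr.1 ?_ t) hy
      by_contra hlt
      exact hc (Finset.mem_range.2 hr.1) ⟨hr.2, not_le.1 hlt⟩
    | succ n ih =>
      intro e he hc hy
      by_cases hne : ((Finset.range 126).filter fun r => e < bf β (rv r) ∧ bf β (rv r) < d).Nonempty
      · obtain ⟨r, hr, hmin⟩ := Finset.exists_min_image _ (fun r => bf β (rv r)) hne
        obtain ⟨-, h1, h2⟩ := Finset.mem_filter.1 hr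
        refine ih (bf β (rv r)) (he.trans h1.le) ?_ (mem_Ug_of_Ud (he.trans_lt h1) ?_ (MGe_le_MGt h2 h))
        · refine Nat.lt_succ_iff.1 (lt_of_lt_of_le (Finset.card_lt_card ⟨fun s hs => ?_, fun hsub => ?_⟩) hc)
          · rw [Finset.mem_filter] at hs ⊢
            exact ⟨hs.1, h1.trans hs.2.1, hs.2.2⟩
          · exact lt_irrefl _ (Finset.mem_filter.1 (hsub hr)).2.1
        · refine GS_le (fun s hs t => xs_mem_Ud hs.1 ?_ t) hy
          by_cases h3 : bf β (rv s) < d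
          · exact hmin s (Finset.mem_filter.2 ⟨Finset.mem_range.2 hs.1, hs.2, h3⟩)
          · exact h2.le.trans (not_lt.1 h3)
      · rw [Finset.not_nonempty_iff_eq_empty] at hne
        exact ih e he (by rw [hne]; exact Nat.zero_le _) hy
  exact key _ 0 le_rfl le_rfl (Ul_eq (K := K) (β := β) ▸ hy)

/-- **LEADU** -/
theorem leadu (hd : 0 < d) {y : Gh K} (hy : y ∈ Ul K β) (h : rho K y - 1 ∈ MGe K β d) :
    ∃ z ∈ Lv K ac β d, rho K y - 1 - del K z ∈ MGt K β d := by
  obtain ⟨z, hz, h1, -⟩ := Ud_lead hd (mem_Ud_of_MGe hy h)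
  exact ⟨z, hz, h1⟩

end Cfsg.Agent.E7P.Kf
end

-- part: E7P/Frm/Tor
section
/-!
# S5932: semisimple elements and frames (helper32)

* `exists_conj_T`, `exists_conj_T_Pl`, `exists_conj_T_two` : semisimple elements are conjugate into the torus;
* `conj_T_nL` : conjugacy in the torus is controlled by the Weyl group;
* `Sit.exists_frame`, `Frame.mem`, `Frame.β'` ...
-/

set_option autoImplicit false
set_option maxRecDepth 100000

namespace Cfsg.Agent.E7P

open Cfsg Cfsg.Lie Matrix Module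
open Cfsg.Agent.H943.E7V.Block (D1 rho)
open Cfsg.Agent.R2.T1 Cfsg.Agent.E7P.Kf
open Cfsg.Agent.BpExc.TorAll (HAlg)
open Cfsg.Agent.H943.SL2Rel (u w h)

universe u v

namespace Kf

variable {K : Type u} [Field K]

theorem finite_Gh [Finite K] : Finite (Gh K) := Finite.of_injective _ (rho_injective (K := K))

theorem finite_closure [IsAlgClosed K] {p : ℕ} (hp : p.Prime) [CharP K p] (hA : HAlg p K) {S : Set (Gh K)}
    (hS : S.Finite) : Finite (Subgroup.closure S) := by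
  have : Fact p.Prime := ⟨hp⟩
  obtain ⟨N, hN, h1⟩ := exists_fin hA hS
  have := finite_fixF (K := K) p hN
  have := finite_Gh (K := fixF (K := K) p N)
  have h2 : Subgroup.closure S ≤ (emb (fixF (K := K) p N).subtype).range := (Subgroup.closure_le _).2 h1
  exact (Set.finite_range (emb (fixF (K := K) p N).subtype)).subset h2

theorem coprime_of_cast {p N : ℕ} (hp : p.Prime) [CharP K p] (hN : (N : K) ≠ 0) : N.Coprime p :=
  (hp.coprime_iff_not_dvd.2 fun h => hN ((CharP.cast_eq_zero_iff K p N).2 h)).symm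

/-- **semisimple elements are toral** -/
theorem exists_conj_T [IsAlgClosed K] {p : ℕ} (hp : p.Prime) [CharP K p] (hA : HAlg p K) {y : Gh K} {N : ℕ}
    (hN : (N : K) ≠ 0) (hy : y ^ N = 1) : ∃ g t, y = g * Phi K t * g⁻¹ := by
  have : Fact p.Prime := ⟨hp⟩
  obtain ⟨g, c, h1, -⟩ := frameK p hA (by rintro rfl; exact hN Nat.cast_zero) (coprime_of_cast hp hN) hy
  exact ⟨g⁻¹, c, by rw [h1]; group⟩

theorem conj_of_coset [IsAlgClosed K] {p : ℕ} (hp : p.Prime) [CharP K p] (hA : HAlg p K) {Q : Subgroup (Gh K)}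
    (hQ : IsPGroup p Q) {x y : Gh K} {N : ℕ} (hN : (N : K) ≠ 0) (hx : x ^ N = 1) (hy : y ^ N = 1)
    (hn : ∀ v ∈ Q, x * v * x⁻¹ ∈ Q) (hxy : y * x⁻¹ ∈ Q) : ∃ v ∈ Q, y = v * x * v⁻¹ := by
  have : Fact p.Prime := ⟨hp⟩
  have := finite_closure hp hA (Set.toFinite {x, y})
  let Γ := Subgroup.closure ({x, y} : Set (Gh K))
  have hx' : x ∈ Γ := Subgroup.subset_closure (Or.inl rfl)
  have hy' : y ∈ Γ := Subgroup.subset_closure (Or.inr rfl)
  have hc := coprime_of_cast hp hN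
  obtain ⟨v, hv, e⟩ := H757.exists_conj_of_coset (G := Γ) (V := Q.subgroupOf Γ)
    (hQ.comap_of_injective _ Γ.subtype_injective) (κ := ⟨x, hx'⟩) (κ₁ := ⟨y, hy'⟩) (fun v hv => hn v hv)
    (Nat.Coprime.coprime_dvd_left (orderOf_dvd_of_pow_eq_one (Subtype.ext hx)) hc)
    (Nat.Coprime.coprime_dvd_left (orderOf_dvd_of_pow_eq_one (Subtype.ext hy)) hc) hxy
  exact ⟨v, hv, congrArg Subtype.val e⟩

theorem Ul_diag {β : E} {x : Gh K} (hx : x ∈ Ul K β) (i : D1) : rho K x i i = 1 := by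
  by_contra hne
  exact lt_irrefl _ (hx.2 i i (by rw [Matrix.sub_apply, one_apply_eq]; exact sub_ne_zero.2 hne))

/-- the toral part is determined by the diagonal -/
theorem Phi_eq_of_mul {β γ : E} {x y : Gh K} (hx : x ∈ Ul K β) (hy : y ∈ Ul K γ) {a b : Fin chevE7.rank → Kˣ}
    (e : x * Phi K a = y * Phi K b) : Phi K a = Phi K b := by
  apply rho_injective
  have h1 := congrArg (rho K) e
  rw [map_mul, map_mul, rho_Phi, rho_Phi] at h1
  rw [rho_Phi, rho_Phi]
  congr 1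
  funext i
  have h2 := congrFun (congrFun h1 i) i
  rwa [mul_diagonal, mul_diagonal, Ul_diag hx, Ul_diag hy, one_mul, one_mul] at h2

theorem mul_Phi_pow {β : E} {x : Gh K} (hx : x ∈ Ul K β) (a : Fin chevE7.rank → Kˣ) (n : ℕ) :
    ∃ x' ∈ Ul K β, (x * Phi K a) ^ n = x' * Phi K (a ^ n) := by
  induction n with
  | zero => exact ⟨1, one_mem _, by rw [pow_zero, pow_zero, map_one, mul_one]⟩
  | succ n ih =>
    obtain ⟨x', hx', e⟩ := ih
    exact ⟨_, mul_mem hx' (Ul_conj (Phi_mem_Pl β (a ^ n)) hx), by rw [pow_succ, e, pow_succ, map_mul]; group⟩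

/-- a semisimple element in the intersection of the Borel subgroup with a parabolic subgroup -/
theorem exists_conj_T_aux [IsAlgClosed K] {p : ℕ} (hp : p.Prime) [CharP K p] (hA : HAlg p K) {y : Gh K} {N : ℕ}
    (hN : (N : K) ≠ 0) (hy : y ^ N = 1) (h1 : y ∈ Pl K rho1) {β : E} (hβ : Dom β) {x : Gh K}
    (h2 : x⁻¹ * y * x ∈ Pl K β) :
    ∃ g ∈ Pl K rho1, ∃ l t, y = g * Phi K t * g⁻¹ ∧ (g * nL K l)⁻¹ * x ∈ Pl K β := by
  obtain ⟨b, b', l, hb, hb', e⟩ := bruhat x
  have h3 : b⁻¹ * y * b ∈ Pl K (wL l β) := by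
    rw [← nL_conj_Pl_iff, show (nL K l)⁻¹ * (b⁻¹ * y * b) * nL K l = b' * (x⁻¹ * y * x) * b'⁻¹ by rw [e]; group]
    exact mul_mem (mul_mem (hb' β hβ) h2) (inv_mem (hb' β hβ))
  have hb1 := hb _ dom_rho1
  obtain ⟨z, hz, a, e1⟩ := Pl_rho1 (mul_mem (mul_mem (inv_mem hb1) h1) hb1)
  have h4 : (b⁻¹ * y * b) ^ N = 1 := by
    have h5 := conj_pow (a := b⁻¹) (b := y) (i := N)
    rw [inv_inv] at h5
    rw [h5, hy, mul_one, inv_mul_cancel]
  have h5 : Phi K a ^ N = 1 := by
    obtain ⟨z', hz', e2⟩ := mul_Phi_pow hz a N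
    rw [← e1, h4] at e2
    rw [← map_pow, ← Phi_eq_of_mul (one_mem (Ul K rho1)) hz' (a := 1) (by rw [map_one, mul_one]; exact e2), map_one]
  obtain ⟨v, hv, e2⟩ := conj_of_coset hp hA (Q := Ul K rho1 ⊓ Pl K (wL l β)) ((isPGroup_Ul hp rho1).to_le inf_le_left)
    hN h5 h4 (fun v hv => Subgroup.mem_inf.2 ⟨Ul_conj (Phi_mem_Pl _ a) hv.1,
      mul_mem (mul_mem (Phi_mem_Pl _ a) (Subgroup.mem_inf.1 hv).2) (inv_mem (Phi_mem_Pl _ a))⟩)
    (Subgroup.mem_inf.2 ⟨by rw [e1, mul_inv_cancel_right]; exact hz, mul_mem h3 (inv_mem (Phi_mem_Pl _ a))⟩)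
  refine ⟨b * v, mul_mem hb1 hv.1.1, l, a, ?_, ?_⟩
  · rw [show b * v * Phi K a * (b * v)⁻¹ = b * (v * Phi K a * v⁻¹) * b⁻¹ by group, ← e2]; group
  · rw [show (b * v * nL K l)⁻¹ * x = (nL K l)⁻¹ * v⁻¹ * nL K l * b' by rw [e]; group]
    exact mul_mem (nL_conj_Pl' l (inv_mem (Subgroup.mem_inf.1 hv).2)) (hb' β hβ)

theorem exists_conj_T_dom [IsAlgClosed K] {p : ℕ} (hp : p.Prime) [CharP K p] (hA : HAlg p K) {y : Gh K} {N : ℕ}
    (hN : (N : K) ≠ 0) (hy : y ^ N = 1) {β : E} (hβ : Dom β) (h1 : y ∈ Pl K β) :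
    ∃ g ∈ Pl K β, ∃ t, y = g * Phi K t * g⁻¹ := by
  obtain ⟨x, t, e⟩ := exists_conj_T hp hA hN hy
  have h2 : Phi K t ^ N = 1 := by
    have h3 : Phi K t = x⁻¹ * y * x⁻¹⁻¹ := by rw [e]; group
    rw [h3, conj_pow, hy, mul_one, mul_inv_cancel]
  obtain ⟨g, -, l, s, e1, h3⟩ := exists_conj_T_aux hp hA hN h2 (Phi_mem_Pl _ t) hβ (x := x⁻¹)
    (by rw [inv_inv, ← e]; exact h1)
  obtain ⟨s', e2⟩ := nL_conj_Phi' (K := K) l s
  refine ⟨x * (g * nL K l), ?_, s', ?_⟩
  · have h4 := inv_mem h3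
    rwa [_root_.mul_inv_rev, inv_inv, inv_inv] at h4
  · rw [← e2, e, e1]; group

/-- **semisimple elements of a parabolic subgroup** -/
theorem exists_conj_T_Pl [IsAlgClosed K] {p : ℕ} (hp : p.Prime) [CharP K p] (hA : HAlg p K) {y : Gh K} {N : ℕ}
    (hN : (N : K) ≠ 0) (hy : y ^ N = 1) {β : E} (h1 : y ∈ Pl K β) :
    ∃ g ∈ Pl K β, ∃ t, y = g * Phi K t * g⁻¹ := by
  obtain ⟨l, hl⟩ := exists_dom β
  obtain ⟨g, hg, t, e⟩ := exists_conj_T_dom hp hA hN (y := nL K l * y * (nL K l)⁻¹)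
    (by rw [conj_pow, hy, mul_one, mul_inv_cancel]) hl (nL_conj_Pl l h1)
  obtain ⟨s, e2⟩ := nL_conj_Phi' (K := K) l t
  refine ⟨_, nL_conj_Pl' l hg, s, ?_⟩
  rw [← e2, show y = (nL K l)⁻¹ * (nL K l * y * (nL K l)⁻¹) * nL K l by group, e]
  group

/-- **semisimple elements of two parabolic subgroups** -/
theorem exists_conj_T_two [IsAlgClosed K] {p : ℕ} (hp : p.Prime) [CharP K p] (hA : HAlg p K) {y : Gh K} {N : ℕ}
    (hN : (N : K) ≠ 0) (hy : y ^ N = 1) {β γ : E} (hβ : Dom β) (hγ : Dom γ) (h1 : y ∈ Pl K β) {x : Gh K}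
    (h2 : x⁻¹ * y * x ∈ Pl K γ) :
    ∃ g ∈ Pl K β, ∃ l t, y = g * Phi K t * g⁻¹ ∧ (g * nL K l)⁻¹ * x ∈ Pl K γ := by
  obtain ⟨g, hg, t, e⟩ := exists_conj_T_dom hp hA hN hy hβ h1
  have h3 : Phi K t ^ N = 1 := by
    have h3 : Phi K t = g⁻¹ * y * g⁻¹⁻¹ := by rw [e]; group
    rw [h3, conj_pow, hy, mul_one, mul_inv_cancel]
  obtain ⟨g', hg', l, s, e1, h4⟩ := exists_conj_T_aux hp hA hN h3 (Phi_mem_Pl _ t) hγ (x := g⁻¹ * x) (by
    rw [show (g⁻¹ * x)⁻¹ * Phi K t * (g⁻¹ * x) = x⁻¹ * y * x by rw [e]; group]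
    exact h2)
  refine ⟨g * g', mul_mem hg (Pl_rho1_le hβ hg'), l, s, by rw [e, e1]; group, ?_⟩
  rwa [show (g * g' * nL K l)⁻¹ * x = (g' * nL K l)⁻¹ * (g⁻¹ * x) by group]

/-- **conjugacy in the torus is controlled by the Weyl group** -/
theorem conj_T_nL [Infinite K] (g : Gh K) : ∃ l, ∀ a b, g * Phi K a * g⁻¹ = Phi K b →
    nL K l * Phi K a * (nL K l)⁻¹ = Phi K b := by
  obtain ⟨x, x', l, hx, hx', e⟩ := bruhat g
  refine ⟨l, fun a b hab => ?_⟩
  obtain ⟨z, hz, c, rfl⟩ := Pl_rho1 (hx _ dom_rho1)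
  obtain ⟨z', hz', c', rfl⟩ := Pl_rho1 (hx' _ dom_rho1)
  obtain ⟨a', ha'⟩ := nL_conj_Phi (K := K) l a
  have hc : ∀ s t, Phi K s * Phi K t = Phi K t * Phi K s := fun s t => by rw [← map_mul, ← map_mul, mul_comm]
  have h1 : z' * (Phi K a * z'⁻¹ * (Phi K a)⁻¹) ∈ Ul K rho1 := mul_mem hz' (Ul_conj (Phi_mem_Pl _ a) (inv_mem hz'))
  have h2 : (Phi K c)⁻¹ * (z⁻¹ * (Phi K b * z * (Phi K b)⁻¹)) * (Phi K c)⁻¹⁻¹ ∈ Ul K rho1 :=
    Ul_conj (inv_mem (Phi_mem_Pl _ c)) (mul_mem (inv_mem hz) (Ul_conj (Phi_mem_Pl _ b) hz))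
  rw [ha']
  refine Phi_eq_of_mul (nL_conj_Ul l h1) h2 ?_
  calc _ = nL K l * z' * Phi K a * z'⁻¹ * (nL K l)⁻¹ := by rw [← ha']; group
    _ = nL K l * z' * (Phi K c' * Phi K a) * (Phi K c')⁻¹ * z'⁻¹ * (nL K l)⁻¹ := by rw [hc c' a]; group
    _ = (Phi K c)⁻¹ * z⁻¹ * (g * Phi K a * g⁻¹) * z * Phi K c := by rw [e]; group
    _ = (Phi K c)⁻¹ * z⁻¹ * Phi K b * z * (Phi K b)⁻¹ * (Phi K b * Phi K c) := by rw [hab]; group
    _ = _ := by rw [hc b c]; group

end Kf

namespace Sit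

variable {p a b : ℕ} {F : Type u} {K : Type v} {k : Type u} [Field F] [Fintype F] [Field K] [Fintype K] [Field k]
  (S : Sit p a b F K k)

include S in
theorem cast_card : ((Fintype.card K - 1 : ℕ) : k) ≠ 0 := by
  have := S.chark
  rw [Nat.cast_sub Fintype.card_pos, S.cardK, Nat.cast_pow, CharP.cast_eq_zero,
    zero_pow (by have := S.ha; omega), zero_sub, Nat.cast_one]
  exact neg_ne_zero.2 one_ne_zero

theorem ψ_h_pow (c : Kˣ) : S.ψ (h c) ^ (Fintype.card K - 1) = 1 := by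
  classical
  rw [← map_pow, ← H943.SL2Rel.h_pow, ← Fintype.card_units, pow_card_eq_one, H943.SL2Rel.h_one, map_one]

theorem ψ_h_norm (c : Kˣ) {x : Gh k} (hx : x ∈ S.U) : S.ψ (h c) * x * (S.ψ (h c))⁻¹ ∈ S.U := by
  obtain ⟨t, rfl⟩ := hx
  refine ⟨(c : K) ^ 2 * t, ?_⟩
  rw [← map_inv, ← map_mul, ← map_mul, H943.SL2Rel.h_u, mul_inv_cancel_right]

theorem ψ_h_mem_P (c : Kˣ) : S.ψ (h c) ∈ S.P := S.mem_P_of_norm fun x hx => by
  have h1 := S.ψ_h_norm c⁻¹ hx
  rwa [H943.SL2Rel.h_inv, map_inv, inv_inv] at h1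

theorem ψ_h_mem_P' (c : Kˣ) : S.ψ (h c) ∈ S.P' := by
  rw [mem_P', mul_assoc, ← map_mul, H943.SL2Rel.h_w, map_mul, inv_mul_cancel_left]
  exact S.ψ_h_mem_P _

theorem ψ_u_mem_P (t : K) : S.ψ (u t) ∈ S.P := S.mem_P.2 (S.mem_Ru.1 (S.U_le_Ru ⟨t, rfl⟩)).1

/-- **frames exist** -/
theorem exists_frame : Nonempty S.Frame := by
  have := S.closed
  have := S.chark
  obtain ⟨c, hc⟩ := IsCyclic.exists_generator (α := Kˣ)
  obtain ⟨g, hg, l, t, e, h1⟩ := exists_conj_T_two S.prime S.alg S.cast_card (y := S.g0⁻¹ * S.ψ (h c) * S.g0) (by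
    have h1 := conj_pow (a := S.g0⁻¹) (b := S.ψ (h c)) (i := Fintype.card K - 1)
    rw [inv_inv] at h1
    rw [h1, S.ψ_h_pow, mul_one, inv_mul_cancel]) S.β_dom S.β_dom (S.mem_P.1 (S.ψ_h_mem_P c))
    (x := S.g0⁻¹ * S.ψ w * S.g0) (by
      have h1 := S.mem_P.1 (S.mem_P'.1 (S.ψ_h_mem_P' c))
      rwa [show (S.g0⁻¹ * S.ψ w * S.g0)⁻¹ * (S.g0⁻¹ * S.ψ (h c) * S.g0) * (S.g0⁻¹ * S.ψ w * S.g0) =
        S.g0⁻¹ * ((S.ψ w)⁻¹ * S.ψ (h c) * S.ψ w) * S.g0 by group])
  refine ⟨⟨S.g0 * g, l, by rwa [inv_mul_cancel_left], ?_, fun d => ?_⟩⟩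
  · rw [show (S.g0 * g * nL k l)⁻¹ * S.ψ w * (S.g0 * g) = (g * nL k l)⁻¹ * (S.g0⁻¹ * S.ψ w * S.g0) * g by group]
    exact mul_mem h1 hg
  · obtain ⟨n, rfl⟩ := (mem_powers_iff_mem_zpowers.2 (hc d) : d ∈ Submonoid.powers c)
    refine ⟨t ^ n, ?_⟩
    have h2 : S.ψ (h c) = S.g0 * g * Phi k t * (S.g0 * g)⁻¹ := by
      rw [show S.g0 * g * Phi k t * (S.g0 * g)⁻¹ = S.g0 * (g * Phi k t * g⁻¹) * S.g0⁻¹ by group, ← e]; group
    show S.ψ (h (c ^ n)) = _
    rw [H943.SL2Rel.h_pow, map_pow, h2, conj_pow, map_pow]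

variable {S}

theorem Frame.mem_P (f : S.Frame) {y : Gh k} : y ∈ S.P ↔ f.g⁻¹ * y * f.g ∈ Pl k S.β := by
  rw [S.mem_P, show f.g⁻¹ * y * f.g = (S.g0⁻¹ * f.g)⁻¹ * (S.g0⁻¹ * y * S.g0) * (S.g0⁻¹ * f.g) by group,
    mul_mem_cancel_right f.hg, mul_mem_cancel_left (inv_mem f.hg)]

theorem Frame.mem_Ru (f : S.Frame) {y : Gh k} : y ∈ S.Ru ↔ f.g⁻¹ * y * f.g ∈ Ul k S.β := by
  rw [S.mem_Ru]
  constructor
  · intro h1
    have h2 := Ul_conj (inv_mem f.hg) h1
    rwa [show (S.g0⁻¹ * f.g)⁻¹ * (S.g0⁻¹ * y * S.g0) * (S.g0⁻¹ * f.g)⁻¹⁻¹ = f.g⁻¹ * y * f.g by group] at h2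
  · intro h1
    have h2 := Ul_conj f.hg h1
    rwa [show S.g0⁻¹ * f.g * (f.g⁻¹ * y * f.g) * (S.g0⁻¹ * f.g)⁻¹ = S.g0⁻¹ * y * S.g0 by group] at h2

/-- the coweight of `P'` in the frame -/
noncomputable def Frame.β' (f : S.Frame) : E := wL f.l S.β

theorem Frame.mem_P' (f : S.Frame) {y : Gh k} : y ∈ S.P' ↔ f.g⁻¹ * y * f.g ∈ Pl k f.β' := by
  rw [S.mem_P', f.mem_P, Frame.β', ← nL_conj_Pl_iff,
    show f.g⁻¹ * ((S.ψ w)⁻¹ * y * S.ψ w) * f.g = ((f.g * nL k f.l)⁻¹ * S.ψ w * f.g)⁻¹ *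
      ((nL k f.l)⁻¹ * (f.g⁻¹ * y * f.g) * nL k f.l) * ((f.g * nL k f.l)⁻¹ * S.ψ w * f.g) by group,
    mul_mem_cancel_right f.hw, mul_mem_cancel_left (inv_mem f.hw)]

theorem Frame.mem0 (f : S.Frame) (t : Fin chevE7.rank → kˣ) : f.g * Phi k t * f.g⁻¹ ∈ S.P ⊓ S.P' := by
  have e : f.g⁻¹ * (f.g * Phi k t * f.g⁻¹) * f.g = Phi k t := by group
  exact ⟨f.mem_P.2 (by rw [e]; exact Phi_mem_Pl _ t), f.mem_P'.2 (by rw [e]; exact Phi_mem_Pl _ t)⟩

/-- the torus of the frame lies in `P ⊓ P'` -/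
theorem Frame.mem (f : S.Frame) (l : List (Fin 7)) (t : Fin chevE7.rank → kˣ) :
    f.g * nL k l * Phi k t * (f.g * nL k l)⁻¹ ∈ S.P ⊓ S.P' := by
  obtain ⟨s, hs⟩ := nL_conj_Phi (K := k) l t
  rw [show f.g * nL k l * Phi k t * (f.g * nL k l)⁻¹ = f.g * (nL k l * Phi k t * (nL k l)⁻¹) * f.g⁻¹ by group, hs]
  exact f.mem0 s

/-- the filtrations in a frame -/
theorem Frame.mem_Fg (f : S.Frame) {d : ℝ} {x : chevE7.Idx → k} : x ∈ S.Fg d ↔ adM k f.g⁻¹ *ᵥ x ∈ Ge k ac S.β d := by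
  show adM k S.g0⁻¹ *ᵥ x ∈ Ge k ac S.β d ↔ _
  constructor
  · intro h1
    have h2 := wrep_L.Ge_stab (inv_mem f.hg) h1
    rwa [← mulVec_mul, show (S.g0⁻¹ * f.g)⁻¹ * S.g0⁻¹ = f.g⁻¹ by group] at h2
  · intro h1
    have h2 := wrep_L.Ge_stab f.hg h1
    rwa [← mulVec_mul, mul_inv_cancel_right] at h2

theorem Frame.u_level (f : S.Frame) (t : K) : rho k (f.g⁻¹ * S.ψ (u t) * f.g) - 1 ∈ MGe k S.β S.nn := by
  have h1 := MGe_conj (inv_mem f.hg) (show rho k (S.g0⁻¹ * S.ψ (u t) * S.g0) - 1 ∈ MGe k S.β S.nn from S.u_level t)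
  rwa [mul_sub, mul_one, sub_mul, ← map_mul, ← map_mul, ← map_mul, mul_inv_cancel, map_one,
    show (S.g0⁻¹ * f.g)⁻¹ * (S.g0⁻¹ * S.ψ (u t) * S.g0) * (S.g0⁻¹ * f.g)⁻¹⁻¹ = f.g⁻¹ * S.ψ (u t) * f.g by group] at h1

variable (S)

theorem σ_mem_P {y : Gh k} (hy : y ∈ S.P) : S.σ y ∈ S.P := by
  rw [S.mem_P, show S.g0⁻¹ * S.σ y * S.g0 = (S.g0⁻¹ * S.σ S.g0) * S.σ (S.g0⁻¹ * y * S.g0) * (S.g0⁻¹ * S.σ S.g0)⁻¹ by
    rw [map_mul, map_mul, map_inv]; group]
  exact mul_mem (mul_mem S.g0_σ (emb_mem_Pl S.s (S.mem_P.1 hy))) (inv_mem S.g0_σ)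

theorem σ_mem_P' {y : Gh k} (hy : y ∈ S.P') : S.σ y ∈ S.P' := by
  have h1 := S.σ_mem_P (S.mem_P'.1 hy)
  rw [map_mul, map_mul, map_inv, S.k_σ_ψ] at h1
  exact S.mem_P'.2 h1

theorem Ru_conj {g y : Gh k} (hg : g ∈ S.P) (hy : y ∈ S.Ru) : g * y * g⁻¹ ∈ S.Ru := by
  have h1 := Ul_conj (S.mem_P.1 hg) (S.mem_Ru.1 hy)
  rw [S.mem_Ru]
  rwa [show S.g0⁻¹ * g * S.g0 * (S.g0⁻¹ * y * S.g0) * (S.g0⁻¹ * g * S.g0)⁻¹ = S.g0⁻¹ * (g * y * g⁻¹) * S.g0 by group] at h1

theorem isPGroup_Ru : IsPGroup p S.Ru :=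
  have := S.chark
  (isPGroup_Ul S.prime S.β).comap_of_injective _ (MulAut.conj S.g0⁻¹).injective

end Sit

end Cfsg.Agent.E7P
end

private theorem dce_71b9d9362e66 : _root_.True := by
  try have : _root_.True := by simp only [_root_.Cfsg.Agent.E7P.Sit.Frame.β'.eq_1]
  try have : _root_.True := by simp only [_root_.Cfsg.Agent.E7P.Kf.STri.eq_1]
  exact _root_.True.intro
end

-- part: E7P/Base/Act
section
prune_inst 0x1540394417c0000000180506f0001e56ee000402106b880089000a0c06c08f4628008761b4a0111a000a2c44003801481100002042c000000e1c04000118008018c000008008401940008600008c410000008040000000000000000000000004000000000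
set_option linter.all false
open scoped Cfsg.Agent.FastGrp

/-!
# S5932: the basic facts on `M` (helper32)

* `Sit.NB n` : `n ∈ M` acts on `A` as a diagonal-field automorphism; `exists_NB` : `M = NB · A`; `norm_ψ`;
* `Sit.base` : a subgroup normalised by `M` contains `A` or its `σ`-fixed points are central;
* `Sit.CA` : the centraliser of `A`; `cent_fix`; `ck`, `pt` (from `SSC`); `eq_U`.
-/

set_option autoImplicit false
set_option maxRecDepth 100000

namespace Cfsg.Agent.E7P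

open Cfsg Cfsg.Lie Matrix Module
open Cfsg.Agent.H943.E7V.Block (D1 rho)
open Cfsg.Agent.R2.T1 Cfsg.Agent.E7P.Kf
open Cfsg.Agent.H943.SL2Rel
open Cfsg.Agent.R2.H9.E6 (pq pq_surjective pq_eq_one)
open Cfsg.Agent.ClassicalGeometry.AutPSL.Root (pr pr_surjective)
open Cfsg.Agent.ClassicalGeometry.AutPSL.Auto (cj coe_cj fld coe_fld_apply)
open Cfsg.Agent.H199.PslAut (Psi phi Psi_pr phi_pr Psi_coe exists_form)
open scoped commutatorElement

universe u v

namespace Kf

variable {K : Type v} [Field K]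

/-- `diag(c, 1)` -/
def dg (c : Kˣ) : GL (Fin 2) K := ⟨!![(c : K), 0; 0, 1], !![((c⁻¹ : Kˣ) : K), 0; 0, 1], by
    ext i j; (revert i j; simp only [Matrix.mul_apply, Fin.sum_univ_two, _root_.Fin.forall_fin_succ, _root_.Units.val_inv_eq_inv_val, _root_.Matrix.of_apply, _root_.Matrix.cons_val', _root_.Matrix.cons_val_fin_one, Fin.isValue, _root_.Matrix.cons_val_zero, _root_.Matrix.cons_val_one, _root_.MulZeroClass.mul_zero, _root_.add_zero, _root_.Matrix.cons_val_succ, _root_.mul_one, _root_.zero_add, _root_.IsEmpty.forall_iff, _root_.and_true, _root_.ne_eq, _root_.Units.ne_zero, _root_.not_false_eq_true, _root_.mul_inv_cancel₀, _root_.Matrix.one_apply_eq, Nat.reduceAdd, _root_.Fin.succ_zero_eq_one, _root_.zero_ne_one, _root_.Matrix.one_apply_ne, _root_.and_self, _root_.MulZeroClass.zero_mul, _root_.Fin.succ_ne_zero, _root_.true_and]), by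
    ext i j; (revert i j; simp only [Matrix.mul_apply, Fin.sum_univ_two, _root_.Fin.forall_fin_succ, _root_.Units.val_inv_eq_inv_val, _root_.Matrix.of_apply, _root_.Matrix.cons_val', _root_.Matrix.cons_val_fin_one, Fin.isValue, _root_.Matrix.cons_val_zero, _root_.Matrix.cons_val_one, _root_.MulZeroClass.mul_zero, _root_.add_zero, _root_.Matrix.cons_val_succ, _root_.mul_one, _root_.zero_add, _root_.IsEmpty.forall_iff, _root_.and_true, _root_.ne_eq, _root_.Units.ne_zero, _root_.not_false_eq_true, _root_.inv_mul_cancel₀, _root_.Matrix.one_apply_eq, Nat.reduceAdd, _root_.Fin.succ_zero_eq_one, _root_.zero_ne_one, _root_.Matrix.one_apply_ne, _root_.and_self, _root_.MulZeroClass.zero_mul, _root_.Fin.succ_ne_zero, _root_.true_and])⟩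

/-- the diagonal-field automorphisms of `SL₂(K)` -/
def aut (c : Kˣ) (τ : K ≃+* K) : MulAut (_root_.Matrix.SpecialLinearGroup (Fin 2) K) := cj (dg c) * fld τ

theorem aut_aux (c : Kˣ) (τ : K ≃+* K) (x y z t : K) :
    !![(c : K), 0; 0, 1] * (!![x, y; z, t].map τ) * !![((c⁻¹ : Kˣ) : K), 0; 0, 1] =
      !![τ x, c * τ y; τ z * ((c⁻¹ : Kˣ) : K), τ t] := by
  have h1 : !![x, y; z, t].map τ = !![τ x, τ y; τ z, τ t] := by
    ext i j
    fin_cases i <;> fin_cases j <;> rfl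
  rw [h1, Matrix.mul_fin_two, Matrix.mul_fin_two]
  have h2 : (c : K) * τ x * ((c⁻¹ : Kˣ) : K) = τ x := by
    rw [mul_comm, ← mul_assoc, Units.inv_mul, one_mul]
  simp only [zero_mul, mul_zero, add_zero, zero_add, one_mul, mul_one, h2]

theorem aut_eq (c : Kˣ) (τ : K ≃+* K) (x y z t : K) (s : _root_.Matrix.SpecialLinearGroup (Fin 2) K) (hs : s.1 = !![x, y; z, t]) :
    (aut c τ s).1 = !![τ x, c * τ y; τ z * ((c⁻¹ : Kˣ) : K), τ t] := by
  rw [← aut_aux, ← hs]
  rfl

theorem aut_u (c : Kˣ) (τ : K ≃+* K) (t : K) : aut c τ (u t) = u (c * τ t) := by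
  apply Subtype.ext
  rw [aut_eq c τ 1 t 0 1 (u t) rfl, map_one, map_zero, zero_mul]
  rfl

theorem aut_h (c : Kˣ) (τ : K ≃+* K) (a : Kˣ) : aut c τ (h a) = h (Units.map (τ : K →* K) a) := by
  apply Subtype.ext
  rw [aut_eq c τ a 0 0 (a : K)⁻¹ (h a) rfl, map_zero, zero_mul, mul_zero, map_inv₀]
  rfl

theorem aut_w (c : Kˣ) (τ : K ≃+* K) : aut c τ w = h c * w := by
  apply Subtype.ext
  rw [aut_eq c τ 0 1 (-1) 0 w rfl, map_zero, map_one, map_neg, map_one]
  show _ = !![(c : K), 0; 0, (c : K)⁻¹] * !![0, 1; -1, 0]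
  rw [Matrix.mul_fin_two, Units.val_inv_eq_inv_val]
  simp

theorem exists_dg (g : GL (Fin 2) K) : ∃ (c : Kˣ) (s : _root_.Matrix.SpecialLinearGroup (Fin 2) K), g = dg c * (s : GL (Fin 2) K) := by
  have hdet : ∀ c : Kˣ, Matrix.det ((dg c : GL (Fin 2) K) : Matrix (Fin 2) (Fin 2) K) = c := by
    intro c
    show Matrix.det !![(c : K), 0; 0, 1] = c
    rw [Matrix.det_fin_two_of]
    ring
  refine ⟨Matrix.GeneralLinearGroup.det g, ⟨(((dg (Matrix.GeneralLinearGroup.det g))⁻¹ * g : GL (Fin 2) K) :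
    Matrix (Fin 2) (Fin 2) K), ?_⟩, ?_⟩
  · have h1 : Matrix.GeneralLinearGroup.det (dg (Matrix.GeneralLinearGroup.det g)) = Matrix.GeneralLinearGroup.det g := by
      apply Units.ext
      exact hdet _
    have h2 : Matrix.GeneralLinearGroup.det ((dg (Matrix.GeneralLinearGroup.det g))⁻¹ * g) = 1 := by
      rw [map_mul, map_inv, h1, inv_mul_cancel]
    exact congrArg Units.val h2
  · apply Units.ext
    show (g : Matrix (Fin 2) (Fin 2) K) = (dg (Matrix.GeneralLinearGroup.det g) : Matrix (Fin 2) (Fin 2) K) *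
      (((dg (Matrix.GeneralLinearGroup.det g))⁻¹ * g : GL (Fin 2) K) : Matrix (Fin 2) (Fin 2) K)
    rw [← Units.val_mul, mul_inv_cancel_left]

/-- a subgroup of a perfect group which contains all elements modulo the centre -/
theorem mem_of_perfect {X Y : Type*} [Group X] [Group Y] (hX : commutator X = ⊤) (f : X →* Y) {D : Subgroup Y}
    (h : ∀ x, ∃ d ∈ D, d⁻¹ * f x ∈ Subgroup.center Y) (x : X) : f x ∈ D := by
  have h1 : commutator X ≤ D.comap f := by
    rw [commutator_def, Subgroup.commutator_le]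
    intro a _ b _
    obtain ⟨d, hd, h1⟩ := h a
    obtain ⟨e, he, h2⟩ := h b
    have h3 : f ⁅a, b⁆ = ⁅d, e⁆ := by
      rw [map_commutatorElement, show f a = d * (d⁻¹ * f a) by group, show f b = e * (e⁻¹ * f b) by group]
      generalize d⁻¹ * f a = z at h1
      generalize e⁻¹ * f b = z' at h2
      have h4 := Subgroup.mem_center_iff.1 h1
      have h5 := Subgroup.mem_center_iff.1 h2
      rw [commutatorElement_def, commutatorElement_def]
      calc d * z * (e * z') * (d * z)⁻¹ * (e * z')⁻¹ = d * (z * (e * z')) * z⁻¹ * d⁻¹ * z'⁻¹ * e⁻¹ := by group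
        _ = d * e * (z' * d⁻¹) * z'⁻¹ * e⁻¹ := by rw [← h4]; group
        _ = _ := by rw [← h5]; group
    rw [Subgroup.mem_comap, h3, commutatorElement_def]
    exact mul_mem (mul_mem (mul_mem hd he) (inv_mem hd)) (inv_mem he)
  exact h1 (hX ▸ Subgroup.mem_top x)

theorem eq_of_perfect {X Y : Type*} [Group X] [Group Y] (hX : commutator X = ⊤) {f g : X →* Y}
    (h : ∀ x, (g x)⁻¹ * f x ∈ Subgroup.center Y) (x : X) : f x = g x := by
  have h1 : (f.prod g) x ∈ (MonoidHom.fst Y Y).eqLocus (MonoidHom.snd Y Y) :=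
    mem_of_perfect hX (f.prod g) (fun x => ⟨(g x, g x), rfl, Subgroup.mem_center_iff.2 fun y => Prod.ext
      (Subgroup.mem_center_iff.1 (h x) y.1) (by
        show y.2 * ((g x)⁻¹ * g x) = (g x)⁻¹ * g x * y.2
        rw [inv_mul_cancel, mul_one, one_mul])⟩) x
  exact h1

/-- additive subgroups which are stable under the squares -/
theorem eq_top_of_sq [Finite K] {B : AddSubgroup K} (h : ∀ c : K, ∀ t ∈ B, c ^ 2 * t ∈ B) (h0 : B ≠ ⊥) : B = ⊤ := by
  have h1 : ∀ c : K, ∀ t ∈ B, c * t ∈ B := by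
    intro c t ht
    by_cases h2 : (2 : K) = 0
    · have : CharP K 2 := CharTwo.of_one_ne_zero_of_two_eq_zero one_ne_zero h2
      obtain ⟨d, hd⟩ := FiniteField.isSquare_of_char_two (F := K) (ringChar.eq K 2) c
      rw [hd, ← sq]
      exact h d t ht
    · have h3 := sub_mem (h ((c + 1) / 2) t ht) (h ((c - 1) / 2) t ht)
      rwa [show ((c + 1) / 2) ^ 2 * t - ((c - 1) / 2) ^ 2 * t = c * t by field_simp; ring] at h3
  obtain ⟨⟨t, ht⟩, ht0⟩ := AddSubgroup.ne_bot_iff_exists_ne_zero.1 h0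
  have ht0' : t ≠ 0 := fun e => ht0 (Subtype.ext e)
  rw [eq_top_iff]
  intro x _
  have h2 := h1 (x / t) t ht
  rwa [div_mul_cancel₀ _ ht0'] at h2

end Kf

namespace Sit

variable {p a b : ℕ} {F : Type u} {K : Type v} {k : Type u} [Field F] [Fintype F] [Field K] [Fintype K] [Field k]
  (S : Sit p a b F K k)

include S in
theorem perfect : commutator (_root_.Matrix.SpecialLinearGroup (Fin 2) K) = ⊤ := H259.NatMod.commutator_eq_top S.k_four

theorem emb_center {z : Gh F} (hz : z ∈ Subgroup.center (Gh F)) : emb S.f z ∈ Subgroup.center (Gh k) := by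
  rw [← ker_ad, MonoidHom.mem_ker] at hz ⊢
  rw [ad_emb, hz, map_one]

theorem center_of_emb {z : Gh F} (hz : emb S.f z ∈ Subgroup.center (Gh k)) : z ∈ Subgroup.center (Gh F) :=
  Subgroup.mem_center_iff.2 fun g => emb_injective S.f (by
    rw [map_mul, map_mul]; exact Subgroup.mem_center_iff.1 hz _)

theorem center_le_M {z : Gh k} (hz : z ∈ Subgroup.center (Gh k)) : z ∈ S.M := by
  obtain ⟨z0, rfl⟩ := S.k_desc (S.k_σ_center hz)
  refine ⟨z0, ?_, rfl⟩
  have h1 := S.center_of_emb hz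
  rw [← ker_ad, MonoidHom.mem_ker] at h1
  show ad F z0 ∈ S.H
  rw [h1]; exact one_mem _

theorem ψ_mem_center {x : _root_.Matrix.SpecialLinearGroup (Fin 2) K} : S.ψ x ∈ Subgroup.center (Gh k) ↔ x = 1 ∨ x = -1 := by
  rw [← pq_eq_one]
  constructor
  · intro h1
    have h2 := S.center_of_emb h1
    rw [← ker_ad, MonoidHom.mem_ker, S.lift] at h2
    exact S.max.inj (by rw [h2, map_one])
  · intro h1
    refine S.emb_center ?_
    rw [← ker_ad, MonoidHom.mem_ker, S.lift, h1, map_one]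

/-- the elements of `M` which act by diagonal-field automorphisms -/
def NB (n : Gh k) : Prop := n ∈ S.M ∧ ∃ (c : Kˣ) (τ : K ≃+* K), ∀ x, S.ψ (aut c τ x) = n * S.ψ x * n⁻¹

/-- **the action of `M`** -/
theorem exists_NB {m : Gh k} (hm : m ∈ S.M) : ∃ n x, S.NB n ∧ m = n * S.ψ x := by
  obtain ⟨m0, hm0, rfl⟩ := hm
  obtain ⟨ac, -, h1, -⟩ := S.max.act
  rcases exists_form (n := 2) le_rfl (ac ⟨ad F m0, hm0⟩) with ⟨g, τ, hg⟩ | ⟨h3, -⟩
  swap
  · omega
  obtain ⟨c, s0, rfl⟩ := exists_dg g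
  obtain ⟨s₁, hs₁⟩ : ∃ s₁, fld τ s₁ = s0 := (fld τ).surjective s0
  refine ⟨emb S.f m0 * (S.ψ s₁)⁻¹, s₁, ⟨mul_mem ⟨m0, hm0, rfl⟩ (inv_mem (S.k_ψ_mem _)), c, τ, ?_⟩, by group⟩
  refine eq_of_perfect S.perfect (f := S.ψ.comp (aut c τ).toMonoidHom)
    (g := (MulAut.conj (emb S.f m0 * (S.ψ s₁)⁻¹)).toMonoidHom.comp S.ψ) fun s => ?_
  have h2 : ac ⟨ad F m0, hm0⟩ ((pq s₁)⁻¹ * pq s * pq s₁) = pq (aut c τ s) := by
    rw [hg, ← map_inv, ← map_mul, ← map_mul, map_mul, Psi_coe, MulAut.mul_apply, MulAut.mul_apply]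
    have h3 : phi 2 K τ (pq (s₁⁻¹ * s * s₁)) = pr (s0⁻¹ * fld τ s * s0) := by
      show pr (fld τ (s₁⁻¹ * s * s₁)) = _
      rw [map_mul (fld τ), map_mul (fld τ), map_inv (fld τ), hs₁]
    rw [h3, MulAut.conj_apply, ← map_inv, ← map_mul, ← map_mul]
    have h4 : s0 * (s0⁻¹ * fld τ s * s0) * s0⁻¹ = fld τ s := by group
    rw [h4]
    rfl
  have h3 := h1 ⟨ad F m0, hm0⟩ ((pq s₁)⁻¹ * pq s * pq s₁)
  rw [h2] at h3
  have h4 : (m0 * (S.ψ0 s₁)⁻¹ * S.ψ0 s * (m0 * (S.ψ0 s₁)⁻¹)⁻¹)⁻¹ * S.ψ0 (aut c τ s) ∈ Subgroup.center (Gh F) := by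
    rw [← ker_ad, MonoidHom.mem_ker]
    simp only [map_mul, map_inv, S.lift] at h3 ⊢
    rw [h3]
    group
  have h5 := S.emb_center h4
  simp only [map_mul, map_inv] at h5
  exact h5

/-- `M` normalises `A` -/
theorem norm_ψ {m : Gh k} (hm : m ∈ S.M) (x : _root_.Matrix.SpecialLinearGroup (Fin 2) K) : ∃ x', m * S.ψ x * m⁻¹ = S.ψ x' := by
  obtain ⟨n, y, ⟨-, c, τ, h1⟩, rfl⟩ := S.exists_NB hm
  exact ⟨aut c τ (y * x * y⁻¹), by rw [h1, map_mul, map_mul, map_inv]; group⟩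

variable {S} in
theorem NB.inv {n : Gh k} (hn : S.NB n) : S.NB n⁻¹ := by
  obtain ⟨hm, c, τ, h1⟩ := hn
  refine ⟨inv_mem hm, Units.map (τ.symm : K →* K) c⁻¹, τ.symm, fun x => ?_⟩
  have h2 : aut c τ (aut (Units.map (τ.symm : K →* K) c⁻¹) τ.symm x) = x := by
    refine induct (P := fun x => aut c τ (aut (Units.map (τ.symm : K →* K) c⁻¹) τ.symm x) = x) (fun t => ?_) (fun a => ?_)
      ?_ (fun a b ha hb => by rw [map_mul, map_mul, ha, hb]) x
    · rw [aut_u, aut_u]
      congr 1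
      simp only [_root_.map_inv, _root_.Units.val_inv_eq_inv_val, _root_.Units.coe_map, _root_.MonoidHom.coe_coe, _root_.map_mul, _root_.map_inv₀, _root_.RingEquiv.apply_symm_apply, _root_.ne_eq, _root_.Units.ne_zero, _root_.not_false_eq_true, _root_.mul_inv_cancel_left₀]
    · rw [aut_h, aut_h]
      congr 1
      ext; simp
    · rw [aut_w, map_mul, aut_h, aut_w, ← mul_assoc, ← h_mul]
      have h3 : Units.map (τ : K →* K) (Units.map (τ.symm : K →* K) c⁻¹) * c = 1 := by ext; simp only [_root_.map_inv, _root_.Units.val_mul, _root_.Units.val_inv_eq_inv_val, _root_.Units.coe_map, _root_.MonoidHom.coe_coe, _root_.RingEquiv.apply_symm_apply, _root_.ne_eq, _root_.Units.ne_zero, _root_.not_false_eq_true, _root_.inv_mul_cancel₀, _root_.Units.val_one]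
      rw [h3, h_one, one_mul]
  have h3 := h1 (aut (Units.map (τ.symm : K →* K) c⁻¹) τ.symm x)
  rw [h2] at h3
  rw [h3]; group

variable {S} in
theorem NB.conj_U {n : Gh k} (hn : S.NB n) {x : Gh k} (hx : x ∈ S.U) : n * x * n⁻¹ ∈ S.U := by
  obtain ⟨t, rfl⟩ := hx
  obtain ⟨-, c, τ, h1⟩ := hn
  exact ⟨_, by rw [← h1, aut_u]⟩

variable {S} in
theorem NB.mem_P {n : Gh k} (hn : S.NB n) : n ∈ S.P := S.mem_P_of_norm fun x hx => by
  have h1 := hn.inv.conj_U hx
  rwa [inv_inv] at h1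

variable {S} in
theorem NB.mem_P' {n : Gh k} (hn : S.NB n) : n ∈ S.P' := by
  obtain ⟨c, τ, h1⟩ := hn.inv.2
  have h2 := h1 w
  rw [aut_w, inv_inv] at h2
  rw [S.mem_P', show (S.ψ w)⁻¹ * n * S.ψ w = n * (n⁻¹ * S.ψ w * n)⁻¹ * S.ψ w by group, ← h2, h_w, map_mul,
    show n * (S.ψ w * S.ψ (h c⁻¹))⁻¹ * S.ψ w = n * (S.ψ (h c⁻¹))⁻¹ by group]
  exact mul_mem hn.mem_P (inv_mem (S.ψ_h_mem_P _))

/-- **BASE** -/
theorem base {D : Subgroup (Gh k)} (hM : ∀ m ∈ S.M, ∀ x ∈ D, m * x * m⁻¹ ∈ D) :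
    (∀ y ∈ D, S.σ y = y → y ∈ Subgroup.center (Gh k)) ∨ ∀ x, S.ψ x ∈ D := by
  let D0 := D.comap (emb S.f)
  have hn : ∀ m ∈ S.M0, ∀ x ∈ D0, m * x * m⁻¹ ∈ D0 := fun m hm x hx => by
    show emb S.f _ ∈ D
    rw [map_mul, map_mul, map_inv]
    exact hM _ ⟨m, hm, rfl⟩ _ hx
  have h1 : S.M0 ≤ Subgroup.normalizer (D0 : Set (Gh F)) := fun m hm =>
    Subgroup.mem_normalizer_iff.2 fun x => ⟨hn m hm x, fun hx => by
      have h2 := hn _ (inv_mem hm) _ hx
      rwa [show m⁻¹ * (m * x * m⁻¹) * m⁻¹⁻¹ = x by group] at h2⟩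
  have key : D0.map (ad F) = ⊥ ∨ S.φ.range ≤ D0.map (ad F) := by
    rcases S.k_max h1 with h2 | h2
    · by_cases h3 : D0.map (ad F) = ⊥
      · exact Or.inl h3
      refine Or.inr (S.max.min _ ?_ ?_ h3)
      · rintro _ ⟨x, hx, rfl⟩
        have h4 : x ∈ S.M0 := h2 ▸ Subgroup.le_normalizer hx
        exact h4
      · rintro y hy _ ⟨x, hx, rfl⟩
        obtain ⟨m, rfl⟩ := ad_surjective y
        exact ⟨_, hn m hy x hx, by rw [map_mul, map_mul, map_inv]⟩
    · have h3 : D0.Normal := Subgroup.normalizer_eq_top_iff.1 h2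
      have h4 := simpleE7 (K := F)
      rcases (h3.map (ad F) ad_surjective).eq_bot_or_eq_top with h5 | h5
      · exact Or.inl h5
      · exact Or.inr (h5 ▸ le_top)
  rcases key with h2 | h2
  · left
    intro y hy hσ
    obtain ⟨y0, rfl⟩ := S.k_desc hσ
    rw [Subgroup.map_eq_bot_iff, ker_ad] at h2
    exact S.emb_center (h2 hy)
  · right
    refine mem_of_perfect S.perfect S.ψ0 (D := D0) fun x => ?_
    obtain ⟨d, hd, e⟩ := h2 ⟨pq x, rfl⟩
    refine ⟨d, hd, ?_⟩
    rw [← ker_ad, MonoidHom.mem_ker, map_mul, map_inv, e, S.lift, inv_mul_cancel]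

/-- the `σ`-fixed points of a subgroup normalised by `M` lie in `M` or they are everything -/
theorem fix_le_M {D : Subgroup (Gh k)} (hM : ∀ m ∈ S.M, ∀ x ∈ D, m * x * m⁻¹ ∈ D) :
    (∀ y ∈ D, S.σ y = y → y ∈ S.M) ∨ ∀ y0, emb S.f y0 ∈ D := by
  let D0 := D.comap (emb S.f)
  have hn : ∀ m ∈ S.M0, ∀ x ∈ D0, m * x * m⁻¹ ∈ D0 := fun m hm x hx => by
    show emb S.f _ ∈ D
    rw [map_mul, map_mul, map_inv]
    exact hM _ ⟨m, hm, rfl⟩ _ hx
  have h1 : S.M0 ≤ Subgroup.normalizer (D0 : Set (Gh F)) := fun m hm =>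
    Subgroup.mem_normalizer_iff.2 fun x => ⟨hn m hm x, fun hx => by
      have h2 := hn _ (inv_mem hm) _ hx
      rwa [show m⁻¹ * (m * x * m⁻¹) * m⁻¹⁻¹ = x by group] at h2⟩
  rcases S.k_max h1 with h2 | h2
  · left
    intro y hy hσ
    obtain ⟨y0, rfl⟩ := S.k_desc hσ
    exact ⟨y0, h2 ▸ Subgroup.le_normalizer hy, rfl⟩
  · have h3 : D0.Normal := Subgroup.normalizer_eq_top_iff.1 h2
    have h4 := simpleE7 (K := F)
    rcases (h3.map (ad F) ad_surjective).eq_bot_or_eq_top with h5 | h5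
    · left
      intro y hy hσ
      obtain ⟨y0, rfl⟩ := S.k_desc hσ
      rw [Subgroup.map_eq_bot_iff, ker_ad] at h5
      exact S.center_le_M (S.emb_center (h5 hy))
    · right
      have h6 : ∀ y0 : Gh F, ∃ d ∈ D0, d⁻¹ * y0 ∈ Subgroup.center (Gh F) := fun y0 => by
        obtain ⟨d, hd, e⟩ : ad F y0 ∈ D0.map (ad F) := h5 ▸ Subgroup.mem_top _
        refine ⟨d, hd, ?_⟩
        rw [← ker_ad, MonoidHom.mem_ker, map_mul, map_inv, e, inv_mul_cancel]
      refine mem_of_gens (S := D0) fun r hr t => ?_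
      obtain ⟨d, hd, h7⟩ := h6 (xs F r t)
      have := S.charF
      have h8 : xs F r t ^ p = 1 := by
        have h9 : ∀ n : ℕ, xs F r t ^ n = xs F r (n * t) := fun n => by
          induction n with
          | zero => rw [pow_zero, Nat.cast_zero, zero_mul, xs_zero]
          | succ n ih => rw [pow_succ, ih, xs_mul, Nat.cast_succ, add_mul, one_mul]
        rw [h9, CharP.cast_eq_zero, zero_mul, xs_zero]
      rcases V_center h7 with h9 | h9
      · rw [← inv_mul_eq_one.1 (faithful h9)]; exact hd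
      rcases S.prime.eq_two_or_odd' with h10 | ⟨n, h10⟩
      · subst h10
        have h11 : V F (d⁻¹ * xs F r t) = 1 := by
          rw [h9]
          exact LinearMap.ext fun v => funext fun i => CharTwo.neg_eq (v i)
        rw [← inv_mul_eq_one.1 (faithful h11)]; exact hd
      · have h11 : (d⁻¹ * xs F r t) ^ 2 = 1 := faithful (by
          rw [map_pow, h9]; exact neg_one_sq (R := Module.End F (D1 → F)))
        have h12 : Commute d (d⁻¹ * xs F r t) := Subgroup.mem_center_iff.1 h7 d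
        have h13 : xs F r t = d ^ (2 * (n + 1)) := by
          calc xs F r t = xs F r t ^ (p + 1) := by rw [pow_succ, h8, one_mul]
            _ = (d * (d⁻¹ * xs F r t)) ^ (2 * (n + 1)) := by rw [mul_inv_cancel_left, h10]; rfl
            _ = _ := by rw [h12.mul_pow, pow_mul (d⁻¹ * xs F r t), h11, one_pow, mul_one]
        rw [h13]; exact pow_mem hd _

/-- the centraliser of `A` -/
def CA : Subgroup (Gh k) := Subgroup.centralizer (Set.range S.ψ)

theorem mem_CA {c : Gh k} : c ∈ S.CA ↔ S.Cent c :=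
  ⟨fun h x => h _ ⟨x, rfl⟩, fun h => by rintro _ ⟨x, rfl⟩; exact h x⟩

theorem σ_mem_CA {c : Gh k} (hc : c ∈ S.CA) : S.σ c ∈ S.CA := S.mem_CA.2 fun x => by
  rw [← S.k_σ_ψ x, ← map_mul, ← map_mul, S.mem_CA.1 hc]

theorem conj_mem_CA {m : Gh k} (hm : m ∈ S.M) {c : Gh k} (hc : c ∈ S.CA) : m * c * m⁻¹ ∈ S.CA := S.mem_CA.2 fun x => by
  obtain ⟨x', h1⟩ := S.norm_ψ (inv_mem hm) x
  rw [show S.ψ x = m * S.ψ x' * m⁻¹ by rw [← h1]; group,
    show m * S.ψ x' * m⁻¹ * (m * c * m⁻¹) = m * (S.ψ x' * c) * m⁻¹ by group, S.mem_CA.1 hc]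
  group

/-- the rational points of the centraliser of `A` are central -/
theorem cent_fix {y : Gh k} (hy : S.Cent y) (hσ : S.σ y = y) : y ∈ Subgroup.center (Gh k) := by
  obtain ⟨y0, rfl⟩ := S.k_desc hσ
  refine S.emb_center ?_
  rw [← ker_ad, MonoidHom.mem_ker]
  refine S.max.cent _ fun x => ?_
  obtain ⟨x, rfl⟩ := pq_surjective x
  rw [← S.lift, ← map_mul, ← map_mul]
  congr 1
  exact emb_injective S.f (by rw [map_mul, map_mul]; exact hy x)

/-- **CK** -/
theorem ck (hs : S.SSC) : S.CK := by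
  intro c hc hp
  rcases S.fpf' (D := S.CA) (fun _ => S.σ_mem_CA) (fun _ hm _ => S.conj_mem_CA hm)
    (fun y hy => S.cent_fix (S.mem_CA.1 hy)) (S.mem_CA.2 hc) hp with h1 | ⟨-, y, hy, -, h1⟩
  · exact h1
  · exact (hs y (S.mem_CA.1 hy) h1).elim

theorem σ_σ_of_neg {y : Gh k} (h1 : V k (S.σ y) = - V k y) : y⁻¹ * S.σ y ∈ Subgroup.center (Gh k) := by
  refine mem_center_iff.2 (Or.inr ?_)
  refine _root_.Cfsg.Agent.R2.T1.neg_of fun v => ?_
  rw [V_mul, h1, LinearMap.neg_apply, map_neg, V_inv]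

/-- **FPF** with `SSC` : a `σ`-stable subgroup normalised by `M` which does not contain `A` has no element of order `p` -/
theorem nop_of_not (hs : S.SSC) {D : Subgroup (Gh k)} (hσ : ∀ x ∈ D, S.σ x ∈ D) (hM : ∀ m ∈ S.M, ∀ x ∈ D, m * x * m⁻¹ ∈ D)
    (hA : ∃ x, S.ψ x ∉ D) {c : Gh k} (hc : c ∈ D) (hp : c ^ p = 1) : c = 1 := by
  have hfix := (S.base hM).resolve_right (not_forall.2 hA)
  rcases S.fpf' hσ hM hfix hc hp with h1 | ⟨-, y, hy, -, h1⟩
  · exact h1
  exfalso
  refine hs y (fun x => ?_) h1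
  have h2 := Subgroup.mem_center_iff.1 (S.σ_σ_of_neg h1)
  have h3 : S.σ y = y * (y⁻¹ * S.σ y) := by group
  have h4 := eq_of_perfect S.perfect (f := (MulAut.conj y⁻¹).toMonoidHom.comp S.ψ) (g := S.ψ) (fun x => by
    have h5 : S.ψ x⁻¹ * y⁻¹ * (S.ψ x⁻¹)⁻¹ * y ∈ D := mul_mem (hM _ (S.k_ψ_mem _) _ (inv_mem hy)) hy
    have h6 := hfix _ h5 (by
      rw [map_mul, map_mul, map_mul, map_inv S.σ, map_inv S.σ, S.k_σ_ψ, h3]
      generalize y⁻¹ * S.σ y = z at h2
      calc _ = S.ψ x⁻¹ * z⁻¹ * (y⁻¹ * (S.ψ x⁻¹)⁻¹ * y * z) := by group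
        _ = _ := by rw [h2]; group)
    rw [map_inv, inv_inv] at h6
    show (S.ψ x)⁻¹ * (y⁻¹ * S.ψ x * y⁻¹⁻¹) ∈ _
    rwa [inv_inv, ← mul_assoc, ← mul_assoc]) x
  have h5 : y⁻¹ * S.ψ x * y⁻¹⁻¹ = S.ψ x := h4
  rw [← h5]
  nth_rewrite 1 [h5]
  group

theorem sv_mulVec {I : Type} [Fintype I] [DecidableEq I] {c : I → Fin 7 → ℤ} {R : Gh k →* Matrix I I k} (hR : WRep c R)
    (g : Gh k) (x : I → k) : S.sv (R g *ᵥ x) = R (S.σ g) *ᵥ S.sv x := by
  funext i
  show S.s ((R g *ᵥ x) i) = _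
  rw [RingHom.map_mulVec, ← hR.frob]
  rfl

/-- the pointwise stabiliser of a subspace -/
def Fx {I : Type} [Fintype I] [DecidableEq I] (R : Gh k →* Matrix I I k) (W : Submodule k (I → k)) : Subgroup (Gh k) where
  carrier := {c | ∀ y ∈ W, R c *ᵥ y = y}
  one_mem' := fun y _ => by rw [map_one, one_mulVec]
  mul_mem' := fun ha hb y hy => by rw [mulVec_mul, hb y hy, ha y hy]
  inv_mem' := fun {c} hc y hy => by
    conv_lhs => rw [← hc y hy]
    rw [mulVec_inv]

/-- **PT** -/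
theorem pt (hs : S.SSC) {I : Type} [Fintype I] [DecidableEq I] {c : I → Fin 7 → ℤ} {R : Gh k →* Matrix I I k}
    (hR : WRep c R) : S.PT R := by
  rintro W hW ⟨x, y, hy, hxy⟩ d hd hp
  refine S.nop_of_not hs (D := Fx R W) (fun e he z hz => ?_) (fun m hm e he z hz => ?_) ⟨x, fun h1 => hxy (h1 y hy)⟩ hd hp
  · obtain ⟨z', hz', rfl⟩ := S.k_sv_surj (X := (W : Set (I → k))) hW.2 z hz
    exact (S.sv_mulVec hR e z').symm.trans (by rw [he z' hz']; rfl)
  · rw [mulVec_mul, mulVec_mul, he _ (hW.1 _ (inv_mem hm) z hz), mulVec_inv']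

end Sit

end Cfsg.Agent.E7P
end

-- part: E7P/Nt/Nt
section
prune_inst 0x160384042c002000018050430001c1288000402004b88000100020c034888462d01866100001112081888000000010000000000404000000e00000000000000804002048148a00c460089001080410000000000000000000000000000000004000000000
set_option linter.all false
open scoped Cfsg.Agent.FastGrp

/-!
# S5932: no normalised torus (helper9)

* `Kf.nt_wZ`, `Kf.nt_cw` : the Weyl group on the coweights, twice a coweight as a cocharacter;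
* `Kf.nt_conj_lam` : the Weyl group on the cocharacters;
* `Sit.nt_base`, `Sit.nt_base'` : abelian subgroups which are normalised by `M` and `σ`;
* `Sit.nt` : **NT**.
-/

set_option autoImplicit false
set_option maxRecDepth 100000

namespace Cfsg.Agent.E7P

open Cfsg Cfsg.Lie Matrix Module
open Cfsg.Agent.H943.E7V.Block (D1 rho)
open Cfsg.Agent.R2.T1 Cfsg.Agent.E7P.Kf
open Cfsg.Agent.R2.H9.E6 (pq pq_surjective psl_noncomm)

universe u v

namespace Kf

/-- the Weyl group on the integral vectors -/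
def nt_wZ (l : List (Fin 7)) : Module.End ℤ (Fin 7 → ℤ) :=
  (l.map fun i => 1 - (LinearMap.proj i : (Fin 7 → ℤ) →ₗ[ℤ] ℤ).smulRight (rc (chevE7.simple i))).prod

theorem nt_cv_wZ (l : List (Fin 7)) (c : Fin 7 → ℤ) : cv (nt_wZ l c) = wL l (cv c) := by
  induction l with
  | nil => rfl
  | cons i l ih =>
    rw [wL_cons, ← ih, sr_cv]
    rfl

/-- twice a coweight, in the basis of the simple coroots -/
def nt_cw (ζ : Fin 7 → ℤ) : Fin 7 → ℤ := fun i => ∑ j : Fin 7, ζ j * iC j i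

theorem nt_cw_add (ζ η : Fin 7 → ℤ) : nt_cw (ζ + η) = nt_cw ζ + nt_cw η := by
  funext i
  simp only [nt_cw, Pi.add_apply, add_mul, Finset.sum_add_distrib]

theorem nt_cw_smul (n : ℤ) (ζ : Fin 7 → ℤ) : nt_cw (n • ζ) = n • nt_cw ζ := by
  funext i
  simp only [nt_cw, Pi.smul_apply, smul_eq_mul, Finset.mul_sum, mul_assoc]

theorem nt_bf_cw (ζ c : Fin 7 → ℤ) : ((∑ i, c i * nt_cw ζ i : ℤ) : ℝ) = 2 * bf (cv ζ) (cv c) := by
  rw [bf_def]
  simp only [nt_cw, cv, Finset.mul_sum]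
  push_cast
  rw [Finset.sum_comm]
  refine Finset.sum_congr rfl fun j _ => Finset.sum_congr rfl fun i _ => ?_
  ring

theorem nt_lE_cw (ζ : Fin 7 → ℤ) : lE (nt_cw ζ) = (2 : ℝ) • cv ζ := eq_of_bf_wv fun s => by
  rw [wv, bf_lE, nt_bf_cw, map_smul, LinearMap.smul_apply, smul_eq_mul]

theorem nt_cw_root (ζ : Fin 7 → ℤ) {r : ℕ} (hr : r < 126) : ∑ i, rc r i * nt_cw ζ i = 2 * pc r ζ := by
  have h := nt_bf_cw ζ (rc r)
  rw [show cv (rc r) = rv r from rfl, bf_cv_rv _ hr] at h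
  exact_mod_cast h

theorem nt_pc_simple (i : Fin 7) (ζ : Fin 7 → ℤ) : pc (chevE7.simple i) ζ = ζ i := by
  have h := bf_cv_rv ζ (simple_lt7 i i.2)
  rw [show rv (chevE7.simple i) = al i from rfl, bf_al] at h
  exact (Int.cast_injective (α := ℝ) h).symm

theorem nt_lE_inj {l m : Fin 7 → ℤ} (h : lE l = lE m) : l = m := by
  funext i
  have h1 := bf_lE l (Pi.single i 1)
  rw [h, bf_lE] at h1
  have h2 := Int.cast_injective (α := ℝ) h1
  simpa [Pi.single_apply] using h2.symm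

/-- the labels of a cocharacter -/
def nt_lb (l : Fin 7 → ℤ) : Fin 7 → ℤ := ∑ i, l i • rc (chevE7.simple i)

theorem nt_cv_lb (l : Fin 7 → ℤ) : cv (nt_lb l) = lE l := by
  rw [nt_lb, cv_sum, lE]
  exact Finset.sum_congr rfl fun i _ => cv_zsmul _ _

theorem nt_lE_smul (n : ℤ) (l : Fin 7 → ℤ) : lE (n • l) = (n : ℝ) • lE l := by
  simp only [lE, Pi.smul_apply, smul_eq_mul, Int.cast_mul, Finset.smul_sum, smul_smul]

theorem nt_cw_lb (l : Fin 7 → ℤ) : nt_cw (nt_lb l) = (2 : ℤ) • l := nt_lE_inj (by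
  rw [nt_lE_cw, nt_cv_lb, nt_lE_smul, Int.cast_ofNat])

variable {K : Type u} [Field K]

theorem nt_lam_add (l m : Fin 7 → ℤ) (z : Kˣ) : lam (l + m) z = lam l z * lam m z := funext fun _ => _root_.zpow_add _ _ _

theorem nt_lam_smul (n : ℤ) (l : Fin 7 → ℤ) (z : Kˣ) : lam (n • l) z = lam l (z ^ n) :=
  funext fun _ => _root_.zpow_mul _ _ _

theorem nt_Phi_ext {s t : Fin chevE7.rank → Kˣ} (h : ∀ i, ch (wc i) s = ch (wc i) t) : Phi K s = Phi K t := by
  apply rho_injective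
  rw [wrep_V.tor, wrep_V.tor]
  simp only [h]

/-- the values of the weights on a conjugate -/
theorem nt_ch_conj [Infinite K] (l : List (Fin 7)) {s t : Fin chevE7.rank → Kˣ}
    (h : nL K l * Phi K s * (nL K l)⁻¹ = Phi K t) (i : D1) : ∃ j, wv i = wL l (wv j) ∧ ch (wc i) t = ch (wc j) s := by
  obtain ⟨j, hj⟩ := exists_ne (dualR (rho K)) (nL K l)⁻¹ i
  rw [dualR_apply, inv_inv, transpose_apply] at hj
  refine ⟨j, wrep_V.mon_nL l i j hj, ?_⟩
  have h3 := congrFun (congrFun (congrArg (rho K) (mul_inv_eq_iff_eq_mul.1 h)) i) j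
  rw [map_mul, map_mul, wrep_V.tor, wrep_V.tor, mul_diagonal, diagonal_mul, mul_comm] at h3
  exact (Units.ext (mul_right_cancel₀ hj h3)).symm

/-- **the Weyl group on the cocharacters** -/
theorem nt_conj_lam [Infinite K] (l : List (Fin 7)) {m m' : Fin 7 → ℤ} (h : lE m' = wL l (lE m)) (z : Kˣ) :
    nL K l * Phi K (lam m z) * (nL K l)⁻¹ = Phi K (lam m' z) := by
  obtain ⟨t, ht⟩ := nL_conj_Phi (K := K) l (lam m z)
  rw [ht]
  refine nt_Phi_ext fun i => ?_
  obtain ⟨j, h1, h2⟩ := nt_ch_conj l ht i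
  rw [h2, ch_lam, ch_lam]
  congr 1
  refine Int.cast_injective (α := ℝ) ?_
  rw [← bf_lE, ← bf_lE, h, show cv (wc i) = wv i from rfl, h1, wL_iso]
  rfl

theorem nt_center_cw (ζ : Fin 7 → ℤ) (z : Kˣ) :
    Phi K (lam (nt_cw ζ) z) ∈ Subgroup.center (Gh K) ↔ ∀ i, z ^ (2 * ζ i) = 1 := by
  have key : ∀ r < 126, ∏ i : Fin chevE7.rank, lam (nt_cw ζ) z i ^ chevE7.cartan i r = z ^ (2 * pc r ζ) := fun r hr => by
    rw [← nt_cw_root ζ hr, ← ch_lam]
    rfl
  rw [isPhi.mem_iff]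
  refine ⟨fun h i => ?_, fun h r hr => ?_⟩
  · rw [← nt_pc_simple i ζ, ← key _ (simple_lt7 i i.2)]
    exact h _ (simple_lt7 i i.2)
  · rw [key r hr, pc, Finset.mul_sum, ← H129.StCover.prod_zpow_sum]
    refine Finset.prod_eq_one fun i _ => ?_
    rw [mul_left_comm, mul_comm, _root_.zpow_mul, h, _root_.one_zpow]

theorem nt_exists_root [IsAlgClosed K] {N : ℕ} (hN : (N : K) ≠ 0) : ∃ z : Kˣ, IsPrimitiveRoot z N := by
  have : NeZero (N : K) := ⟨hN⟩
  have : NeZero N := ⟨fun h => hN (by rw [h, Nat.cast_zero])⟩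
  obtain ⟨z, hz⟩ := HasEnoughRootsOfUnity.exists_primitiveRoot K N
  exact ⟨_, hz.isUnit_unit (NeZero.ne N)⟩

theorem nt_exists_pow [IsAlgClosed K] {N : ℕ} (hN : 0 < N) (z : Kˣ) : ∃ y : Kˣ, y ^ N = z := by
  obtain ⟨y, hy⟩ := IsAlgClosed.exists_pow_nat_eq (z : K) hN
  have h0 : y ≠ 0 := by
    rintro rfl
    exact z.ne_zero (by rw [← hy, zero_pow hN.ne'])
  exact ⟨Units.mk0 y h0, Units.ext hy⟩

/-- periodic points -/
theorem nt_period (l : List (Fin 7)) (ζ : Fin 7 → ℤ) : ∃ m, 0 < m ∧ (nt_wZ l ^ m) ζ = ζ := by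
  have h1 : ∀ n : ℕ, ∃ l', cv ((nt_wZ l ^ n) ζ) = wL l' (cv ζ) := by
    intro n
    induction n with
    | zero => exact ⟨[], rfl⟩
    | succ n ih =>
      obtain ⟨l', h⟩ := ih
      exact ⟨l ++ l', by rw [pow_succ', Module.End.mul_apply, nt_cv_wZ, h, wL_append]⟩
  have hinj : Function.Injective (nt_wZ l) := fun x y h => cv_inj (by
    rw [← wL_rev l (cv x), ← wL_rev l (cv y), ← nt_cv_wZ l x, ← nt_cv_wZ l y, h])
  obtain ⟨m, n, hmn, h⟩ := (finite_orbit (cv ζ)).exists_lt_map_eq_of_forall_mem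
    (f := fun n : ℕ => cv ((nt_wZ l ^ n) ζ)) fun n => (h1 n).imp fun _ h => h.symm
  obtain ⟨d, rfl⟩ := Nat.exists_eq_add_of_lt hmn
  refine ⟨d + 1, Nat.succ_pos d, ?_⟩
  have h2 := cv_inj h
  rw [add_assoc, pow_add, Module.End.mul_apply, Module.End.pow_apply] at h2
  rw [Module.End.pow_apply (nt_wZ l) m] at h2
  exact ((hinj.iterate m) h2).symm

/-- the Frobenius map expands -/
theorem nt_expand (l : List (Fin 7)) {q : ℝ} (hq : 3 ≤ q) (x : E) :
    4 * bf x x ≤ bf (q • wL l x - x) (q • wL l x - x) := by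
  have h1 := bf_pd.nonneg (wL l x - x)
  have h2 := bf_pd.nonneg x
  simp only [map_sub, map_smul, LinearMap.sub_apply, LinearMap.smul_apply, smul_eq_mul, wL_iso] at h1 ⊢
  rw [bf_symm x (wL l x)] at h1 ⊢
  linarith only [mul_nonneg (show 0 ≤ q by linarith) h1, mul_nonneg (mul_nonneg (show 0 ≤ q - 3 by linarith)
    (show 0 ≤ q + 1 by linarith)) h2]

end Kf

namespace Sit

variable {p a b : ℕ} {F : Type u} {K : Type v} {k : Type u} [Field F] [Fintype F] [Field K] [Fintype K] [Field k]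
  (S : Sit p a b F K k)

/-- the rational points of an abelian subgroup which is normalised by `M` are central -/
theorem nt_base {D : Subgroup (Gh k)} (hM : ∀ m ∈ S.M, ∀ x ∈ D, m * x * m⁻¹ ∈ D) (hc : ∀ x ∈ D, ∀ y ∈ D, x * y = y * x)
    {y : Gh k} (hy : y ∈ D) (hσ : S.σ y = y) : y ∈ Subgroup.center (Gh k) := by
  obtain ⟨y0, rfl⟩ := S.k_desc hσ
  let B : Subgroup ↥(chevE7.group F) := (D.comap (emb S.f)).map (ad F)
  have hB : ∀ x ∈ B, ∀ y ∈ B, x * y = y * x := by
    rintro _ ⟨x, hx, rfl⟩ _ ⟨y, hy, rfl⟩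
    rw [← map_mul, ← map_mul]
    congr 1
    exact emb_injective S.f (by rw [map_mul, map_mul]; exact hc _ hx _ hy)
  have hn : ∀ h ∈ S.H, ∀ x ∈ B, h * x * h⁻¹ ∈ B := by
    rintro h hh _ ⟨x, hx, rfl⟩
    obtain ⟨m, rfl⟩ := ad_surjective h
    refine ⟨m * x * m⁻¹, ?_, by rw [map_mul, map_mul, map_inv]⟩
    show emb S.f (m * x * m⁻¹) ∈ D
    rw [map_mul, map_mul, map_inv]
    exact hM _ ⟨m, hh, rfl⟩ _ hx
  have h0 : B = ⊥ := by
    by_contra hne
    have h1 : ¬ S.φ.range ≤ B := fun h => by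
      obtain ⟨x, y, hxy⟩ := psl_noncomm S.k_four
      exact hxy (S.max.inj (by rw [map_mul, map_mul]; exact hB _ (h ⟨x, rfl⟩) _ (h ⟨y, rfl⟩)))
    have h2 : S.H ≤ Subgroup.normalizer B := fun h hh => Subgroup.mem_normalizer_iff.2 fun x =>
      ⟨hn h hh x, fun hx => by
        have h3 := hn _ (inv_mem hh) _ hx
        rwa [show h⁻¹ * (h * x * h⁻¹) * h⁻¹⁻¹ = x by group] at h3⟩
    rcases h2.eq_or_lt with h3 | h3
    · exact h1 (S.max.min B (h3 ▸ Subgroup.le_normalizer) hn hne)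
    · have h4 := Subgroup.normalizer_eq_top_iff.1 (S.max.coatom.2 _ h3)
      have := simpleE7 (K := F)
      exact h1 ((h4.eq_bot_or_eq_top.resolve_left hne) ▸ le_top)
  have h1 : ad F y0 = 1 := (Subgroup.eq_bot_iff_forall B).1 h0 _ ⟨y0, hy, rfl⟩
  rw [← ker_ad, MonoidHom.mem_ker, ad_emb, h1, map_one]

/-- an element whose commutators with `A` are central centralises `A` -/
theorem nt_cent {y : Gh k} (h : ∀ x, y⁻¹ * (S.ψ x * y * (S.ψ x)⁻¹) ∈ Subgroup.center (Gh k)) : S.Cent y := by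
  have key : ∀ x, y⁻¹ * S.ψ x * y = S.ψ x * (y⁻¹ * (S.ψ x * y * (S.ψ x)⁻¹)) := fun x => by
    rw [Subgroup.mem_center_iff.1 (h x)]
    group
  intro x
  refine (Subgroup.mem_centralizer_singleton_iff.1
    (S.nt_all (T := (Subgroup.centralizer {y}).comap S.ψ) (fun x x' => ?_) x) :)
  refine Subgroup.mem_centralizer_singleton_iff.2 ?_
  have h1 := nt_comm_center (x := S.ψ x) (y := S.ψ x') (h x) (h x')
  rw [← key, ← key] at h1
  rw [map_mul, map_mul, map_mul, map_inv, map_inv]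
  conv_rhs => rw [← h1]
  group

/-- the rational points modulo the centre -/
theorem nt_base' (hs : S.SSC) {D : Subgroup (Gh k)}
    (hM : ∀ m ∈ S.M, ∀ x ∈ D, m * x * m⁻¹ ∈ D) (hc : ∀ x ∈ D, ∀ y ∈ D, x * y = y * x)
    {y : Gh k} (hy : y ∈ D) (h : y⁻¹ * S.σ y ∈ Subgroup.center (Gh k)) : y ∈ Subgroup.center (Gh k) := by
  have h3 : S.σ y = y * (y⁻¹ * S.σ y) := by group
  rcases V_center h with h4 | h4
  · rw [faithful h4, mul_one] at h3
    exact S.nt_base hM hc hy h3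
  refine (hs y (S.nt_cent fun x => S.nt_base hM hc (mul_mem (inv_mem hy) (hM _ (S.k_ψ_mem x) y hy)) ?_) ?_).elim
  · rw [map_mul, map_mul, map_mul, map_inv, map_inv, S.k_σ_ψ, h3]
    generalize y⁻¹ * S.σ y = z at h
    rw [← mul_assoc (S.ψ x), mul_assoc _ z, ← Subgroup.mem_center_iff.1 h, ← mul_assoc (S.ψ x * y),
      Subgroup.mem_center_iff.1 h, Subgroup.mem_center_iff.1 h]
    group
  · rw [h3, map_mul, h4]
    exact mul_neg_one (α := Module.End k (D1 → k)) _

/-- **NT** -/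
theorem nt (hp : p ≠ 2) (hs : S.SSC) : S.NT := by
  intro D g l hσ hM hT hl
  have := S.closed
  have := S.chark
  have hc : ∀ x ∈ D, ∀ y ∈ D, x * y = y * x := by
    intro x hx y hy
    obtain ⟨s, rfl⟩ := hT x hx
    obtain ⟨t, rfl⟩ := hT y hy
    rw [conj_mul, conj_mul, ← map_mul, ← map_mul, mul_comm s t]
  obtain ⟨l0, h0⟩ := conj_T_nL (g⁻¹ * S.σ g)
  let τ : (Fin 7 → ℤ) → kˣ → Gh k := fun ζ z => g * Phi k (lam (nt_cw ζ) z) * g⁻¹
  have τ_add : ∀ ζ η z, τ (ζ + η) z = τ ζ z * τ η z := fun ζ η z => by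
    simp only [τ]
    rw [nt_cw_add, nt_lam_add, map_mul, conj_mul]
  have τ_smul : ∀ (n : ℤ) ζ z, τ (n • ζ) z = τ ζ (z ^ n) := fun n ζ z => by
    simp only [τ]
    rw [nt_cw_smul, nt_lam_smul]
  have τ_cen : ∀ ζ z, τ ζ z ∈ Subgroup.center (Gh k) ↔ ∀ i, z ^ (2 * ζ i) = 1 := fun ζ z => by
    rw [← nt_center_cw]
    exact (Subgroup.normal_of_characteristic _).mem_comm_iff.trans (by rw [inv_mul_cancel_left])
  let Λ : Submodule ℤ (Fin 7 → ℤ) :=
    { carrier := {ζ | ∀ z, τ ζ z ∈ D}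
      add_mem' := fun h h' z => by rw [τ_add]; exact mul_mem (h z) (h' z)
      zero_mem' := fun z => by
        have h1 := τ_add 0 0 z
        rw [add_zero, left_eq_mul] at h1
        rw [h1]; exact one_mem _
      smul_mem' := fun n _ h z => by rw [τ_smul]; exact h _ }
  set q : ℤ := (p : ℤ) ^ b with hq
  let Fr : Module.End ℤ (Fin 7 → ℤ) := q • nt_wZ l0
  have hFr : ∀ ζ ∈ Λ, ∀ z, S.σ (τ ζ z) = τ (Fr ζ) z := by
    intro ζ hζ z
    obtain ⟨t, ht⟩ := hT _ (hσ _ (hζ z))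
    have h1 : S.σ (Phi k (lam (nt_cw ζ) z)) = Phi k (lam (nt_cw ζ) (z ^ q)) := by
      refine (emb_Phi S.s _).trans (congrArg _ (funext fun i => Units.ext ?_))
      show S.s ((z ^ nt_cw ζ i : kˣ) : k) = (((z ^ q) ^ nt_cw ζ i : kˣ) : k)
      rw [S.k_frob, ← _root_.zpow_mul, mul_comm, _root_.zpow_mul, hq, ← Nat.cast_pow, zpow_natCast, Units.val_pow_eq_pow_val]
    have h2 := h0 (lam (nt_cw ζ) (z ^ q)) t (by
      rw [← h1, show Phi k t = g⁻¹ * (g * Phi k t * g⁻¹) * g by group, ← ht]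
      simp only [τ, map_mul, map_inv]
      group)
    rw [nt_conj_lam l0 (m' := nt_cw (nt_wZ l0 ζ)) (by rw [nt_lE_cw, nt_lE_cw, nt_cv_wZ, map_smul])] at h2
    rw [ht, ← h2]
    exact (τ_smul q _ z).symm
  have hFΛ : ∀ ζ ∈ Λ, Fr ζ ∈ Λ := fun ζ hζ z => hFr ζ hζ z ▸ hσ _ (hζ z)
  have hq3 : 3 ≤ q := by
    have h1 := S.prime.two_le
    have h2 : (p : ℤ) ^ 1 ≤ q := pow_le_pow_right₀ (by omega) S.hb
    rw [pow_one] at h2
    omega
  have step : ∀ ζ ∈ Λ, ∃ η ∈ Λ, Fr η - η = ζ := by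
    intro ζ hζ
    obtain ⟨m, hm, e⟩ := nt_period l0 ζ
    obtain ⟨N, hN⟩ : ∃ N : ℕ, (N : ℤ) = q ^ m - 1 := Int.eq_ofNat_of_zero_le (by
      have := one_le_pow₀ (n := m) (show 1 ≤ q by omega)
      omega) |>.imp fun _ h => h.symm
    have hNk : (N : k) ≠ 0 := by
      have h1 : ((N : ℤ) : k) = -1 := by
        rw [hN, hq]
        push_cast
        rw [CharP.cast_eq_zero, zero_pow (by have := S.hb; omega), zero_pow hm.ne', zero_sub]
      rw [Int.cast_natCast] at h1
      rw [h1]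
      exact neg_ne_zero.2 one_ne_zero
    have hN0 : N ≠ 0 := fun h => hNk (by rw [h, Nat.cast_zero])
    obtain ⟨z, hz⟩ := nt_exists_root (K := k) (N := 2 * N) (by
      rw [Nat.cast_mul, Nat.cast_ofNat]
      exact mul_ne_zero (S.nt_two hp) hNk)
    have hη : (∑ i ∈ Finset.range m, Fr ^ i) ζ ∈ Λ := by
      rw [LinearMap.sum_apply]
      refine Submodule.sum_mem _ fun i _ => ?_
      induction i with
      | zero => exact hζ
      | succ i ih => rw [pow_succ', Module.End.mul_apply]; exact hFΛ _ (ih (by simp_all only [_root_.ne_eq, _root_.mul_inv_rev, _root_.inv_inv, _root_.Finset.mem_range]; omega))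
    set η := (∑ i ∈ Finset.range m, Fr ^ i) ζ with hηd
    have h1 : Fr η - η = (N : ℤ) • ζ := by
      have h2 := congrArg (fun T : Module.End ℤ (Fin 7 → ℤ) => T ζ) (mul_geom_sum Fr m)
      simp only [Module.End.mul_apply, LinearMap.sub_apply, Module.End.one_apply] at h2
      rw [h2, hN, sub_smul, one_smul, smul_pow, LinearMap.smul_apply, e]
    have h2 := (τ_cen η z).1 (S.nt_base' hs hM hc (hη z) (by
      rw [hFr η hη, show Fr η = η + (N : ℤ) • ζ by rw [← h1]; abel, τ_add, inv_mul_cancel_left, τ_cen]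
      intro i
      rw [Pi.smul_apply, smul_eq_mul, ← mul_assoc, _root_.zpow_mul, show (2 * N : ℤ) = ((2 * N : ℕ) : ℤ) by push_cast; rfl,
        zpow_natCast, hz.pow_eq_one, _root_.one_zpow]))
    choose η' hη' using fun i => (hz.zpow_eq_one_iff_dvd _).1 (h2 i)
    have h3 : η = (N : ℤ) • η' := funext fun i => by
      have h4 := hη' i
      rw [Pi.smul_apply, smul_eq_mul]
      push_cast at h4
      linarith only [h4]
    refine ⟨η', fun y => ?_, ?_⟩
    · obtain ⟨x, rfl⟩ := nt_exists_pow (Nat.pos_of_ne_zero hN0) y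
      rw [← zpow_natCast, ← τ_smul, ← h3]
      exact hη x
    · rw [h3, map_smul, ← smul_sub] at h1
      exact smul_right_injective _ (by exact_mod_cast hN0) h1
  have key : ∀ n : ℕ, ∀ ζ ∈ Λ, 2 * bf (cv ζ) (cv ζ) < n → ζ = 0 := by
    intro n
    induction n with
    | zero =>
      intro ζ _ h
      have := bf_pd.nonneg (cv ζ)
      rw [Nat.cast_zero] at h
      linarith
    | succ n ih =>
      intro ζ hζ h
      by_contra hne
      obtain ⟨η, hη, e⟩ := step ζ hζ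
      have h1 := nt_expand l0 (q := q) (by exact_mod_cast hq3) (cv η)
      rw [← nt_cv_wZ, ← cv_zsmul, ← cv_sub, show q • nt_wZ l0 η = Fr η from rfl, e] at h1
      have h2 := bf_pd.pos (cv ζ) fun h0 => hne (cv_inj (h0.trans cv_zero.symm))
      have h3 : 2 * bf (cv ζ) (cv ζ) ≤ n := by
        rw [← nt_bf_cw] at h ⊢
        have h4 : ∑ i, ζ i * nt_cw ζ i < ((n + 1 : ℕ) : ℤ) := by exact_mod_cast h
        exact_mod_cast (show ∑ i, ζ i * nt_cw ζ i ≤ (n : ℤ) by omega)
      rw [ih η hη (by linarith), map_zero, sub_zero] at e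
      exact hne e.symm
  obtain ⟨n, hn⟩ := exists_nat_gt (2 * bf (cv (nt_lb l)) (cv (nt_lb l)))
  have h1 := key n (nt_lb l) (fun z => by
    simp only [τ]
    rw [nt_cw_lb, nt_lam_smul]
    exact hl _) hn
  have h2 := nt_cw_lb l
  rw [h1, ← zero_smul ℤ (0 : Fin 7 → ℤ), nt_cw_smul, zero_smul] at h2
  exact (smul_eq_zero.1 h2.symm).resolve_left two_ne_zero

end Sit

end Cfsg.Agent.E7P

private theorem dce_8b748ab4c48f : _root_.True := by
  try have : _root_.True := by simp only [_root_.Cfsg.Agent.E7P.Kf.nt_cw.eq_1]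
  try have : _root_.True := by simp only [_root_.Cfsg.Agent.E7P.Kf.nt_lb.eq_1]
  exact _root_.True.intro
end

-- part: E7P/Rsl/Std
section
prune_inst 0x300039405762000000180010e2001e32820000021048800080000008048888442540806100200112000004440830014811100000028000000a1c0000011800800040000080484011000090000008410000008040000000000000000000000000000000000
set_option linter.all false
open scoped Cfsg.Agent.FastGrp

-- part: E7P/Rsl/Rep
section
/-!
# S5932: rational representations of `SL₂(k)` (helper61)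

* `Rep2 k I` : a representation on `I → k` with diagonal torus and polynomial root group;
* `D m`, `E`, `F`, `H`, `op`; `D_wt`, `D_mul_D`, `E_pow`, `EF`, `DF`, `u_E`, `u_H`, `u_F`, `w_E`, `w_H`, `w_F`;
* `Wt j` : the weight spaces; `fix_u`, `fix_all`; `exists_perm`; `cas`, `f4`.
-/

set_option autoImplicit false

namespace Cfsg.Agent.E7P.Rsl

open Matrix Polynomial Module
open Cfsg.Agent.H943.SL2Rel (u w h)

section
variable {k : Type*} [Field k]

/-- the opposite root group -/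
def v (s : k) : _root_.Matrix.SpecialLinearGroup (Fin 2) k := w * u (-s) * w⁻¹

theorem v_val (s : k) : (v s).1 = !![1, 0; s, 1] := by
  let x : _root_.Matrix.SpecialLinearGroup (Fin 2) k := ⟨!![1, 0; s, 1], by simp [Matrix.det_fin_two]⟩
  have h1 : v s * w = w * u (-s) := inv_mul_cancel_right _ _
  have h2 : x * w = w * u (-s) := by
    refine Subtype.ext ?_
    show !![1, 0; s, 1] * !![0, 1; -1, 0] = !![0, 1; -1, 0] * !![1, -s; 0, 1]
    simp
  rw [mul_right_cancel (h1.trans h2.symm)]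

theorem u_v (y : kˣ) {s t : k} (e : (y : k) ^ 2 = 1 + s * t) : u t * v s = h y * (v s * u t) * h y := by
  refine Subtype.ext ?_
  show (u t).1 * (v s).1 = (h y).1 * ((v s).1 * (u t).1) * (h y).1
  rw [v_val]
  show !![1, t; 0, 1] * !![1, 0; s, 1] =
    !![(y : k), 0; 0, (y : k)⁻¹] * (!![1, 0; s, 1] * !![1, t; 0, 1]) * !![(y : k), 0; 0, (y : k)⁻¹]
  have hy : (y : k) ≠ 0 := y.ne_zero
  simp only [Matrix.mul_fin_two]
  ext i j
  fin_cases i <;> fin_cases j
  · simp only [_root_.mul_one, _root_.MulZeroClass.mul_zero, _root_.zero_add, _root_.one_mul, _root_.Fin.zero_eta, _root_.Fin.isValue, _root_.Matrix.of_apply, _root_.Matrix.cons_val', _root_.Matrix.cons_val_zero, _root_.Matrix.cons_val_fin_one, _root_.add_zero, _root_.MulZeroClass.zero_mul]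
    linear_combination -e
  · simp only [_root_.mul_one, _root_.MulZeroClass.mul_zero, _root_.zero_add, _root_.one_mul, _root_.Fin.zero_eta, _root_.Fin.isValue, _root_.Fin.mk_one, _root_.Matrix.of_apply, _root_.Matrix.cons_val', _root_.Matrix.cons_val_one, _root_.Matrix.cons_val_fin_one, _root_.Matrix.cons_val_zero, _root_.add_zero, _root_.MulZeroClass.zero_mul]
    field_simp
  · simp only [_root_.mul_one, _root_.MulZeroClass.mul_zero, _root_.zero_add, _root_.one_mul, _root_.Fin.mk_one, _root_.Fin.isValue, _root_.Fin.zero_eta, _root_.Matrix.of_apply, _root_.Matrix.cons_val', _root_.Matrix.cons_val_zero, _root_.Matrix.cons_val_fin_one, _root_.Matrix.cons_val_one, _root_.add_zero, _root_.MulZeroClass.zero_mul]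
    field_simp
  · simp only [_root_.mul_one, _root_.MulZeroClass.mul_zero, _root_.zero_add, _root_.one_mul, _root_.Fin.mk_one, _root_.Fin.isValue, _root_.Matrix.of_apply, _root_.Matrix.cons_val', _root_.Matrix.cons_val_one, _root_.Matrix.cons_val_fin_one, _root_.add_zero, _root_.MulZeroClass.zero_mul]
    field_simp
    linear_combination e

theorem w_eq : (w : _root_.Matrix.SpecialLinearGroup (Fin 2) k) = u 1 * v (-1) * u 1 := by
  refine Subtype.ext ?_
  show _ = (u (1 : k)).1 * (v (-1 : k)).1 * (u (1 : k)).1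
  rw [v_val]
  show !![(0 : k), 1; -1, 0] = !![1, 1; 0, 1] * !![1, 0; -1, 1] * !![1, 1; 0, 1]
  simp

theorem w_h (z : kˣ) : w * h z * w⁻¹ = h z⁻¹ := by
  rw [mul_inv_eq_iff_eq_mul, H943.SL2Rel.h_w, inv_inv]

/-- `SL₂(k)` is generated by the two root groups -/
theorem mem_of_uv {T : Subgroup (_root_.Matrix.SpecialLinearGroup (Fin 2) k)} (hu : ∀ t, u t ∈ T) (hv : ∀ s, v s ∈ T)
    (x : _root_.Matrix.SpecialLinearGroup (Fin 2) k) : x ∈ T := by
  have hw : w ∈ T := by
    rw [w_eq]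
    exact mul_mem (mul_mem (hu _) (hv _)) (hu _)
  refine H943.SL2Rel.induct (P := fun x => x ∈ T) hu (fun a => ?_) hw (fun _ _ => mul_mem) x
  have h0 : -(a : k)⁻¹ ≠ 0 := neg_ne_zero.2 (inv_ne_zero a.ne_zero)
  have h1 := H943.SL2Rel.w_u_w _ h0
  have h2 : H943.SL2Rel.mi _ h0 = a := Units.ext (by simp [H943.SL2Rel.mi])
  rw [h2] at h1
  have h3 := mul_mem (mul_mem hw (hu (-(a : k)⁻¹))) hw
  rw [h1, mul_mem_cancel_right (hu _), mul_mem_cancel_right hw, mul_mem_cancel_left (hu _)] at h3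
  exact h3

theorem map_u {K : Type*} [Field K] (f : K →+* k) (t : K) : SpecialLinearGroup.map f (u t) = u (f t) := by
  refine Subtype.ext ?_
  show (!![1, t; 0, 1] : Matrix (Fin 2) (Fin 2) K).map f = !![1, f t; 0, 1]
  ext i j
  (revert i j; simp only [_root_.Fin.forall_fin_succ, _root_.Matrix.map_apply, _root_.Matrix.of_apply, _root_.Matrix.cons_val', _root_.Matrix.cons_val_fin_one, Fin.isValue, _root_.Matrix.cons_val_zero, _root_.Matrix.cons_val_succ, _root_.forall_const, _root_.map_one, _root_.and_self, _root_.map_zero, _root_.implies_true])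

theorem map_w {K : Type*} [Field K] (f : K →+* k) : SpecialLinearGroup.map f (w : _root_.Matrix.SpecialLinearGroup (Fin 2) K) = w := by
  refine Subtype.ext ?_
  show (!![0, 1; -1, 0] : Matrix (Fin 2) (Fin 2) K).map f = !![0, 1; -1, 0]
  ext i j
  (revert i j; simp only [_root_.Fin.forall_fin_succ, _root_.Matrix.map_apply, _root_.Matrix.of_apply, _root_.Matrix.cons_val', _root_.Matrix.cons_val_fin_one, Fin.isValue, _root_.Matrix.cons_val_zero, _root_.Matrix.cons_val_succ, _root_.forall_const, _root_.map_zero, _root_.map_one, _root_.and_self, _root_.map_neg, _root_.implies_true])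

theorem map_h {K : Type*} [Field K] (f : K →+* k) (z : Kˣ) :
    SpecialLinearGroup.map f (h z) = h (Units.map (f : K →* k) z) := by
  refine Subtype.ext ?_
  show (!![(z : K), 0; 0, (z : K)⁻¹] : Matrix (Fin 2) (Fin 2) K).map f = !![f z, 0; 0, (f z)⁻¹]
  ext i j
  (revert i j; simp only [_root_.Fin.forall_fin_succ, _root_.Matrix.map_apply, _root_.Matrix.of_apply, _root_.Matrix.cons_val', _root_.Matrix.cons_val_fin_one, Fin.isValue, _root_.Matrix.cons_val_zero, _root_.Matrix.cons_val_succ, _root_.forall_const, _root_.map_zero, _root_.and_self, _root_.map_inv₀, _root_.implies_true])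

/-- the derivative at `1` of a Laurent identity -/
theorem der [Infinite k] {p q : k[X]} {κ : ℤ} (e : ∀ y : kˣ, p.eval (y : k) = ((y ^ κ : kˣ) : k) * q.eval (y : k)) :
    p.derivative.eval 1 = κ * q.eval 1 + q.derivative.eval 1 := by
  obtain ⟨a, b, rfl⟩ : ∃ a b : ℕ, κ = b - a := ⟨_, _, (Int.toNat_sub_toNat_neg κ).symm⟩
  have h1 : X ^ a * p = X ^ b * q := by
    refine eq_of_infinite_eval_eq _ _ ((Set.finite_singleton (0 : k)).infinite_compl.mono fun y hy => ?_)
    have hy' : y ≠ 0 := hy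
    have h2 := e (Units.mk0 y hy')
    rw [Units.val_zpow_eq_zpow_val, Units.val_mk0, zpow_sub₀ hy', zpow_natCast, zpow_natCast] at h2
    show eval y _ = eval y _
    rw [eval_mul, eval_mul, eval_pow, eval_pow, eval_X, h2]
    field_simp
  have h2 := congrArg (fun r => eval 1 (derivative r)) h1
  have h3 := e 1
  simp only [derivative_mul, derivative_X_pow, eval_add, eval_mul, eval_C, eval_pow, eval_X, one_pow, mul_one,
    one_mul] at h2
  simp only [_root_.one_zpow, Units.val_one, one_mul] at h3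
  push_cast
  linear_combination h2 - a * h3

variable {I : Type*}

/-- the coefficients of a polynomial matrix -/
def co (m : ℕ) (M : Matrix I I k[X]) : Matrix I I k := M.map fun p => p.coeff m

theorem co_ext {M N : Matrix I I k[X]} (e : ∀ m, co m M = co m N) : M = N := by
  ext i j m
  exact congrFun (congrFun (e m) i) j

theorem ev_ext [Infinite k] {M N : Matrix I I k[X]} (e : ∀ t, M.map (eval t) = N.map (eval t)) : M = N := by
  funext i j
  exact Polynomial.funext fun t => congrFun (congrFun (e t) i) j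

theorem co_add (m : ℕ) (M N : Matrix I I k[X]) : co m (M + N) = co m M + co m N := by
  ext i j
  exact coeff_add _ _ _

theorem co_sub (m : ℕ) (M N : Matrix I I k[X]) : co m (M - N) = co m M - co m N := by
  ext i j
  exact coeff_sub _ _ _

theorem co_X (m : ℕ) (M : Matrix I I k[X]) : co (m + 1) ((X : k[X]) • M) = co m M := by
  ext i j
  exact coeff_X_mul _ _

theorem co_X_zero (M : Matrix I I k[X]) : co 0 ((X : k[X]) • M) = 0 := by
  ext i j
  exact coeff_X_mul_zero _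

theorem ev_add (t : k) (M N : Matrix I I k[X]) : (M + N).map (eval t) = M.map (eval t) + N.map (eval t) := by
  ext i j
  exact eval_add

theorem ev_sub (t : k) (M N : Matrix I I k[X]) : (M - N).map (eval t) = M.map (eval t) - N.map (eval t) := by
  ext i j
  exact eval_sub _ _ _

theorem ev_X (t : k) (M : Matrix I I k[X]) : ((X : k[X]) • M).map (eval t) = t • M.map (eval t) := by
  ext i j
  show eval t (X * M i j) = t * eval t (M i j)
  rw [eval_mul, eval_X]

theorem ev_C (t : k) (B : Matrix I I k) : (B.map C).map (eval t) = B := by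
  ext i j
  exact eval_C

variable [Fintype I]

theorem co_mul_C (m : ℕ) (M : Matrix I I k[X]) (B : Matrix I I k) : co m (M * B.map C) = co m M * B := by
  ext i j
  simp only [co, map_apply, mul_apply, finsetSum_coeff, coeff_mul_C]

theorem co_C_mul (m : ℕ) (M : Matrix I I k[X]) (B : Matrix I I k) : co m (B.map C * M) = B * co m M := by
  ext i j
  simp only [co, map_apply, mul_apply, finsetSum_coeff, coeff_C_mul]

theorem ev_mul (t : k) (M N : Matrix I I k[X]) : (M * N).map (eval t) = M.map (eval t) * N.map (eval t) :=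
  Matrix.map_mul (f := evalRingHom t)

variable [DecidableEq I]

/-- a non-zero term of the determinant -/
theorem exists_perm {G : Type*} [Group G] (R : G →* Matrix I I k) (g : G) : ∃ π : Equiv.Perm I, ∀ j, R g (π j) j ≠ 0 := by
  have h1 : det (R g) ≠ 0 := fun e => by
    have h2 := congrArg det (map_mul R g g⁻¹)
    rw [mul_inv_cancel, map_one, det_one, det_mul, e, zero_mul] at h2
    exact one_ne_zero h2
  rw [det_apply] at h1
  obtain ⟨π, -, hπ⟩ := Finset.exists_ne_zero_of_sum_ne_zero h1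
  refine ⟨π, fun j e => hπ ?_⟩
  rw [Finset.prod_eq_zero (f := fun i => R g (π i) i) (Finset.mem_univ j) e, smul_zero]

end

/-- **rational representations of `SL₂(k)`** -/
structure Rep2 (k : Type*) [Field k] (I : Type*) [Fintype I] [DecidableEq I] where
  R : _root_.Matrix.SpecialLinearGroup (Fin 2) k →* Matrix I I k
  n : I → ℤ
  tor : ∀ z, R (h z) = diagonal fun i => ((z ^ n i : kˣ) : k)
  P : Matrix I I k[X]
  ev : ∀ t, R (u t) = P.map (eval t)

namespace Rep2

variable {k : Type*} [Field k] {I : Type*} [Fintype I] [DecidableEq I] (A : Rep2 k I)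

/-- the divided powers -/
def D (m : ℕ) : Matrix I I k := co m A.P

/-- the raising operator -/
def E : Matrix I I k := A.D 1

/-- the lowering operator -/
def F : Matrix I I k := - (A.R w * A.E * A.R w⁻¹)

/-- the toral operator -/
def H : Matrix I I k := diagonal fun i => (A.n i : k)

/-- the representation twisted by `w` -/
noncomputable def op : Rep2 k I where
  R := A.R.comp (MulAut.conj w).toMonoidHom
  n i := - A.n i
  tor z := by
    show A.R (w * h z * w⁻¹) = _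
    rw [w_h, A.tor]
    simp only [_root_.zpow_neg, _root_.inv_zpow]
  P := (A.R w).map C * A.P * (A.R w⁻¹).map C
  ev t := by
    show A.R (w * u t * w⁻¹) = _
    rw [map_mul, map_mul, ev_mul, ev_mul, ev_C, ev_C, A.ev]

theorem op_R (x : _root_.Matrix.SpecialLinearGroup (Fin 2) k) : A.op.R x = A.R (w * x * w⁻¹) := rfl

theorem op_n (i : I) : A.op.n i = - A.n i := rfl

theorem R_v (s : k) : A.R (v s) = A.op.R (u (-s)) := rfl

theorem op_D (m : ℕ) : A.op.D m = A.R w * A.D m * A.R w⁻¹ := by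
  show co m (_ * _ * _) = _
  rw [co_mul_C, co_C_mul, D]

theorem op_E : A.op.E = - A.F := by rw [F, neg_neg, E, op_D, E]

theorem R_mul_inv (x : _root_.Matrix.SpecialLinearGroup (Fin 2) k) : A.R x * A.R x⁻¹ = 1 := by rw [← map_mul, mul_inv_cancel, map_one]

theorem R_inv_mul (x : _root_.Matrix.SpecialLinearGroup (Fin 2) k) : A.R x⁻¹ * A.R x = 1 := by rw [← map_mul, inv_mul_cancel, map_one]

theorem D_zero : A.D 0 = 1 := by
  rw [← map_one A.R, ← H943.SL2Rel.u_zero, A.ev]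
  ext i j
  exact coeff_zero_eq_eval_zero _

theorem exists_bound : ∃ N, ∀ m, N ≤ m → A.D m = 0 := by
  refine ⟨(Finset.univ.sup fun x : I × I => (A.P x.1 x.2).natDegree) + 1, fun m hm => ?_⟩
  ext i j
  exact coeff_eq_zero_of_natDegree_lt (lt_of_le_of_lt
    ((Finset.le_sup (f := fun x : I × I => (A.P x.1 x.2).natDegree) (Finset.mem_univ (i, j)) :)) hm)

theorem R_u_eq {N : ℕ} (hN : ∀ m, N ≤ m → A.D m = 0) (t : k) : A.R (u t) = ∑ m ∈ Finset.range N, t ^ m • A.D m := by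
  rw [A.ev]
  ext i j
  rw [map_apply, Matrix.sum_apply, eval_eq_sum_degreeLTEquiv (n := N) ((mem_degreeLT).2 ((degree_lt_iff_coeff_zero _ _).2
    fun m hm => congrFun (congrFun (hN m hm) i) j)), Finset.sum_range]
  exact Finset.sum_congr rfl fun m _ => mul_comm _ _

/-- the vectors of weight `j` -/
def Wt (j : ℤ) : Submodule k (I → k) where
  carrier := {x | ∀ i, x i ≠ 0 → A.n i = j}
  zero_mem' := fun _ h => absurd rfl h
  add_mem' := by
    intro x y hx hy i hi
    by_cases e : x i = 0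
    · rw [Pi.add_apply, e, zero_add] at hi
      exact hy i hi
    · exact hx i e
  smul_mem' := fun _ _ hx i hi => hx i (right_ne_zero_of_mul hi)

theorem single_mem (i : I) (c : k) : Pi.single i c ∈ A.Wt (A.n i) := fun j hj => by
  by_cases e : j = i
  · rw [e]
  · exact absurd (Pi.single_eq_of_ne (M := fun _ => k) e c) hj

variable {A} in
theorem H_mulVec {j : ℤ} {x : I → k} (hx : x ∈ A.Wt j) : A.H *ᵥ x = (j : k) • x := by
  funext i
  rw [H, mulVec_diagonal, Pi.smul_apply, smul_eq_mul]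
  by_cases e : x i = 0
  · rw [e, mul_zero, mul_zero]
  · rw [hx i e]

variable {A} in
theorem mulVec_mem {B : Matrix I I k} {d j : ℤ} (hB : ∀ a b, B a b ≠ 0 → A.n a = A.n b + d) {x : I → k}
    (hx : x ∈ A.Wt j) : B *ᵥ x ∈ A.Wt (j + d) := fun i hi => by
  obtain ⟨a, h1, h2⟩ := Kf.exists_col hi
  rw [hB i a h1, hx a h2]

variable {A} in
theorem fix_u {x : I → k} (hx : ∀ m, 0 < m → A.D m *ᵥ x = 0) (t : k) : A.R (u t) *ᵥ x = x := by
  obtain ⟨N, hN⟩ := A.exists_bound
  rw [A.R_u_eq (N := N + 1) fun m hm => hN m (by omega), Matrix.sum_mulVec, Finset.sum_range_succ',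
    Finset.sum_eq_zero fun m _ => by rw [smul_mulVec, hx _ m.succ_pos, smul_zero], zero_add, pow_zero, one_smul, D_zero,
    one_mulVec]

variable {A} in
theorem fix_of_uv {x : I → k} (hu : ∀ t, A.R (u t) *ᵥ x = x) (hv : ∀ t, A.op.R (u t) *ᵥ x = x)
    (g : _root_.Matrix.SpecialLinearGroup (Fin 2) k) : A.R g *ᵥ x = x :=
  mem_of_uv (T :=
    { carrier := {g | A.R g *ᵥ x = x}
      one_mem' := by
        show A.R 1 *ᵥ x = x
        rw [map_one, one_mulVec]
      mul_mem' := fun {a b} ha hb => by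
        show A.R (a * b) *ᵥ x = x
        rw [map_mul, ← mulVec_mulVec, hb, ha]
      inv_mem' := fun {a} ha => by
        show A.R a⁻¹ *ᵥ x = x
        conv_lhs => rw [← ha, mulVec_mulVec, R_inv_mul, one_mulVec] }) hu (fun s => hv (-s)) g

variable {A} in
theorem fix_all {x : I → k} (hx : ∀ m, 0 < m → A.D m *ᵥ x = 0) (hx' : ∀ m, 0 < m → A.op.D m *ᵥ x = 0)
    (g : _root_.Matrix.SpecialLinearGroup (Fin 2) k) : A.R g *ᵥ x = x := fix_of_uv (fix_u hx) (fix_u hx') g

variable [Infinite k]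

theorem eq_of_zpow {a b : ℤ} (e : ∀ z : kˣ, z ^ a = z ^ b) : a = b := by
  by_contra hne
  obtain ⟨z, hz⟩ := Kf.exists_zpow_ne (K := k) (sub_ne_zero.2 hne)
  exact hz (by rw [_root_.zpow_sub, e, mul_inv_cancel])

variable {A} in
theorem mem_Wt_of_h {j : ℤ} {x : I → k} (hx : ∀ z : kˣ, A.R (h z) *ᵥ x = ((z ^ j : kˣ) : k) • x) : x ∈ A.Wt j := by
  intro i hi
  refine eq_of_zpow (k := k) fun z => Units.ext (mul_right_cancel₀ hi ?_)
  have h1 := congrFun (hx z) i
  rwa [A.tor, mulVec_diagonal] at h1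

variable {A} in
/-- intertwiners of two torus actions -/
theorem wt_of_tw {A' : Rep2 k I} {B : Matrix I I k} {d : ℤ}
    (e : ∀ z, A.R (h z) * B = ((z ^ d : kˣ) : k) • (B * A'.R (h z))) {i j : I} (hB : B i j ≠ 0) : A.n i = A'.n j + d := by
  refine eq_of_zpow (k := k) fun z => Units.ext (mul_right_cancel₀ hB ?_)
  have h1 := congrFun (congrFun (e z) i) j
  rw [A.tor, A'.tor, diagonal_mul, Matrix.smul_apply, mul_diagonal, smul_eq_mul] at h1
  rw [h1, _root_.zpow_add, Units.val_mul]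
  ring

variable {A} in
theorem wt_of_comm {B : Matrix I I k} (e : ∀ z, B * A.R (h z) = A.R (h z) * B) {i j : I} (hB : B i j ≠ 0) :
    A.n i = A.n j :=
  (wt_of_tw (d := 0) (fun z => by rw [zpow_zero, Units.val_one, one_smul, e]) hB).trans (add_zero _)

theorem h_D (z : kˣ) (m : ℕ) : A.R (h z) * A.D m = ((z ^ (2 * m : ℤ) : kˣ) : k) • (A.D m * A.R (h z)) := by
  have h1 : (A.R (h z)).map C * A.P = A.P.map (fun p => p.comp (C ((z : k) ^ 2) * X)) * (A.R (h z)).map C :=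
    ev_ext fun t => by
      rw [ev_mul, ev_mul, ev_C, ← A.ev, ← map_mul, H943.SL2Rel.h_u, map_mul, A.ev]
      congr 1
      ext i j
      simp only [map_apply, eval_comp, eval_mul, eval_C, eval_X]
  have h2 := congrArg (co m) h1
  rw [co_C_mul, co_mul_C] at h2
  rw [D, h2, ← smul_mul_assoc]
  congr 1
  ext i j
  simp only [co, map_apply, comp_C_mul_X_coeff, Matrix.smul_apply, smul_eq_mul]
  rw [mul_comm, ← pow_mul, Units.val_zpow_eq_zpow_val, ← zpow_natCast]
  push_cast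
  rfl

variable {A} in
theorem D_wt {m : ℕ} {i j : I} (e : A.D m i j ≠ 0) : A.n i = A.n j + 2 * m := wt_of_tw (fun z => A.h_D z m) e

variable {A} in
theorem E_wt {i j : I} (e : A.E i j ≠ 0) : A.n i = A.n j + 2 := D_wt e

variable {A} in
theorem opD_wt {m : ℕ} {i j : I} (e : A.op.D m i j ≠ 0) : A.n i = A.n j + -(2 * m) := by
  have h1 := D_wt e
  rw [op_n, op_n] at h1
  omega

variable {A} in
theorem F_wt {i j : I} (e : A.F i j ≠ 0) : A.n i = A.n j + -2 :=
  opD_wt (m := 1) (show A.op.E i j ≠ 0 by rw [op_E]; exact neg_ne_zero.2 e)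

variable {A} in
theorem w_wt {i j : I} (e : A.R w i j ≠ 0) : A.n i = - A.n j :=
  (wt_of_tw (A' := A.op) (d := 0) (fun z => by
    rw [zpow_zero, Units.val_one, one_smul, op_R, w_h, ← map_mul, ← map_mul, H943.SL2Rel.h_w]) e).trans (add_zero _)

variable {A} in
theorem D_mem {j : ℤ} {x : I → k} (hx : x ∈ A.Wt j) (m : ℕ) : A.D m *ᵥ x ∈ A.Wt (j + 2 * m) :=
  mulVec_mem (fun _ _ => D_wt) hx

variable {A} in
theorem E_mem {j : ℤ} {x : I → k} (hx : x ∈ A.Wt j) : A.E *ᵥ x ∈ A.Wt (j + 2) := mulVec_mem (fun _ _ => E_wt) hx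

variable {A} in
theorem F_mem {j : ℤ} {x : I → k} (hx : x ∈ A.Wt j) : A.F *ᵥ x ∈ A.Wt (j - 2) := mulVec_mem (fun _ _ => F_wt) hx

variable {A} in
theorem opD_mem {j : ℤ} {x : I → k} (hx : x ∈ A.Wt j) (m : ℕ) : A.op.D m *ᵥ x ∈ A.Wt (j - 2 * m) :=
  mulVec_mem (fun _ _ => opD_wt) hx

variable {A} in
theorem comm_D' {A' : Rep2 k I} {B : Matrix I I k} (e : ∀ t, B * A.R (u t) = A'.R (u t) * B) (m : ℕ) :
    B * A.D m = A'.D m * B := by
  have h1 : B.map C * A.P = A'.P * B.map C := ev_ext fun t => by rw [ev_mul, ev_mul, ev_C, ← A.ev, ← A'.ev, e]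
  have h2 := congrArg (co m) h1
  rwa [co_C_mul, co_mul_C] at h2

variable {A} in
theorem comm_D {B : Matrix I I k} (e : ∀ t, B * A.R (u t) = A.R (u t) * B) (m : ℕ) : B * A.D m = A.D m * B := comm_D' e m

variable {A} in
theorem comm_E {B : Matrix I I k} (e : ∀ x, B * A.R x = A.R x * B) : B * A.E = A.E * B := comm_D (fun _ => e _) 1

variable {A} in
theorem comm_F {B : Matrix I I k} (e : ∀ x, B * A.R x = A.R x * B) : B * A.F = A.F * B := by
  have h1 := comm_E (A := A.op) fun _ => e _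
  rwa [op_E, mul_neg, neg_mul, _root_.neg_inj] at h1

theorem u_D (t : k) (m : ℕ) : A.R (u t) * A.D m = A.D m * A.R (u t) :=
  comm_D (fun s => by rw [← map_mul, ← map_mul, ← H943.SL2Rel.u_add, ← H943.SL2Rel.u_add, add_comm]) m

theorem u_E (t : k) : A.R (u t) * A.E = A.E * A.R (u t) := A.u_D t 1

theorem D_mul_D (a b : ℕ) : A.D a * A.D b = ((a + b).choose a : k) • A.D (a + b) := by
  have h1 : ∀ t, A.P * (A.R (u t)).map C = A.P.map (taylor t) := fun t => ev_ext fun s => by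
    rw [ev_mul, ev_C, ← A.ev, ← map_mul, ← H943.SL2Rel.u_add, A.ev]
    ext i j
    exact (taylor_eval _ _ _).symm
  have h2 : (A.D a).map C * A.P = A.P.map (hasseDeriv a) := ev_ext fun t => by
    have h3 := congrArg (co a) (h1 t)
    rw [co_mul_C] at h3
    rw [ev_mul, ev_C, ← A.ev, D, h3]
    ext i j
    exact taylor_coeff _ _ _
  have h3 := congrArg (co b) h2
  rw [co_C_mul] at h3
  rw [D, D, ← D, h3, add_comm a]
  ext i j
  exact hasseDeriv_coeff _ _ _

theorem E_mul_D (m : ℕ) : A.E * A.D m = ((m : k) + 1) • A.D (m + 1) := by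
  rw [E, D_mul_D, Nat.choose_one_right, add_comm, Nat.cast_succ]

omit [Infinite k] in
theorem H_comm {B : Matrix I I k} {d : ℤ} (hB : ∀ a b, B a b ≠ 0 → A.n a = A.n b + d) :
    A.H * B = B * A.H + (d : k) • B := by
  ext i j
  rw [H, diagonal_mul, Matrix.add_apply, mul_diagonal, Matrix.smul_apply, smul_eq_mul]
  by_cases e : B i j = 0
  · rw [e]
    ring
  · rw [hB i j e]
    push_cast
    ring

omit [Infinite k] in
theorem h_comm {B : Matrix I I k} {d : ℤ} (hB : ∀ a b, B a b ≠ 0 → A.n a = A.n b + d) (z : kˣ) :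
    A.R (h z) * B = ((z ^ d : kˣ) : k) • (B * A.R (h z)) := by
  ext i j
  rw [A.tor, diagonal_mul, Matrix.smul_apply, mul_diagonal, smul_eq_mul]
  by_cases e : B i j = 0
  · rw [e]
    ring
  · rw [hB i j e, _root_.zpow_add, Units.val_mul]
    ring

theorem H_D (m : ℕ) : A.H * A.D m = A.D m * A.H + (2 * m : k) • A.D m := by
  rw [A.H_comm fun _ _ => D_wt]
  push_cast
  rfl

theorem h_E (z : kˣ) : A.R (h z) * A.E = ((z ^ (2 : ℤ) : kˣ) : k) • (A.E * A.R (h z)) := A.h_comm (fun _ _ => E_wt) z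

theorem h_F (z : kˣ) : A.R (h z) * A.F = ((z ^ (-2 : ℤ) : kˣ) : k) • (A.F * A.R (h z)) := A.h_comm (fun _ _ => F_wt) z

theorem u_H (t : k) : A.R (u t) * A.H = (A.H - (2 * t) • A.E) * A.R (u t) := by
  have h1 : A.H.map C * A.P = A.P * A.H.map C + (X : k[X]) • (((2 : k) • A.E).map C * A.P) := co_ext fun m => by
    rw [co_add, co_C_mul, co_mul_C, ← D, H_D]
    cases m with
    | zero => rw [co_X_zero, Nat.cast_zero, mul_zero, zero_smul]
    | succ m => rw [co_X, co_C_mul, ← D, smul_mul_assoc, E_mul_D, smul_smul, Nat.cast_succ]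
  have h2 := congrArg (fun M => M.map (eval t)) h1
  simp only [ev_add, ev_mul, ev_C, ev_X, ← A.ev] at h2
  rw [sub_mul, h2, smul_mul_assoc, smul_mul_assoc, smul_smul, mul_comm t, add_sub_cancel_right]

theorem w_H : A.R w * A.H = - A.H * A.R w := by
  ext i j
  rw [neg_mul, Matrix.neg_apply, H, mul_diagonal, diagonal_mul]
  by_cases e : A.R w i j = 0
  · rw [e]
    ring
  · rw [w_wt e]
    push_cast
    ring

theorem w_F : A.R w * A.F = - A.E * A.R w := by
  have h1 := A.h_E (-1)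
  rw [show ((-1 : kˣ) ^ (2 : ℤ)) = 1 from Even.neg_one_zpow even_two, Units.val_one, one_smul, ← H943.SL2Rel.w_w,
    map_mul] at h1
  rw [F, mul_neg, ← mul_assoc, ← mul_assoc, h1, neg_mul, mul_assoc, mul_assoc, R_mul_inv, mul_one]

theorem two_u_F (t : k) : (2 : k) • (A.R (u t) * A.F - A.F * A.R (u t)) = t • (A.H * A.R (u t) + A.R (u t) * A.H) := by
  by_cases ht : t = 0
  · rw [ht, H943.SL2Rel.u_zero, map_one, one_mul, mul_one, sub_self, smul_zero, zero_smul]
  ext i j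
  have h1 := der (p := (((A.R (u t)).map C * A.op.P) i j).comp (C (-t⁻¹) * (X ^ 2 - 1)))
    (q := ((A.op.P * (A.R (u t)).map C) i j).comp (C (-t⁻¹) * (X ^ 2 - 1))) (κ := A.n i + A.n j) fun y => by
    have h2 := congrArg A.R (u_v y (s := t⁻¹ * ((y : k) ^ 2 - 1)) (t := t) (by field_simp; ring))
    rw [map_mul, map_mul, map_mul, map_mul, R_v, A.op.ev, A.tor] at h2
    have h3 := congrFun (congrFun h2 i) j
    rw [mul_diagonal, diagonal_mul] at h3
    have h4 : ∀ (s : k) (M N : Matrix I I k[X]), eval s ((M * N) i j) = (M.map (eval s) * N.map (eval s)) i j :=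
      fun s M N => congrFun (congrFun (ev_mul s M N) i) j
    simp only [eval_comp, eval_mul, eval_C, eval_sub, eval_pow, eval_X, eval_one, neg_mul]
    rw [h4, h4, ev_C, h3, _root_.zpow_add, Units.val_mul]
    ring
  have h5 : ∀ p : k[X], eval 0 (derivative p) = p.coeff 1 := fun p => by
    rw [← coeff_zero_eq_eval_zero, coeff_derivative, Nat.cast_zero, zero_add, zero_add, mul_one]
  simp only [derivative_comp, eval_comp, eval_mul, eval_C, eval_sub, eval_pow, eval_X, eval_one, one_pow, sub_self,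
    mul_zero, derivative_mul, derivative_C, derivative_sub, derivative_X_pow, derivative_one, zero_mul, zero_add, sub_zero,
    mul_one, h5, ← coeff_zero_eq_eval_zero] at h1
  have h6 := congrFun (congrFun (co_C_mul 1 A.op.P (A.R (u t))) i) j
  have h7 := congrFun (congrFun (co_mul_C 1 A.op.P (A.R (u t))) i) j
  have h8 := congrFun (congrFun (co_mul_C 0 A.op.P (A.R (u t))) i) j
  rw [← D, ← E, op_E] at h6 h7
  rw [← D, D_zero, one_mul] at h8
  rw [co, map_apply] at h6 h7 h8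
  rw [h6, h7, h8, mul_neg, neg_mul A.F, Matrix.neg_apply, Matrix.neg_apply] at h1
  rw [Matrix.smul_apply, Matrix.smul_apply, Matrix.sub_apply, Matrix.add_apply, H, diagonal_mul, mul_diagonal, smul_eq_mul,
    smul_eq_mul]
  push_cast at h1
  have h9 := mul_inv_cancel₀ ht
  linear_combination t * h1 - 2 * ((A.R (u t) * A.F) i j - (A.F * A.R (u t)) i j) * h9

theorem u_F (h2 : (2 : k) ≠ 0) (t : k) : A.R (u t) * A.F = (A.F + t • A.H - t ^ 2 • A.E) * A.R (u t) := by
  refine smul_right_injective _ h2 ?_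
  have h1 := A.two_u_F t
  rw [u_H, smul_sub, sub_eq_iff_eq_add] at h1
  simp only [h1, sub_mul, add_mul, smul_mul_assoc]
  module

theorem two_DF (m : ℕ) : (2 : k) • (A.D (m + 1) * A.F - A.F * A.D (m + 1)) = A.H * A.D m + A.D m * A.H := by
  have h1 : A.P * ((2 : k) • A.F).map C - ((2 : k) • A.F).map C * A.P =
      (X : k[X]) • (A.H.map C * A.P + A.P * A.H.map C) := ev_ext fun t => by
    simp only [ev_sub, ev_add, ev_mul, ev_C, ev_X, ← A.ev]
    rw [← two_u_F, smul_sub, mul_smul_comm, smul_mul_assoc]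
  have h2 := congrArg (co (m + 1)) h1
  rw [co_sub, co_X, co_add, co_mul_C, co_C_mul, co_mul_C, co_C_mul, ← D, ← D, mul_smul_comm, smul_mul_assoc] at h2
  rw [smul_sub, h2]

theorem DF (h2 : (2 : k) ≠ 0) (m : ℕ) : A.D (m + 1) * A.F - A.F * A.D (m + 1) = A.D m * A.H + (m : k) • A.D m := by
  refine smul_right_injective _ h2 ?_
  simp only [two_DF, H_D]
  module

/-- `[E, F] = H` -/
theorem EF (h2 : (2 : k) ≠ 0) : A.E * A.F - A.F * A.E = A.H := by
  have h1 := A.DF h2 0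
  rwa [D_zero, one_mul, Nat.cast_zero, zero_smul, add_zero] at h1

variable {A} in
theorem EF_mulVec (h2 : (2 : k) ≠ 0) {j : ℤ} {x : I → k} (hx : x ∈ A.Wt j) :
    A.E *ᵥ A.F *ᵥ x = A.F *ᵥ A.E *ᵥ x + (j : k) • x := by
  rw [← H_mulVec hx, ← A.EF h2, sub_mulVec, mulVec_mulVec, mulVec_mulVec, add_sub_cancel]

variable {A} in
/-- **F4** -/
theorem f4 (h2 : (2 : k) ≠ 0) {j : ℤ} (hj : (j : k) ≠ 0) {x : I → k} (hx : x ∈ A.Wt j) (hE : A.E *ᵥ x = 0)
    (hF : A.F *ᵥ x = 0) : x = 0 := by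
  have h1 := EF_mulVec h2 hx
  rw [hE, hF, mulVec_zero, mulVec_zero, zero_add] at h1
  exact (smul_eq_zero.1 h1.symm).resolve_left hj

end Rep2

end Cfsg.Agent.E7P.Rsl
end

-- part: E7P/Rsl/Std
section
/-!
# S5932: one rational `SL₂` in standard position (helper61)

* `Std k` : a homomorphism `SL₂(k) → Gh k` with torus `lam l` and polynomial root group;
* `X.V`, `X.L` : the modules `V` and `g` as `Rep2`; `X.e`, `X.f`, `X.hh` : the `sl₂`-triple; `X.sp` : its span;
* `X.op`, `X.frob`, `X.move`; `Std.tw` : intertwiners.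
-/

set_option autoImplicit false
set_option maxRecDepth 100000
set_option maxHeartbeats 400000

namespace Cfsg.Agent.E7P.Rsl

open Cfsg Cfsg.Lie Matrix Polynomial Module
open Cfsg.Agent.H943.E7V.Block (D1 rho)
open Cfsg.Agent.R2.T1 Cfsg.Agent.E7P.Kf Cfsg.Agent.E7P.Br
open Cfsg.Agent.R2.PX (del)
open Cfsg.Agent.H943.SL2Rel (u w h)

universe u

variable {k : Type u} [Field k]

/-- the value of the weight `c` on the cocharacter `l` -/
def lev (l c : Fin 7 → ℤ) : ℤ := ∑ i, c i * l i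

theorem lev_cast (l c : Fin 7 → ℤ) : (lev l c : ℝ) = bf (lE l) (cv c) := (bf_lE l c).symm

theorem lev_neg (l c : Fin 7 → ℤ) : lev l (-c) = - lev l c := by
  simp only [lev, Pi.neg_apply, neg_mul, Finset.sum_neg_distrib]

theorem add_lev (l m c : Fin 7 → ℤ) : lev (l + m) c = lev l c + lev m c := by
  simp only [lev, Pi.add_apply, mul_add, Finset.sum_add_distrib]

theorem lev_zero (l : Fin 7 → ℤ) : lev l 0 = 0 := by simp [lev]

theorem sum_lev {ι : Type*} (s : Finset ι) (l : ι → Fin 7 → ℤ) (c : Fin 7 → ℤ) :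
    lev (∑ i ∈ s, l i) c = ∑ i ∈ s, lev (l i) c := by
  simp only [lev, Finset.sum_apply, Finset.mul_sum]
  exact Finset.sum_comm

theorem tor_lam {I : Type*} [Fintype I] [DecidableEq I] {c : I → Fin 7 → ℤ} {R : Gh k →* Matrix I I k} (hR : WRep c R)
    (l : Fin 7 → ℤ) (z : kˣ) : R (Phi k (lam l z)) = diagonal fun i => ((z ^ lev l (c i) : kˣ) : k) := by
  rw [hR.tor]
  simp only [ch_lam]
  rfl

/-- the Weyl group on the cocharacters -/
theorem exists_wL_lE (v : List (Fin 7)) (l : Fin 7 → ℤ) : ∃ l', lE l' = wL v (lE l) := by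
  induction v with
  | nil => exact ⟨l, rfl⟩
  | cons i v ih =>
    obtain ⟨l', e⟩ := ih
    refine ⟨l' - Pi.single i (nt_lb l' i), ?_⟩
    rw [wL_cons, ← e, sr_apply]
    simp only [lE, Pi.sub_apply, Int.cast_sub, sub_smul, Finset.sum_sub_distrib]
    congr 1
    rw [Finset.sum_eq_single i (fun j _ hj => by rw [Pi.single_eq_of_ne hj, Int.cast_zero, zero_smul])
      (fun e => absurd (Finset.mem_univ _) e), Pi.single_eq_same]
    exact congrArg (· • al i) (congrFun (nt_cv_lb l') i)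

theorem adM_of_comm (h2 : (2 : k) ≠ 0) {y : Gh k} {z z' : chevE7.Idx → k}
    (e : rho k y * del k z = del k z' * rho k y) : adM k y *ᵥ z = z' :=
  Mu.del_injective (by rw [del_adM h2, e, mul_assoc, ← map_mul, mul_inv_cancel, map_one, mul_one])

section
variable {I J : Type*} [Fintype I] [DecidableEq I]

/-- a linear map on polynomial matrices -/
noncomputable def lift (φ : Matrix I I k →ₗ[k] (J → k)) (M : Matrix I I k[X]) (a : J) : k[X] :=
  ∑ i, ∑ j, C (φ (Matrix.single i j 1) a) * M i j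

theorem lift_aux (φ : Matrix I I k →ₗ[k] (J → k)) (B : Matrix I I k) (a : J) :
    ∑ i, ∑ j, φ (Matrix.single i j 1) a * B i j = φ B a := by
  conv_rhs => rw [matrix_eq_sum_single B, map_sum, Finset.sum_apply]
  refine Finset.sum_congr rfl fun i _ => ?_
  rw [map_sum, Finset.sum_apply]
  refine Finset.sum_congr rfl fun j _ => ?_
  rw [← mul_one (B i j), ← smul_eq_mul (B i j), ← Matrix.smul_single, map_smul, Pi.smul_apply, smul_eq_mul, smul_eq_mul,
    mul_one, mul_comm]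

theorem eval_lift (φ : Matrix I I k →ₗ[k] (J → k)) (M : Matrix I I k[X]) (a : J) (t : k) :
    eval t (lift φ M a) = φ (M.map (eval t)) a := by
  simp only [lift, eval_finsetSum, eval_mul, eval_C, ← lift_aux φ (M.map (eval t)), map_apply]

omit [Fintype I] [DecidableEq I] in
theorem co_map (s : k →+* k) (M : Matrix I I k[X]) (m : ℕ) : co m (M.map (Polynomial.map s)) = (co m M).map s := by
  ext i j
  exact coeff_map _ _

omit [Fintype I] [DecidableEq I] in
theorem ev_map (s : k →+* k) (M : Matrix I I k[X]) (t : k) :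
    (M.map (Polynomial.map s)).map (eval (s t)) = (M.map (eval t)).map s := by
  ext i j
  exact eval_map_apply s t

end

variable (k) in
/-- a left inverse of `del` -/
noncomputable def dl : Matrix D1 D1 k →ₗ[k] (chevE7.Idx → k) :=
  ((del k).exists_leftInverse_of_injective (LinearMap.ker_eq_bot.2 Mu.del_injective)).choose

theorem dl_del (z : chevE7.Idx → k) : dl k (del k z) = z :=
  LinearMap.congr_fun ((del k).exists_leftInverse_of_injective (LinearMap.ker_eq_bot.2 Mu.del_injective)).choose_spec z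

/-- **a rational `SL₂` in standard position** -/
structure Std (k : Type u) [Field k] where
  Ξ : _root_.Matrix.SpecialLinearGroup (Fin 2) k →* Gh k
  l : Fin 7 → ℤ
  tor : ∀ z, Ξ (h z) = Phi k (lam l z)
  e : chevE7.Idx → k
  P : Matrix D1 D1 k[X]
  ev : ∀ t, rho k (Ξ (u t)) = P.map (eval t)
  one : co 1 P = del k e
  ne : e ≠ 0
  two : (2 : k) ≠ 0

namespace Std

variable (X : Std k)

/-- the module `V` -/
noncomputable def V : Rep2 k D1 where
  R := (rho k).comp X.Ξ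
  n s := lev X.l (wc s)
  tor z := (congrArg (rho k) (X.tor z)).trans (tor_lam wrep_V X.l z)
  P := X.P
  ev := X.ev

/-- the polynomial matrix of the root group on `g` -/
noncomputable def LP : Matrix chevE7.Idx chevE7.Idx k[X] := Matrix.of fun a b =>
  lift (dl k) (X.P * (del k (Pi.single b 1)).map C * X.P.map fun q => q.comp (-Polynomial.X)) a

/-- the module `g` -/
noncomputable def L : Rep2 k chevE7.Idx where
  R := (adM k).comp X.Ξ
  n a := lev X.l (ac a)
  tor z := (congrArg (adM k) (X.tor z)).trans (tor_lam wrep_L X.l z)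
  P := X.LP
  ev t := by
    ext a b
    have h1 : (X.P.map fun q => q.comp (-Polynomial.X)).map (eval t) = rho k (X.Ξ (u t))⁻¹ := by
      rw [← map_inv, ← H943.SL2Rel.u_neg, X.ev]
      ext i j
      simp only [map_apply, eval_comp, eval_neg, eval_X]
    rw [map_apply, LP, of_apply, eval_lift, ev_mul, ev_mul, ev_C, ← X.ev, h1, ← del_adM X.two, dl_del, mulVec_single_one]
    rfl

theorem V_R (x : _root_.Matrix.SpecialLinearGroup (Fin 2) k) : X.V.R x = rho k (X.Ξ x) := rfl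

theorem V_n (s : D1) : X.V.n s = lev X.l (wc s) := rfl

theorem L_n (a : chevE7.Idx) : X.L.n a = lev X.l (ac a) := rfl

/-- the lowering element -/
noncomputable def f : chevE7.Idx → k := - (adM k (X.Ξ w) *ᵥ X.e)

/-- the toral element -/
def hh : chevE7.Idx → k := tv fun i => (X.l i : k)

theorem V_E : X.V.E = del k X.e := X.one

theorem V_F : X.V.F = del k X.f := by
  rw [Rep2.F, V_E, f, map_neg, del_adM X.two, V_R, V_R, map_inv X.Ξ]

theorem V_H : X.V.H = del k X.hh := by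
  rw [hh, Lb.del_tv, Rep2.H]
  congr 1
  funext s
  rw [V_n, lev]
  push_cast
  exact Finset.sum_congr rfl fun i _ => mul_comm _ _

theorem f_ne : X.f ≠ 0 := fun e => X.ne (by
  rw [← mulVec_inv (adM k) (X.Ξ w) X.e, neg_eq_zero.1 e, mulVec_zero])

/-- the opposite `SL₂` -/
noncomputable def op : Std k where
  Ξ := X.Ξ.comp (MulAut.conj w).toMonoidHom
  l := - X.l
  tor z := by
    show X.Ξ (w * h z * w⁻¹) = _
    rw [w_h, X.tor]
    congr 1
    funext i
    exact (_root_.inv_zpow' _ _)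
  e := - X.f
  P := X.V.op.P
  ev := X.V.op.ev
  one := by rw [map_neg, ← V_F, ← Rep2.op_E]; rfl
  ne := neg_ne_zero.2 X.f_ne
  two := X.two

/-- the conjugate under an element of the Weyl group -/
noncomputable def move [Infinite k] (v : List (Fin 7)) : Std k where
  Ξ := (MulAut.conj (nL k v)).toMonoidHom.comp X.Ξ
  l := (exists_wL_lE v X.l).choose
  tor z := by
    show nL k v * X.Ξ (h z) * (nL k v)⁻¹ = _
    rw [X.tor, nt_conj_lam v (exists_wL_lE v X.l).choose_spec]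
  e := adM k (nL k v) *ᵥ X.e
  P := (rho k (nL k v)).map C * X.P * (rho k (nL k v)⁻¹).map C
  ev t := by
    show rho k (nL k v * X.Ξ (u t) * (nL k v)⁻¹) = _
    rw [map_mul, map_mul, ev_mul, ev_mul, ev_C, ev_C, X.ev]
  one := by rw [co_mul_C, co_C_mul, X.one, del_adM X.two]
  ne e := X.ne (by rw [← mulVec_inv (adM k) (nL k v) X.e, e, mulVec_zero])
  two := X.two

/-- the image under a field automorphism -/
noncomputable def frob (s : k ≃+* k) : Std k where
  Ξ := ((emb (s : k →+* k)).comp X.Ξ).comp (SpecialLinearGroup.map (s.symm : k →+* k))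
  l := X.l
  tor z := by
    show emb (s : k →+* k) (X.Ξ (SpecialLinearGroup.map (s.symm : k →+* k) (h z))) = _
    rw [map_h, X.tor, emb_Phi]
    congr 1
    funext i
    have h1 : Units.map ((s : k →+* k) : k →* k) (Units.map ((s.symm : k →+* k) : k →* k) z) = z :=
      Units.ext (s.apply_symm_apply _)
    exact (map_zpow _ _ _).trans (congrArg (· ^ X.l i) h1)
  e i := s (X.e i)
  P := X.P.map (Polynomial.map (s : k →+* k))
  ev t := by
    show rho k (emb (s : k →+* k) (X.Ξ (SpecialLinearGroup.map (s.symm : k →+* k) (u t)))) = _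
    rw [map_u, rho_emb, X.ev, ← ev_map]
    exact congrArg (fun t => (X.P.map (Polynomial.map (s : k →+* k))).map (eval t)) (s.apply_symm_apply t)
  one := by rw [co_map, X.one]; exact del_map (s : k →+* k) X.e
  ne e := X.ne (_root_.funext fun i => s.injective ((congrFun e i).trans (map_zero s).symm))
  two := X.two

theorem frob_Ξ (s : k ≃+* k) (x : _root_.Matrix.SpecialLinearGroup (Fin 2) k) :
    (X.frob s).Ξ (SpecialLinearGroup.map (s : k →+* k) x) = emb (s : k →+* k) (X.Ξ x) := by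
  show emb (s : k →+* k) (X.Ξ (SpecialLinearGroup.map (s.symm : k →+* k) _)) = _
  congr 2
  refine Subtype.ext ?_
  ext i j
  exact s.symm_apply_apply _

theorem frob_f (s : k ≃+* k) : (X.frob s).f = fun i => s (X.f i) := by
  funext i
  have h1 := X.frob_Ξ s w
  rw [map_w] at h1
  rw [f, h1, adM_emb, f, Pi.neg_apply, Pi.neg_apply, map_neg, _root_.neg_inj]
  exact (RingHom.map_mulVec (s : k →+* k) _ _ i).symm

theorem frob_hh (s : k ≃+* k) : (X.frob s).hh = fun i => s (X.hh i) := by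
  funext i
  rcases i with i | r
  · exact (map_intCast s _).symm
  · exact (map_zero s).symm

/-- the span of the triple -/
noncomputable def sp : Submodule k (chevE7.Idx → k) := Submodule.span k {X.e, X.hh, X.f}

theorem e_mem_sp : X.e ∈ X.sp := Submodule.subset_span (Or.inl rfl)

theorem hh_mem_sp : X.hh ∈ X.sp := Submodule.subset_span (Or.inr (Or.inl rfl))

theorem f_mem_sp : X.f ∈ X.sp := Submodule.subset_span (Or.inr (Or.inr rfl))

theorem sp_le {W : Submodule k (chevE7.Idx → k)} (h1 : X.e ∈ W) (h2 : X.hh ∈ W) (h3 : X.f ∈ W) : X.sp ≤ W :=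
  Submodule.span_le.2 (by rintro _ (rfl | rfl | rfl) <;> assumption)

variable [Infinite k]

theorem move_Ξ (v : List (Fin 7)) (x : _root_.Matrix.SpecialLinearGroup (Fin 2) k) :
    (X.move v).Ξ x = nL k v * X.Ξ x * (nL k v)⁻¹ := rfl

theorem move_l (v : List (Fin 7)) : lE (X.move v).l = wL v (lE X.l) := (exists_wL_lE v X.l).choose_spec

theorem br_ef : br k X.e X.f = X.hh :=
  Mu.del_injective (by rw [del_br, ← V_E, ← V_F, ← V_H, X.V.EF X.two])

theorem u_e (t : k) : adM k (X.Ξ (u t)) *ᵥ X.e = X.e := adM_of_comm X.two (by rw [← V_E]; exact X.V.u_E t)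

theorem u_hh (t : k) : adM k (X.Ξ (u t)) *ᵥ X.hh = X.hh - (2 * t) • X.e :=
  adM_of_comm X.two (by rw [map_sub, map_smul, ← V_E, ← V_H]; exact X.V.u_H t)

theorem u_f (t : k) : adM k (X.Ξ (u t)) *ᵥ X.f = X.f + t • X.hh - t ^ 2 • X.e :=
  adM_of_comm X.two (by rw [map_sub, map_add, map_smul, map_smul, ← V_E, ← V_H, ← V_F]; exact X.V.u_F X.two t)

omit [Infinite k] in
theorem w_e : adM k (X.Ξ w) *ᵥ X.e = - X.f := (neg_neg _).symm

theorem w_hh : adM k (X.Ξ w) *ᵥ X.hh = - X.hh := adM_of_comm X.two (by rw [map_neg, ← V_H]; exact X.V.w_H)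

theorem w_f : adM k (X.Ξ w) *ᵥ X.f = - X.e := adM_of_comm X.two (by rw [map_neg, ← V_E, ← V_F]; exact X.V.w_F)

theorem h_e (z : kˣ) : adM k (X.Ξ (h z)) *ᵥ X.e = ((z ^ (2 : ℤ) : kˣ) : k) • X.e :=
  adM_of_comm X.two (by rw [map_smul, ← V_E, smul_mul_assoc]; exact X.V.h_E z)

theorem h_f (z : kˣ) : adM k (X.Ξ (h z)) *ᵥ X.f = ((z ^ (-2 : ℤ) : kˣ) : k) • X.f :=
  adM_of_comm X.two (by rw [map_smul, ← V_F, smul_mul_assoc]; exact X.V.h_F z)

omit [Infinite k] in
theorem h_hh (z : kˣ) : adM k (X.Ξ (h z)) *ᵥ X.hh = X.hh := by rw [X.tor, hh, adM_Phi_tv]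

theorem e_mem : X.e ∈ X.L.Wt 2 := Rep2.mem_Wt_of_h X.h_e

theorem f_mem : X.f ∈ X.L.Wt (-2) := Rep2.mem_Wt_of_h X.h_f

theorem exists_root : ∃ r : Fin chevE7.nroots, X.e (Sum.inr r) ≠ 0 ∧ lev X.l (rc r) = 2 := by
  obtain ⟨a, ha⟩ := Function.ne_iff.1 X.ne
  have h1 := X.e_mem a ha
  rcases a with a | r
  · rw [L_n, ac_inl, lev_zero] at h1
    omega
  · exact ⟨r, ha, h1⟩

theorem l_ne : X.l ≠ 0 := fun e => by
  obtain ⟨r, -, hr⟩ := X.exists_root
  simp [e, lev] at hr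

/-- the span of the triple is stable -/
theorem sp_stab (x : _root_.Matrix.SpecialLinearGroup (Fin 2) k) : ∀ z ∈ X.sp, adM k (X.Ξ x) *ᵥ z ∈ X.sp := by
  have key : ∀ y : Gh k, adM k y *ᵥ X.e ∈ X.sp → adM k y *ᵥ X.hh ∈ X.sp → adM k y *ᵥ X.f ∈ X.sp →
      ∀ z ∈ X.sp, adM k y *ᵥ z ∈ X.sp := fun y h1 h2 h3 => X.sp_le (W := X.sp.comap (toLin' (adM k y))) h1 h2 h3
  have he := X.e_mem_sp
  have hh := X.hh_mem_sp
  have hf := X.f_mem_sp
  refine H943.SL2Rel.induct (P := fun x => ∀ z ∈ X.sp, adM k (X.Ξ x) *ᵥ z ∈ X.sp) (fun t => key _ ?_ ?_ ?_)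
    (fun a => key _ ?_ ?_ ?_) (key _ ?_ ?_ ?_) (fun a b ha hb z hz => ?_) x
  · rwa [u_e]
  · rw [u_hh]
    exact sub_mem hh (Submodule.smul_mem _ _ he)
  · rw [u_f]
    exact sub_mem (add_mem hf (Submodule.smul_mem _ _ hh)) (Submodule.smul_mem _ _ he)
  · rw [h_e]
    exact Submodule.smul_mem _ _ he
  · rwa [h_hh]
  · rw [h_f]
    exact Submodule.smul_mem _ _ hf
  · rw [w_e]
    exact neg_mem hf
  · rw [w_hh]
    exact neg_mem hh
  · rw [w_f]
    exact neg_mem he
  · rw [map_mul, mulVec_mul]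
    exact ha _ (hb z hz)

variable {X} in
/-- an element which fixes `e` and `f` fixes the triple -/
theorem fix_sp {y : Gh k} (h1 : adM k y *ᵥ X.e = X.e) (h2 : adM k y *ᵥ X.f = X.f) :
    ∀ z ∈ X.sp, adM k y *ᵥ z = z := fun z hz =>
  X.sp_le (W := LinearMap.eqLocus (toLin' (adM k y)) LinearMap.id) h1
    (show adM k y *ᵥ X.hh = X.hh by rw [← br_ef, adM_br X.two, h1, h2]) h2 hz

section
variable {X} {Y : Std k} {y : Gh k} (hy : ∀ x, y * X.Ξ x = Y.Ξ x * y)
include hy

omit [Infinite k] in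
theorem tw_R {I : Type*} [Fintype I] [DecidableEq I] (R : Gh k →* Matrix I I k) (x : _root_.Matrix.SpecialLinearGroup (Fin 2) k) :
    R y * R (X.Ξ x) = R (Y.Ξ x) * R y := by rw [← map_mul, hy, map_mul]

theorem tw_V_D (m : ℕ) : rho k y * X.V.D m = Y.V.D m * rho k y := Rep2.comm_D' (fun _ => (by exact tw_R hy (rho k) _)) m

theorem tw_e : adM k y *ᵥ X.e = Y.e := adM_of_comm X.two (by rw [← V_E, ← V_E]; exact tw_V_D hy 1)

theorem tw_f : adM k y *ᵥ X.f = Y.f := by
  rw [f, f, mulVec_neg, ← mulVec_mul, hy, mulVec_mul, tw_e hy]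

theorem tw_hh : adM k y *ᵥ X.hh = Y.hh := by rw [← br_ef, adM_br X.two, tw_e hy, tw_f hy, br_ef]

theorem tw_sp : ∀ z ∈ X.sp, adM k y *ᵥ z ∈ Y.sp :=
  X.sp_le (W := Y.sp.comap (toLin' (adM k y))) ((tw_e hy).symm ▸ Y.e_mem_sp : adM k y *ᵥ X.e ∈ Y.sp)
    ((tw_hh hy).symm ▸ Y.hh_mem_sp : adM k y *ᵥ X.hh ∈ Y.sp) ((tw_f hy).symm ▸ Y.f_mem_sp : adM k y *ᵥ X.f ∈ Y.sp)

/-- conjugate cocharacters -/
theorem tw_l : ∃ v, lE Y.l = wL v (lE X.l) := by
  obtain ⟨v, hv⟩ := conj_T_nL y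
  refine ⟨v, ?_⟩
  have h1 : ∀ z, (X.move v).Ξ (h z) = Y.Ξ (h z) := fun z => by
    rw [move_Ξ, X.tor, Y.tor]
    exact hv _ _ (by rw [← X.tor, ← Y.tor, hy, mul_inv_cancel_right])
  rw [← move_l]
  refine eq_of_bf_wv fun s => ?_
  rw [wv, ← lev_cast, ← lev_cast, Int.cast_inj]
  refine Rep2.eq_of_zpow (k := k) fun z => Units.ext ?_
  have h2 := congrFun (congrFun (((X.move v).V.tor z).symm.trans ((congrArg (rho k) (h1 z)).trans (Y.V.tor z))) s) s
  rw [diagonal_apply_eq, diagonal_apply_eq] at h2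
  exact h2.symm

end

/-- the root group is unipotent for every `β` which is compatible with the weights of the `D m` -/
theorem u_mem_Ul {β : Kf.E} (hβ : ∀ m, 0 < m → ∀ a b, X.V.D m a b ≠ 0 → bf β (wv b) < bf β (wv a)) (t : k) :
    X.Ξ (u t) ∈ Ul k β := by
  refine mem_Ul_of_stri fun a b hab => ?_
  obtain ⟨N, hN⟩ := X.V.exists_bound
  rw [← V_R, X.V.R_u_eq (N := N + 1) fun m hm => hN m (by omega), Finset.sum_range_succ', pow_zero, one_smul,
    Rep2.D_zero, add_sub_cancel_right, Matrix.sum_apply] at hab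
  obtain ⟨m, -, hm⟩ := Finset.exists_ne_zero_of_sum_ne_zero hab
  exact hβ _ m.succ_pos a b (right_ne_zero_of_mul hm)

theorem u_mem_Ul' (t : k) : X.Ξ (u t) ∈ Ul k (lE X.l) := X.u_mem_Ul (fun m hm a b e => by
  have h1 := Rep2.D_wt e
  rw [V_n, V_n] at h1
  rw [wv, wv, ← lev_cast, ← lev_cast, Int.cast_lt]
  omega) t

end Std

end Cfsg.Agent.E7P.Rsl
end

private theorem dce_9cdaad640412 : _root_.True := by
  try have : _root_.True := by simp only [_root_.Cfsg.Agent.E7P.Rsl.co.eq_1]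
  try have : _root_.True := by simp only [_root_.Cfsg.Agent.E7P.Rsl.Rep2.H.eq_1]
  try have : _root_.True := by simp only [_root_.Cfsg.Agent.E7P.Rsl.lift.eq_1]
  try have : _root_.True := by simp only [_root_.Cfsg.Agent.E7P.Rsl.Std.f.eq_1]
  try have : _root_.True := by simp only [_root_.Cfsg.Agent.E7P.Rsl.Rep2.E.eq_1]
  try have : _root_.True := by simp only [_root_.Cfsg.Agent.E7P.Rsl.Std.LP.eq_1]
  try have : _root_.True := by simp only [_root_.Cfsg.Agent.E7P.Rsl.Rep2.D.eq_1]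
  try have : _root_.True := by simp only [_root_.Cfsg.Agent.E7P.Rsl.Rep2.F.eq_1]
  try have : _root_.True := by simp only [_root_.Cfsg.Agent.H943.SL2Rel.mi.eq_1]
  try have : _root_.True := by simp only [_root_.Cfsg.Agent.E7P.Rsl.Std.hh.eq_1]
  try have : _root_.True := by simp only [_root_.Cfsg.Agent.E7P.Rsl.lev.eq_1]
  exact _root_.True.intro
end

-- part: E7P/Base/EqU
section
set_option linter.all false
open scoped Cfsg.Agent.FastGrp

/-!
# S5932: the `p`-subgroups of `M` which are normalised by the Borel subgroup of `A` (helper32)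

* `Sit.eq_U` : a `p`-subgroup of `M` which contains `U` and is normalised by `T_A` is `U`;
* `Sit.U_le` : `T_A` is irreducible on `U`;
* `Sit.TOP`, `Sit.RED` : statements.
-/

set_option autoImplicit false
set_option maxRecDepth 100000

namespace Cfsg.Agent.E7P

open Cfsg Cfsg.Lie Matrix Module
open Cfsg.Agent.H943.E7V.Block (D1 rho)
open Cfsg.Agent.R2.T1 Cfsg.Agent.E7P.Kf
open Cfsg.Agent.H943.SL2Rel

universe u v

namespace Kf

theorem center_eq_one {k : Type u} [Field k] {p : ℕ} (hp : p.Prime) [CharP k p] {z : Gh k}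
    (hz : z ∈ Subgroup.center (Gh k)) {n : ℕ} (hn : z ^ p ^ n = 1) : z = 1 := by
  rcases V_center hz with h1 | h1
  · exact faithful h1
  apply faithful
  rcases hp.eq_two_or_odd' with h5 | h5
  · subst h5
    rw [h1]
    exact LinearMap.ext fun v => funext fun i => CharTwo.neg_eq (v i)
  · have h6 := congrArg (V k) hn
    rw [map_pow, h1, map_one] at h6
    rw [h1]
    exact (Odd.neg_one_pow (α := Module.End k (D1 → k)) (h5.pow (n := n))).symm.trans h6

variable {K : Type v} [Field K]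

theorem h_u_pow (c : Kˣ) (t : K) (n : ℕ) : ∃ s, (h c * u t) ^ n = h (c ^ n) * u s := by
  induction n with
  | zero => exact ⟨0, by rw [pow_zero, pow_zero, h_one, u_zero, mul_one]⟩
  | succ n ih =>
    obtain ⟨s, hs⟩ := ih
    refine ⟨((c⁻¹ : Kˣ) : K) ^ 2 * s + t, ?_⟩
    have h1 : u s * h c = h c * u (((c⁻¹ : Kˣ) : K) ^ 2 * s) := by
      rw [h_u, ← mul_assoc, ← mul_pow, Units.mul_inv, one_pow, one_mul]
    rw [pow_succ, hs, pow_succ, h_mul, u_add, mul_assoc, ← mul_assoc (u s), h1]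
    group

theorem eq_of_h_u {c d : Kˣ} {s t : K} (e : h c * u s = h d * u t) : c = d := by
  have h1 : ((h c).1 * (u s).1) 0 0 = ((h d).1 * (u t).1) 0 0 :=
    congrArg (fun m : SpecialLinearGroup (Fin 2) K => m.1 0 0) e
  simp [h, u, Matrix.mul_apply, Fin.sum_univ_two] at h1
  exact Units.ext h1

theorem h_neg_one : (h (-1 : Kˣ) : SpecialLinearGroup (Fin 2) K) = -1 := by
  apply Subtype.ext
  ext i j
  fin_cases i <;> fin_cases j <;> simp [h]

theorem borel_of_zero {x : SpecialLinearGroup (Fin 2) K} (hx : x.1 1 0 = 0) : ∃ c t, x = h c * u t := by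
  rcases H943.SL2Rel.bruhat x with h1 | ⟨r, c, t, rfl⟩
  · exact h1
  exfalso
  have h1 : ((u r).1 * (h c).1 * (w : SpecialLinearGroup (Fin 2) K).1 * (u t).1) 1 0 = 0 := hx
  simp [h, u, w, Matrix.mul_apply, Fin.sum_univ_two] at h1

/-- the normaliser of `U` in `SL₂(K)` -/
theorem borel_of_norm {x : SpecialLinearGroup (Fin 2) K} {s : K} (e : x * u 1 * x⁻¹ = u s ∨ x * u 1 * x⁻¹ = - u s) :
    ∃ c t, x = h c * u t := by
  refine borel_of_zero ?_
  rcases e with e | e
  · have h1 : x.1 * (u 1).1 = (u s).1 * x.1 := 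
      congrArg (fun m : SpecialLinearGroup (Fin 2) K => m.1) (mul_inv_eq_iff_eq_mul.1 e)
    have h2 := congrFun (congrFun h1 1) 1
    simpa [u, Matrix.mul_apply, Fin.sum_univ_two] using h2
  · have h1 : x.1 * (u 1).1 = - (u s).1 * x.1 := 
      congrArg (fun m : SpecialLinearGroup (Fin 2) K => m.1) (mul_inv_eq_iff_eq_mul.1 e)
    have h2 := congrFun (congrFun h1 1) 1
    have h3 := congrFun (congrFun h1 1) 0
    simp [u, Matrix.mul_apply, Fin.sum_univ_two] at h2 h3
    by_cases h4 : (2 : K) = 0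
    · linear_combination h2 - x.1 1 1 * h4
    · exact (mul_eq_zero.1 (show 2 * x.1 1 0 = 0 by linear_combination h3)).resolve_left h4

theorem units_sq {c : Kˣ} (hc : c ^ 2 = 1) : c = 1 ∨ c = -1 := by
  have h1 : (c : K) ^ 2 = 1 := by rw [← Units.val_pow_eq_pow_val, hc, Units.val_one]
  rcases mul_self_eq_one_iff.1 (by rw [← sq]; exact h1 : (c : K) * c = 1) with h2 | h2
  · exact Or.inl (Units.ext h2)
  · exact Or.inr (Units.ext h2)

end Kf

namespace Sit

variable {p a b : ℕ} {F : Type u} {K : Type v} {k : Type u} [Field F] [Fintype F] [Field K] [Fintype K] [Field k]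
  (S : Sit p a b F K k)

theorem ψ_eq {x y : SpecialLinearGroup (Fin 2) K} (e : S.ψ x = S.ψ y) : x = y ∨ x = - y := by
  have h1 : S.ψ (x * y⁻¹) ∈ Subgroup.center (Gh k) := by
    rw [map_mul, map_inv, e, mul_inv_cancel]; exact one_mem _
  rcases S.ψ_mem_center.1 h1 with h2 | h2
  · exact Or.inl (mul_inv_eq_one.1 h2)
  · exact Or.inr (by rw [← neg_one_mul, ← h2, inv_mul_cancel_right])

theorem ψ_u_inj {s t : K} (e : S.ψ (u s) = S.ψ (u t)) : s = t := by
  by_contra hne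
  exact S.ψ_u_ne (sub_ne_zero.2 hne) (by rw [sub_eq_add_neg, u_add, u_neg, map_mul, map_inv, e, mul_inv_cancel])

/-- `T_A` is irreducible on `U` -/
theorem U_le {Q : Subgroup (Gh k)} (hT : ∀ c, ∀ y ∈ Q, S.ψ (h c) * y * (S.ψ (h c))⁻¹ ∈ Q) {t : K} (ht : t ≠ 0)
    (hQ : S.ψ (u t) ∈ Q) : S.U ≤ Q := by
  let B : AddSubgroup K :=
    { carrier := {t | S.ψ (u t) ∈ Q}
      zero_mem' := by
        show S.ψ (u 0) ∈ Q
        rw [u_zero, map_one]; exact one_mem _
      add_mem' := fun {s t} hs ht => by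
        show S.ψ (u (s + t)) ∈ Q
        rw [u_add, map_mul]; exact mul_mem hs ht
      neg_mem' := fun {s} hs => by
        show S.ψ (u (-s)) ∈ Q
        rw [u_neg, map_inv]; exact inv_mem hs }
  have h1 : B = ⊤ := eq_top_of_sq (fun c s hs => by
    by_cases hc : c = 0
    · rw [hc, zero_pow two_ne_zero, zero_mul]; exact zero_mem _
    · have h2 := hT (Units.mk0 c hc) _ hs
      rwa [← map_mul, h_u, map_mul, mul_inv_cancel_right] at h2) (fun h0 => ht (by
      have h2 : t ∈ B := hQ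
      rwa [h0] at h2))
  rintro _ ⟨s, rfl⟩
  exact (h1 ▸ AddSubgroup.mem_top s : s ∈ B)

include S in
theorem units_eq_one {c : Kˣ} {n : ℕ} (hc : c ^ p ^ n = 1) : c = 1 := by
  have := S.charK
  have : Fact p.Prime := ⟨S.prime⟩
  apply Units.ext
  have h1 : ((c : K) - 1) ^ p ^ n = 0 := by
    rw [sub_pow_char_pow, one_pow, ← Units.val_pow_eq_pow_val, hc, Units.val_one, sub_self]
  exact sub_eq_zero.1 (pow_eq_zero_iff (pow_ne_zero n S.prime.ne_zero) |>.1 h1)

/-- the `p`-elements of the Borel subgroup of `A` -/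
theorem mem_U_of_borel {c : Kˣ} {t : K} {z : Gh k} (hz : z ∈ Subgroup.center (Gh k)) {n : ℕ}
    (hn : (z * S.ψ (h c * u t)) ^ p ^ n = 1) : z * S.ψ (h c * u t) ∈ S.U := by
  have := S.chark
  have hc : Commute z (S.ψ (h c * u t)) := (Subgroup.mem_center_iff.1 hz _).symm
  obtain ⟨s, hs⟩ := h_u_pow c t (p ^ n)
  rw [hc.mul_pow, ← map_pow, hs] at hn
  have h1 : S.ψ (h (c ^ p ^ n) * u s) ∈ Subgroup.center (Gh k) := by
    rw [← inv_eq_of_mul_eq_one_right hn]
    exact inv_mem (pow_mem hz _)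
  have hm := h_neg_one (K := K)
  have h2 : c ^ 2 = 1 := by
    refine S.units_eq_one (n := n) ?_
    rw [← pow_mul, mul_comm, pow_mul]
    rcases S.ψ_mem_center.1 h1 with h2 | h2
    · rw [eq_of_h_u (d := 1) (t := 0) (h2.trans (by rw [h_one, u_zero, mul_one])), one_pow]
    · rw [eq_of_h_u (d := -1) (t := 0) (h2.trans (by rw [hm, u_zero, mul_one])), neg_one_sq]
  have h3 : S.ψ (h c) ∈ Subgroup.center (Gh k) := by
    rw [S.ψ_mem_center]
    rcases units_sq h2 with h4 | h4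
    · left; rw [h4, h_one]
    · right; rw [h4, hm]
  have h4 : z * S.ψ (h c) = 1 := by
    have h5 := mul_mem hz h3
    refine center_eq_one S.prime h5 (n := n + 1) ?_
    have h6 : Commute (z * S.ψ (h c)) (S.ψ (u t)) := (Subgroup.mem_center_iff.1 h5 _).symm
    have h7 : (z * S.ψ (h c) * S.ψ (u t)) ^ p ^ n = 1 := by
      rw [mul_assoc, ← map_mul, hc.mul_pow, ← map_pow, hs, hn]
    have h8 : (z * S.ψ (h c) * S.ψ (u t)) ^ p ^ (n + 1) = 1 := by rw [pow_succ, pow_mul, h7, one_pow]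
    rwa [h6.mul_pow, pow_succ' p n, pow_mul (S.ψ (u t)), S.ψ_u_pow, one_pow, mul_one, ← pow_succ'] at h8
  rw [map_mul, ← mul_assoc, h4, one_mul]
  exact ⟨t, rfl⟩

/-- **a `p`-subgroup of `M` which contains `U` and is normalised by `T_A` is `U`** -/
theorem eq_U {Q : Subgroup (Gh k)} (hQ : IsPGroup p Q) (hM : Q ≤ S.M) (hU : S.U ≤ Q)
    (hT : ∀ c, ∀ y ∈ Q, S.ψ (h c) * y * (S.ψ (h c))⁻¹ ∈ Q) : Q = S.U := by
  have : Fact p.Prime := ⟨S.prime⟩
  have := S.charK
  have hpow : ∀ y ∈ Q, ∃ n, y ^ p ^ n = 1 := fun y hy => by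
    obtain ⟨n, hn⟩ := hQ ⟨y, hy⟩
    exact ⟨n, congrArg Subtype.val hn⟩
  -- `Q ∩ A = U`
  have hA : ∀ x, S.ψ x ∈ Q → S.ψ x ∈ S.U := by
    intro x hx
    rcases H943.SL2Rel.bruhat x with ⟨c, t, rfl⟩ | ⟨r, c, t, rfl⟩
    · obtain ⟨n, hn⟩ := hpow _ hx
      have h1 := S.mem_U_of_borel (z := 1) (c := c) (t := t) (one_mem _) (n := n) (by rwa [one_mul])
      rwa [one_mul] at h1
    exfalso
    have h1 : S.ψ (h c * w) ∈ Q := by
      have h2 := mul_mem (mul_mem (inv_mem (hU ⟨r, rfl⟩)) hx) (inv_mem (hU ⟨t, rfl⟩))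
      rwa [← map_inv, ← map_inv, ← map_mul, ← map_mul, show (u r)⁻¹ * (u r * h c * w * u t) * (u t)⁻¹ = h c * w by group]
        at h2
    have h2 : ∀ d : Kˣ, S.ψ (h (d ^ 2) * u 0) ∈ Q := fun d => by
      have h3 := mul_mem (hT d _ h1) (inv_mem h1)
      rwa [← map_inv, ← map_inv, ← map_mul, ← map_mul, ← map_mul, ← h_inv, mul_assoc (h d), mul_assoc (h c), ← h_w,
        show h d * (h c * (h d * w)) * (h c * w)⁻¹ = h d * h c * h d * (h c)⁻¹ by group, ← h_mul, ← h_mul, ← h_inv, ← h_mul,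
        show d * c * d * c⁻¹ = d ^ 2 by rw [mul_right_comm d c, mul_inv_cancel_right, sq], ← mul_one (h (d ^ 2)),
        ← u_zero] at h3
    have h3 : ∀ d : Kˣ, d ^ 4 = 1 := fun d => by
      obtain ⟨n, hn⟩ := hpow _ (h2 d)
      obtain ⟨s, hs⟩ := S.mem_U_of_borel (z := 1) (c := d ^ 2) (t := 0) (one_mem _) (n := n) (by rwa [one_mul])
      rw [one_mul] at hs
      have hm := h_neg_one (K := K)
      rw [show 4 = 2 * 2 from rfl, pow_mul]
      rcases S.ψ_eq hs with h4 | h4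
      · rw [eq_of_h_u (d := 1) (t := s) (h4.trans (by rw [h_one, one_mul])), one_pow]
      · rw [eq_of_h_u (d := -1) (t := s) (h4.trans (by rw [hm, neg_one_mul])), neg_one_sq]
    classical
    obtain ⟨d, hd⟩ := IsCyclic.exists_ofOrder_eq_natCard (α := Kˣ)
    have h4 := Nat.le_of_dvd (by norm_num) (orderOf_dvd_of_pow_eq_one (h3 d))
    rw [hd, Nat.card_eq_fintype_card, Fintype.card_units, S.cardK] at h4
    have := S.eleven
    omega
  refine le_antisymm (fun y hy => ?_) hU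
  obtain ⟨n, x, hn, e⟩ := S.exists_NB (hM hy)
  -- `x` lies in the Borel subgroup
  obtain ⟨c, t, rfl⟩ : ∃ c t, x = h c * u t := by
    obtain ⟨x', h1⟩ := S.norm_ψ (hM hy) (u 1)
    have h2 : y * S.ψ (u 1) * y⁻¹ ∈ S.U := by
      have h3 := mul_mem (mul_mem hy (hU ⟨1, rfl⟩)) (inv_mem hy)
      rw [h1] at h3 ⊢
      exact hA _ h3
    obtain ⟨s, hs⟩ := hn.inv.conj_U h2
    rw [e, show n⁻¹ * (n * S.ψ x * S.ψ (u 1) * (n * S.ψ x)⁻¹) * n⁻¹⁻¹ = S.ψ x * S.ψ (u 1) * (S.ψ x)⁻¹ by group,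
      ← map_inv, ← map_mul, ← map_mul] at hs
    exact borel_of_norm (S.ψ_eq hs)
  obtain ⟨hnM, c', τ, h1⟩ := hn
  have hm := h_neg_one (K := K)
  -- the element `y' = n ψ(h c)` normalises `T_A`, so it centralises it
  set y' := n * S.ψ (h c) with hy'
  have hy'Q : y' ∈ Q := by
    have h2 := mul_mem hy (inv_mem (hU ⟨t, rfl⟩))
    rwa [e, map_mul, ← mul_assoc, mul_inv_cancel_right] at h2
  have h2 : ∀ d : Kˣ, y' * S.ψ (h d) * y'⁻¹ = S.ψ (h (Units.map (τ : K →* K) d)) := fun d => by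
    rw [← aut_h c', h1, hy', mul_assoc n, ← map_mul, ← h_mul, mul_comm c d, h_mul, map_mul]
    group
  have h3 : ∀ d : Kˣ, τ ((d : K) ^ 2) = (d : K) ^ 2 := fun d => by
    have h4 := mul_mem hy'Q (hT d _ (inv_mem hy'Q))
    rw [← mul_assoc, ← mul_assoc, h2, ← map_inv, ← map_mul, ← h_inv, ← h_mul] at h4
    obtain ⟨s, hs⟩ := hA _ h4
    have h5 : (Units.map (τ : K →* K) d * d⁻¹) ^ 2 = 1 := by
      rcases S.ψ_eq hs with h5 | h5
      · rw [eq_of_h_u (c := Units.map (τ : K →* K) d * d⁻¹) (d := 1) (s := 0) (t := s)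
          (by rw [u_zero, mul_one, h5, h_one, one_mul]), one_pow]
      · rw [eq_of_h_u (c := Units.map (τ : K →* K) d * d⁻¹) (d := -1) (s := 0) (t := s)
          (by rw [u_zero, mul_one, h5, hm, neg_one_mul]), neg_one_sq]
    rw [mul_pow, inv_pow, mul_inv_eq_one] at h5
    rw [map_pow]
    exact congrArg Units.val h5
  have h4 : ∀ s : K, τ s = s := by
    let B : AddSubgroup K := (τ : K →+ K).eqLocus (AddMonoidHom.id K)
    have h5 : ∀ s : K, τ (s ^ 2) = s ^ 2 := fun s => by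
      by_cases hs : s = 0
      · rw [hs, zero_pow two_ne_zero, map_zero]
      · exact h3 (Units.mk0 s hs)
    have h6 : B = ⊤ := eq_top_of_sq (fun c s hs => by
      have h7 : τ s = s := hs
      show τ _ = _
      rw [map_mul, h5, h7]; rfl) (fun h0 => by
      have h7 : (1 : K) ∈ B := map_one τ
      rw [h0] at h7
      exact one_ne_zero h7)
    intro s
    exact (h6 ▸ AddSubgroup.mem_top s : s ∈ B)
  have h5 : ∀ s, y' * S.ψ (u s) * y'⁻¹ = S.ψ (u (((c' * c ^ 2 : Kˣ) : K) * s)) := fun s => by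
    have h6 := h1 (u ((c : K) ^ 2 * s))
    rw [aut_u, h4, ← mul_assoc] at h6
    rw [Units.val_mul, Units.val_pow_eq_pow_val, h6, hy', mul_assoc n, ← map_mul, h_u, map_mul]
    group
  have h6 : c' * c ^ 2 = 1 := by
    obtain ⟨m, hm'⟩ := hpow _ hy'Q
    have h7 : ∀ j : ℕ, y' ^ j * S.ψ (u 1) * (y' ^ j)⁻¹ = S.ψ (u (((c' * c ^ 2) ^ j : Kˣ) : K)) := by
      intro j
      induction j with
      | zero => rw [pow_zero, pow_zero, one_mul, inv_one, mul_one, Units.val_one]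
      | succ j ih =>
        rw [pow_succ', show y' * y' ^ j * S.ψ (u 1) * (y' * y' ^ j)⁻¹ = y' * (y' ^ j * S.ψ (u 1) * (y' ^ j)⁻¹) * y'⁻¹ by group,
          ih, h5, ← Units.val_mul, ← pow_succ']
    have h8 := h7 (p ^ m)
    rw [hm', one_mul, inv_one, mul_one] at h8
    exact S.units_eq_one (Units.ext (S.ψ_u_inj h8).symm)
  have h7 : S.Cent y' := by
    intro x
    refine induct (P := fun x => S.ψ x * y' = y' * S.ψ x) (fun s => ?_) (fun d => ?_) ?_ (fun x x' hx hx' => by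
      rw [map_mul, mul_assoc, hx', ← mul_assoc, hx, mul_assoc]) x
    · have h8 := h5 s
      rw [h6, Units.val_one, one_mul] at h8
      exact (mul_inv_eq_iff_eq_mul.1 h8).symm
    · have h8 := h2 d
      rw [show Units.map (τ : K →* K) d = d from Units.ext (h4 d)] at h8
      exact (mul_inv_eq_iff_eq_mul.1 h8).symm
    · have h8 := h1 (h (c ^ 2) * w)
      rw [map_mul, aut_h, aut_w, show Units.map (τ : K →* K) (c ^ 2) = c ^ 2 from Units.ext (h4 _), ← mul_assoc, ← h_mul,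
        mul_comm, h6, h_one, one_mul] at h8
      rw [sq, h_mul, mul_assoc (h c), h_w, map_mul, map_mul, h_inv, map_inv] at h8
      rw [hy']
      nth_rewrite 1 [h8]
      group
  have h8 := S.cent_fix h7 (S.k_σ_M (hM hy'Q))
  obtain ⟨m, hm'⟩ := hpow _ hy'Q
  have := S.chark
  rw [e, map_mul, ← mul_assoc, ← hy', center_eq_one S.prime h8 hm', one_mul]
  exact ⟨t, rfl⟩

/-- the roots which are trivial on `g⁻¹ C g` -/
def Psi (C : Subgroup (Gh k)) (g : Gh k) (r : ℕ) : Prop := ∀ t, g * Phi k t * g⁻¹ ∈ C → rtv r t = 1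

open Classical in
/-- **TOP** (task TOP) -/
def TOP : Prop := ∀ (C : Subgroup (Gh k)) (g : Gh k) (γ : E), (∀ c ∈ C, ∃ t, c = g * Phi k t * g⁻¹) →
  (∀ c ∈ C, S.σ c ∈ C) → (∀ m ∈ S.M, ∀ c ∈ C, m * c * m⁻¹ ∈ C) → (∀ c ∈ C, S.Cent c) →
  (∃ c ∈ C, c ∉ Subgroup.center (Gh k)) → g⁻¹ * S.σ g ∈ Pl k γ → (∀ c, g⁻¹ * S.ψ (h c) * g ∈ Pl k γ) →
  (∀ t, g⁻¹ * S.ψ (u t) * g ∈ Ul k γ) →
  ∃ d : ℝ, 0 < d ∧ (∀ r < 126, Psi C g r → bf γ (rv r) = 0 ∨ bf γ (rv r) = d ∨ bf γ (rv r) = -d) ∧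
    a = b * ((Finset.range 126).filter fun r => Psi C g r ∧ bf γ (rv r) = d).card

/-- **RED** : `A` is reducible (task RED) -/
def RED {I : Type} [Fintype I] [DecidableEq I] (R : Gh k →* Matrix I I k) : Prop :=
  ∃ Y : Submodule k (I → k), Y ≠ ⊥ ∧ Y ≠ ⊤ ∧ ∀ x, ∀ y ∈ Y, R (S.ψ x) *ᵥ y ∈ Y

end Sit

end Cfsg.Agent.E7P

private theorem dce_52919941e8b7 : _root_.True := by
  try have : _root_.True := by simp only [_root_.Cfsg.Agent.H943.SL2Rel.h.eq_1]
  exact _root_.True.intro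
end

-- part: E7P/Top/Top_mg
section
prune_inst 0x140280053e2020000180514b00006100200000210400800000000080488a440244180613820051208100040083001000010000040c00000041c0000000100008040000482484019660019000008000000008040000000000000000000000000000000000
set_option linter.all false
open scoped Cfsg.Agent.FastGrp

-- part: E7P/Top/Core
section
/-!
# S5932, task TOP: leading terms and descent (helper71)

* `Top.Ld β e y z` : `z` is a leading term of `y` at the level `e`;
* `Top.core` : a Frobenius stable subgroup of `Ul β` whose fixed points form an "irreducible" group has only one level.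
-/

set_option autoImplicit false
set_option maxRecDepth 100000

namespace Cfsg.Agent.E7P.Top

open Cfsg Cfsg.Lie Matrix Module
open Cfsg.Agent.H943.E7V.Block (D1 rho)
open Cfsg.Agent.R2.T1 Cfsg.Agent.E7P.Kf
open Cfsg.Agent.R2.PX (del)
open Cfsg.Agent.R2.H8.NoFix

universe u v

variable {k : Type u} [Field k]

theorem del_map {K' : Type u} [Field K'] (f : k →+* K') (z : chevE7.Idx → k) :
    (del k z).map f = del K' fun i => f (z i) := by
  ext a b
  rw [map_apply, R2.PX.del_apply, R2.PX.del_apply, Matrix.add_apply, Matrix.add_apply, Matrix.sum_apply, Matrix.sum_apply,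
    Matrix.sum_apply, Matrix.sum_apply, map_add, map_sum, map_sum]
  congr 1
  · refine Finset.sum_congr rfl fun i _ => ?_
    rw [Matrix.smul_apply, Matrix.smul_apply, smul_eq_mul, smul_eq_mul, map_mul]
    congr 1
    show f (diagonal _ a b) = diagonal _ a b
    rw [diagonal_apply, diagonal_apply, apply_ite f, map_intCast, map_zero]
  · refine Finset.sum_congr rfl fun s _ => ?_
    rw [Matrix.smul_apply, Matrix.smul_apply, smul_eq_mul, smul_eq_mul, map_mul]
    congr 1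
    exact map_intCast f _

/-- `z` is a leading term of `y` at the level `e` -/
def Ld (β : E) (e : ℝ) (y : Gh k) (z : chevE7.Idx → k) : Prop := rho k y - 1 - del k z ∈ MGt k β e

variable {β : E} {d e : ℝ} {x y : Gh k} {z z' : chevE7.Idx → k}

theorem Ld.mge (h : Ld β e y z) (hz : z ∈ Ge k ac β e) : rho k y - 1 ∈ MGe k β e := by
  have h1 := add_mem (MGt_le h) (del_mem_MGe hz)
  rwa [sub_add_cancel] at h1

theorem Ld.sub (h : Ld β e y z) (h' : Ld β e y z') : z - z' ∈ Gt k ac β e := by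
  refine mem_Gt_of_del ?_
  have h1 := sub_mem h' h
  rwa [sub_sub_sub_cancel_left, ← map_sub] at h1

theorem Ld.unique (h : Ld β e y z) (h' : Ld β e y z') (hz : z ∈ Lv k ac β e) (hz' : z' ∈ Lv k ac β e) : z = z' :=
  sub_eq_zero.1 (eq_zero_of_Lv_Gt (sub_mem hz hz') (h.sub h'))

theorem ld_zero : Ld β e y 0 ↔ rho k y - 1 ∈ MGt k β e := by rw [Ld, map_zero, sub_zero]

theorem Ld.inv_mul (hx : x ∈ Pl k β) (h : Ld β e x z) (h' : Ld β e y z) : rho k (x⁻¹ * y) - 1 ∈ MGt k β e := by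
  have h1 := MGe_mul_MGt (rho_mem_MGe (inv_mem hx)) (sub_mem h' h)
  rwa [zero_add, sub_sub_sub_cancel_right, sub_sub_sub_cancel_right, mul_sub, ← map_mul, ← map_mul, inv_mul_cancel,
    map_one] at h1

theorem Ld.frob (s : k →+* k) (h : Ld β e y z) : Ld β e (emb s y) fun i => s (z i) := by
  intro i j hij
  refine h i j fun h0 => hij ?_
  rw [rho_emb, ← del_map, Matrix.sub_apply, Matrix.sub_apply, map_apply, map_apply]
  have h1 := congrArg s h0
  rwa [Matrix.sub_apply, Matrix.sub_apply, map_sub, map_sub, map_zero, one_apply, apply_ite s, map_one, map_zero,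
    ← one_apply] at h1

theorem frob_Lv (s : k →+* k) (hz : z ∈ Lv k ac β e) : (fun i => s (z i)) ∈ Lv k ac β e := fun i hi =>
  hz i fun h0 => hi ((congrArg s h0).trans (map_zero s))

theorem Ld.conj (h2 : (2 : k) ≠ 0) {m : Gh k} (hm : m ∈ Pl k β) (h : Ld β e y z) :
    Ld β e (m * y * m⁻¹) (adM k m *ᵥ z) := by
  have h1 := MGt_conj hm h
  rwa [mul_sub, sub_mul, mul_sub, sub_mul, mul_one, ← map_mul, ← map_mul, ← map_mul, mul_inv_cancel, map_one,
    R2.PX.del_equi h2, mul_assoc (del k _), ← map_mul, mul_inv_cancel, map_one, mul_one] at h1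

/-- the unipotent radical does not change the leading terms -/
theorem Ld.conj_Ul (hx : x ∈ Ul k β) (h : Ld β e y z) (hz : z ∈ Ge k ac β e) : Ld β e (x * y * x⁻¹) z := by
  have h1 := MGt_conj hx.1 h
  have h3 := del_mem_MGe hz
  have h4 := MGt_mul (MGt_mul (STri_iff.1 hx.2) h3) (rho_mem_MGe (inv_mem hx.1))
  have h5 := MGe_mul_MGt h3 (STri_iff.1 (inv_mem hx).2)
  rw [zero_add, add_zero] at h4
  rw [add_zero] at h5
  have h6 := add_mem (add_mem h1 h4) h5
  have h7 : rho k x * rho k x⁻¹ = 1 := by rw [← map_mul, mul_inv_cancel, map_one]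
  rwa [show rho k x * (rho k y - 1 - del k z) * rho k x⁻¹ + (rho k x - 1) * del k z * rho k x⁻¹ +
    del k z * (rho k x⁻¹ - 1) = rho k x * rho k y * rho k x⁻¹ - rho k x * rho k x⁻¹ - del k z by noncomm_ring, h7,
    ← map_mul, ← map_mul] at h6

/-- the exact level -/
theorem exists_level (hy : y ∈ Ul k β) (h1 : y ≠ 1) : ∃ e, 0 < e ∧ ∃ z ∈ Lv k ac β e, z ≠ 0 ∧ Ld β e y z := by
  classical
  have hne : (Finset.univ.filter fun x : D1 × D1 => (rho k y - 1) x.1 x.2 ≠ 0).Nonempty := by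
    by_contra h0
    rw [Finset.not_nonempty_iff_eq_empty, Finset.filter_eq_empty_iff] at h0
    refine h1 (rho_injective ?_)
    rw [map_one, ← sub_eq_zero]
    ext i j
    exact not_not.1 (h0 (Finset.mem_univ (i, j)))
  obtain ⟨x, hx, hmin⟩ := Finset.exists_min_image _ (fun x : D1 × D1 => bf β (wv x.1) - bf β (wv x.2)) hne
  have hx1 := (Finset.mem_filter.1 hx).2
  have he : 0 < bf β (wv x.1) - bf β (wv x.2) := sub_pos.2 (hy.2 _ _ hx1)
  obtain ⟨z, hz, h2⟩ := leadu he hy fun i j hij => by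
    have h3 := hmin (i, j) (Finset.mem_filter.2 ⟨Finset.mem_univ _, hij⟩)
    linarith
  refine ⟨_, he, z, hz, ?_, h2⟩
  rintro rfl
  have h3 := ld_zero.1 h2 _ _ hx1
  linarith

theorem Ld.lt (h : Ld β e y z) (hz : z ∈ Lv k ac β e) (h0 : z ≠ 0) (h' : rho k y - 1 ∈ MGt k β d) : d < e := by
  by_contra hle
  exact h0 (h.unique (ld_zero.2 (MGt_mono (not_lt.1 hle) h')) hz (zero_mem _))

/-- every leading term occurs, in a given subgroup -/
theorem exists_ld (hd : 0 < d) (hz : z ∈ Ge k ac β d) {T : Subgroup (Gh k)}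
    (hT : ∀ r : Fin chevE7.nroots, z (Sum.inr r) ≠ 0 → ∀ t, xs k r t ∈ T) : ∃ y ∈ T, Ld β d y z := by
  classical
  have key : ∀ s : Finset chevE7.Idx, ∃ y ∈ T, (∑ i ∈ s, Pi.single i (z i) : chevE7.Idx → k) ∈ Ge k ac β d ∧
      Ld β d y (∑ i ∈ s, Pi.single i (z i)) := by
    intro s
    induction s using Finset.induction_on with
    | empty =>
      refine ⟨1, one_mem _, ?_, ?_⟩
      · rw [Finset.sum_empty]; exact zero_mem _
      · rw [Finset.sum_empty, ld_zero, map_one, sub_self]; exact zero_mem _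
    | insert i s hi ih =>
      obtain ⟨y, hy, h1, h2⟩ := ih
      rw [Finset.sum_insert hi]
      by_cases h0 : z i = 0
      · rw [h0, Pi.single_zero, zero_add]
        exact ⟨y, hy, h1, h2⟩
      have h3 := hz i h0
      rcases i with i | ⟨r, hr⟩
      · rw [ac_inl, cv_zero, map_zero] at h3
        exact absurd hd (not_lt.2 h3)
      have h4 : (Pi.single (Sum.inr ⟨r, hr⟩) (z (Sum.inr ⟨r, hr⟩)) : chevE7.Idx → k) ∈ Ge k ac β d :=
        fun j hj => h3.trans (single_mem_Lv hr _ j hj).ge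
      exact ⟨_, mul_mem (hT ⟨r, hr⟩ h0 _) hy, add_mem h4 h1,
        lead_mul hd h4 h1 (by rw [lead_xs hr]; exact zero_mem _) h2⟩
  obtain ⟨y, hy, -, h⟩ := key Finset.univ
  rw [Finset.univ_sum_single] at h
  exact ⟨y, hy, h⟩

section
variable {F : Type u} [Field F] [Fintype F] (f : F →+* k) {s : k →+* k} (hs : ∀ x, s x = x ^ Fintype.card F)
include hs

include f in
/-- the map `z ↦ z - s z` is onto -/
theorem exists_sub [IsAlgClosed k] {n : Type} [Fintype n] [DecidableEq n] {Y : Submodule k (n → k)}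
    (hY : ∀ y ∈ Y, (fun i => s (y i)) ∈ Y) {w : n → k} (hw : w ∈ Y) : ∃ z ∈ Y, w = z - fun i => s (z i) := by
  have h1 : ∀ c : k, ∃ x, c = x - s x := fun c => by
    obtain ⟨x, hx⟩ := IsAlgClosed.exists_root (Polynomial.X ^ Fintype.card F - Polynomial.X + Polynomial.C c) (by
      have h1 : 1 < Fintype.card F := Fintype.one_lt_card
      have h2 := FiniteField.X_pow_card_sub_X_natDegree_eq k h1
      intro h0
      have h3 := Polynomial.natDegree_eq_zero_iff_degree_le_zero.2 h0.le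
      rw [Polynomial.natDegree_add_C, h2] at h3
      omega)
    refine ⟨x, ?_⟩
    rw [Polynomial.IsRoot.def, Polynomial.eval_add, Polynomial.eval_sub, Polynomial.eval_pow, Polynomial.eval_X,
      Polynomial.eval_C] at hx
    rw [hs]
    linear_combination hx
  have key : ∀ w ∈ H65.E6Emb.ext f (Desc.rat f Y), ∀ c : k, ∃ z ∈ Y, c • w = z - fun i => s (z i) := by
    intro w hw
    unfold H65.E6Emb.ext at hw
    induction hw using Submodule.span_induction with
    | mem y hy =>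
      obtain ⟨v, hv, rfl⟩ := hy
      intro c
      obtain ⟨x, rfl⟩ := h1 c
      refine ⟨_, Y.smul_mem x hv, funext fun i => ?_⟩
      show (x - s x) * f (v i) = x * f (v i) - s (x * f (v i))
      rw [map_mul, hs (f _), ← map_pow, FiniteField.pow_card, sub_mul]
    | zero => exact fun c => ⟨0, zero_mem _, funext fun i => by simp⟩
    | add a b _ _ ha hb =>
      intro c
      obtain ⟨z, hz, e1⟩ := ha c
      obtain ⟨z', hz', e2⟩ := hb c
      refine ⟨z + z', add_mem hz hz', ?_⟩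
      rw [smul_add, e1, e2]
      funext i
      simp only [Pi.add_apply, Pi.sub_apply, map_add]
      ring
    | smul c a _ ha =>
      intro c'
      rw [smul_smul]
      exact ha _
  have h2 := key w (by rwa [Desc.ext_rat f hs hY]) 1
  rwa [one_smul] at h2

include f in
/-- **the core of TOP** -/
theorem core [IsAlgClosed k] {Q : Subgroup (Gh k)} (hQ : Q ≤ Ul k β) (hσ : ∀ y ∈ Q, emb s y ∈ Q)
    (Y : ℝ → Submodule k (chevE7.Idx → k)) (hY : ∀ e, Y e ≤ Lv k ac β e)
    (h1 : ∀ e, 0 < e → ∀ y ∈ Q, ∀ z ∈ Lv k ac β e, Ld β e y z → z ∈ Y e)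
    (h2 : ∀ e, 0 < e → ∀ z ∈ Y e, ∃ y ∈ Q, Ld β e y z) {K : Type v} (u : K → Gh k) (hu : Function.Injective u)
    (hfix : ∀ y, (y ∈ Q ∧ emb s y = y) ↔ ∃ t, y = u t) (hne : ∃ t, u t ≠ 1)
    (hirr : ∀ d, 0 < d → ∀ t, u t ≠ 1 → u t ∈ Ud k β d → ∀ t, u t ∈ Ud k β d) :
    ∃ d, 0 < d ∧ (∀ e, 0 < e → Y e ≠ ⊥ → e = d) ∧ Nat.card K = Fintype.card F ^ finrank k (Y d) := by
  classical
  have hYs : ∀ e, 0 < e → ∀ z ∈ Y e, (fun i => s (z i)) ∈ Y e := fun e he z hz => by
    obtain ⟨y, hy, h3⟩ := h2 e he z hz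
    exact h1 e he _ (hσ y hy) _ (frob_Lv s (hY e hz)) (h3.frob s)
  have hfin : {e | 0 < e ∧ Y e ≠ ⊥}.Finite := by
    refine (Set.finite_range fun i => bf β (cv (ac i))).subset fun e he => ?_
    obtain ⟨z, hz, h0⟩ := Submodule.exists_mem_ne_zero_of_ne_bot he.2
    obtain ⟨i, hi⟩ := Function.ne_iff.1 h0
    exact ⟨i, hY e hz i hi⟩
  have hlev : ∀ y ∈ Q, y ≠ 1 → ∃ e, (0 < e ∧ Y e ≠ ⊥) ∧ ∃ z ∈ Lv k ac β e, z ≠ 0 ∧ Ld β e y z := fun y hy hy1 => by
    obtain ⟨e, he, z, hz, h0, h3⟩ := exists_level (hQ hy) hy1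
    exact ⟨e, ⟨he, (Submodule.ne_bot_iff _).2 ⟨z, h1 e he y hy z hz h3, h0⟩⟩, z, hz, h0, h3⟩
  have huQ : ∀ t, u t ∈ Q ∧ emb s (u t) = u t := fun t => (hfix _).2 ⟨t, rfl⟩
  obtain ⟨d, ⟨hd, hd0⟩, hmax⟩ : ∃ d ∈ {e | 0 < e ∧ Y e ≠ ⊥}, ∀ e ∈ {e | 0 < e ∧ Y e ≠ ⊥}, e ≤ d := by
    obtain ⟨t, ht⟩ := hne
    obtain ⟨e, he, -⟩ := hlev _ (huQ t).1 ht
    exact Set.exists_max_image _ id hfin ⟨e, he⟩
  have hinj : ∀ x ∈ Q, ∀ y ∈ Q, ∀ z, Ld β d x z → Ld β d y z → x = y := fun x hx y hy z h3 h4 => by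
    by_contra hxy
    obtain ⟨e, he, z', hz', h0, h5⟩ := hlev _ (mul_mem (inv_mem hx) hy) fun h => hxy (inv_mul_eq_one.1 h)
    exact not_lt.2 (hmax e he) (h5.lt hz' h0 (h3.inv_mul (hQ hx).1 h4))
  have hrat : ∀ v : chevE7.Idx → F, (fun i => s (f (v i))) = fun i => f (v i) := fun v => funext fun i => by
    rw [hs, ← map_pow, FiniteField.pow_card]
  have htop : ∀ v : chevE7.Idx → F, (fun i => f (v i)) ∈ Y d → ∃ t, Ld β d (u t) fun i => f (v i) := fun v hv => by
    obtain ⟨y, hy, h3⟩ := h2 d hd _ hv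
    have h4 := h3.frob s
    rw [hrat] at h4
    obtain ⟨t, rfl⟩ := (hfix y).1 ⟨hy, hinj _ (hσ y hy) _ hy _ h4 h3⟩
    exact ⟨t, h3⟩
  have hud : ∀ t, rho k (u t) - 1 ∈ MGe k β d := by
    obtain ⟨v, hv0, hv⟩ := Desc.exists_rational f hs (hYs d hd) hd0
    obtain ⟨t, ht⟩ := htop v hv
    intro t'
    refine Ud_MGe hd.le (hirr d hd t (fun h => hv0 ?_) (mem_Ud_of_MGe (hQ (huQ t).1) (ht.mge (Lv_le_Ge (hY d hv)))) t')
    have h3 := ht.unique (ld_zero.2 (by rw [h, map_one, sub_self]; exact zero_mem _)) (hY d hv) (zero_mem _)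
    exact funext fun i => f.injective ((congrFun h3 i).trans (map_zero f).symm)
  refine ⟨d, hd, ?_, ?_⟩
  · by_contra hcon
    push Not at hcon
    obtain ⟨e, ⟨⟨he, he0⟩, hed⟩, hmax'⟩ : ∃ e ∈ {e | (0 < e ∧ Y e ≠ ⊥) ∧ e < d},
        ∀ e' ∈ {e | (0 < e ∧ Y e ≠ ⊥) ∧ e < d}, e' ≤ e := by
      obtain ⟨e, h3, h4, h5⟩ := hcon
      exact Set.exists_max_image _ id (hfin.subset fun _ h => h.1) ⟨e, ⟨h3, h4⟩, (hmax e ⟨h3, h4⟩).lt_of_ne h5⟩
    obtain ⟨v, hv0, hv⟩ := Desc.exists_rational f hs (hYs e he) he0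
    obtain ⟨y, hy, h3⟩ := h2 e he _ hv
    have h4 := h3.frob s
    rw [hrat] at h4
    have h5 := h3.inv_mul (hQ hy).1 h4
    have hx := mul_mem (inv_mem hy) (hσ y hy)
    obtain ⟨w, hw, h6⟩ : ∃ w ∈ Y d, Ld β d (y⁻¹ * emb s y) w := by
      by_cases h6 : y⁻¹ * emb s y = 1
      · exact ⟨0, zero_mem _, ld_zero.2 (by rw [h6, map_one, sub_self]; exact zero_mem _)⟩
      obtain ⟨e', he', z', hz', h0, h7⟩ := hlev _ hx h6
      have h8 : e' = d := by
        by_contra h8
        exact not_lt.2 (hmax' e' ⟨he', (hmax e' he').lt_of_ne h8⟩) (h7.lt hz' h0 h5)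
      subst h8
      exact ⟨z', h1 _ hd _ hx _ hz' h7, h7⟩
    obtain ⟨z', hz', rfl⟩ := exists_sub f hs (hYs d hd) hw
    obtain ⟨x, hx', h7⟩ := h2 d hd _ hz'
    have h8 := lead_mul hd (Lv_le_Ge (hY d hw)) (Lv_le_Ge (hY d (hYs d hd _ hz'))) h6 (h7.frob s)
    rw [sub_add_cancel] at h8
    have h9 := hinj _ (mul_mem hx (hσ x hx')) _ hx' _ h8 h7
    obtain ⟨t, ht⟩ := (hfix (y * x)).1 ⟨mul_mem hy hx', by
      rw [map_mul]
      nth_rewrite 2 [← h9]
      group⟩
    have h10 := lead_mul he (Lv_le_Ge (hY e hv)) (zero_mem _) h3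
      (ld_zero.2 (MGe_le_MGt hed (h7.mge (Lv_le_Ge (hY d hz')))))
    rw [add_zero, ht] at h10
    have h11 := Ld.unique h10 (ld_zero.2 (MGe_le_MGt hed (hud t))) (hY e hv) (zero_mem _)
    exact hv0 (funext fun i => f.injective ((congrFun h11 i).trans (map_zero f).symm))
  · rw [← Desc.finrank_rat f hs (hYs d hd), ← Nat.card_eq_fintype_card, ← Module.natCard_eq_pow_finrank]
    choose φ hφ using htop
    refine (Nat.card_eq_of_bijective (fun v : Desc.rat f (Y d) => φ v v.2) ⟨fun v v' h => ?_, fun t => ?_⟩).symm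
    · have h3 := hφ v v.2
      rw [show φ v v.2 = φ v' v'.2 from h] at h3
      have h4 := h3.unique (hφ v' v'.2) (hY d v.2) (hY d v'.2)
      exact Subtype.ext (funext fun i => f.injective (congrFun h4 i))
    · obtain ⟨z, hz, h3⟩ := leadu hd (hQ (huQ t).1) (hud t)
      have h4 := Ld.frob s h3
      rw [(huQ t).2] at h4
      have h5 := h4.unique h3 (frob_Lv s hz) hz
      choose v hv using fun i => H65.E6Emb.mem_range_of_pow f (by rw [← hs]; exact congrFun h5 i :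
        z i ^ Fintype.card F = z i)
      have h6 : (fun i => f (v i)) = z := funext hv
      have h7 : (fun i => f (v i)) ∈ Y d := h6 ▸ h1 d hd _ (huQ t).1 z hz h3
      refine ⟨⟨v, h7⟩, hu (hinj _ (huQ _).1 _ (huQ _).1 z ?_ h3)⟩
      have h8 := hφ v h7
      rwa [h6] at h8

end

end Cfsg.Agent.E7P.Top
end

-- part: E7P/Top/Top
section
/-!
# S5932, task TOP (helper71)

`Sit.top : p ≠ 2 → S.TOP`.
-/

set_option autoImplicit false
set_option maxRecDepth 100000

namespace Cfsg.Agent.E7P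

open Cfsg Cfsg.Lie Matrix Module
open Cfsg.Agent.H943.E7V.Block (D1 rho)
open Cfsg.Agent.R2.T1 Cfsg.Agent.E7P.Kf
open Cfsg.Agent.R2.PX (del)
open Cfsg.Agent.H943.SL2Rel (u w h)

universe u v

namespace Top

variable {k : Type u} [Field k]

theorem levi_Lv {β : E} {e : ℝ} {m : Gh k} (hm : m ∈ Pl k β ⊓ Pl k (-β)) {z : chevE7.Idx → k} (hz : z ∈ Lv k ac β e) :
    adM k m *ᵥ z ∈ Lv k ac β e := by
  intro i hi
  have h1 := wrep_L.Ge_stab hm.1 (Lv_le_Ge hz) i hi
  have h2 := wrep_L.Ge_stab hm.2 (d := -e) (x := z) (fun j hj => by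
    rw [map_neg, LinearMap.neg_apply, hz j hj]) i hi
  rw [map_neg, LinearMap.neg_apply] at h2
  linarith

theorem center_of_comm {c : Gh k} (hc : ∀ r < 126, xs k r 1 * c = c * xs k r 1) : c ∈ Subgroup.center (Gh k) := by
  rw [Subgroup.mem_center_iff]
  intro y
  refine (mem_of_gens (S := Subgroup.centralizer {c}) (fun r hr t => ?_) y c rfl).symm
  rintro _ rfl
  apply rho_injective
  have h1 := congrArg (rho k) (hc r hr)
  rw [map_mul, map_mul, rho_xs' hr, one_smul, add_mul, mul_add, one_mul, mul_one, add_right_inj] at h1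
  rw [map_mul, map_mul, rho_xs' hr, add_mul, mul_add, one_mul, mul_one, smul_mul_assoc, h1, mul_smul_comm]

theorem rtv_neg {r : ℕ} (hr : r < 126) (t : Fin chevE7.rank → kˣ) : rtv (125 - r) t = (rtv r t)⁻¹ := by
  show ch (rc (125 - r)) t = (ch (rc r) t)⁻¹
  rw [rc_neg hr, ch_neg]

theorem ncard_inr (P : ℕ → Prop) [DecidablePred P] :
    (Sum.inr '' {r : Fin chevE7.nroots | P r} : Set chevE7.Idx).ncard = ((Finset.range 126).filter P).card := by
  rw [Set.ncard_image_of_injective _ Sum.inr_injective, ← Set.ncard_image_of_injective _ Fin.val_injective,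
    ← Set.ncard_coe_finset]
  congr 1
  ext r
  rw [Finset.mem_coe, Finset.mem_filter, Finset.mem_range]
  exact ⟨fun ⟨s, hs, e⟩ => e ▸ ⟨s.2, hs⟩, fun hr => ⟨⟨r, hr.1⟩, hr.2, rfl⟩⟩

end Top

namespace Sit

open Cfsg.Agent.E7P.Top

variable {p a b : ℕ} {F : Type u} {K : Type v} {k : Type u} [Field F] [Fintype F] [Field K] [Fintype K] [Field k]
  (S : Sit p a b F K k)

include S in
theorem top_two (hp : p ≠ 2) : (2 : k) ≠ 0 := by
  have := S.chark
  intro h2
  exact hp ((Nat.prime_dvd_prime_iff_eq S.prime Nat.prime_two).1 ((CharP.cast_eq_zero_iff k p 2).1 (by exact_mod_cast h2)))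

/-- the Frobenius map is surjective on stable subgroups -/
theorem top_σ_surj {C : Subgroup (Gh k)} (hσ : ∀ c ∈ C, S.σ c ∈ C) {c : Gh k} (hc : c ∈ C) : ∃ c' ∈ C, c = S.σ c' := by
  obtain ⟨N, hN, h1⟩ := S.k_exists_pow (Set.finite_singleton c)
  have h2 : ∀ n, S.σ^[n] c ∈ C := fun n => by
    induction n with
    | zero => exact hc
    | succ n ih => rw [Function.iterate_succ_apply']; exact hσ _ ih
  refine ⟨_, h2 (N - 1), ?_⟩
  rw [← Function.iterate_succ_apply' S.σ, show (N - 1).succ = N by omega, S.k_σ_pow, h1 c rfl]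

/-- **TOP** -/
theorem top (hp : p ≠ 2) : S.TOP := by
  classical
  intro C g γ hT hσ hM hA ⟨c0, hc0, hc0'⟩ hg hh hu
  have := S.closed
  have := S.chark
  have h2 := S.top_two hp
  obtain ⟨y0, hy0, z0, hz0, e0⟩ := lang_Pl S.prime S.hb S.k_frob hg
  obtain ⟨l, hl, x, hx, e1⟩ := Pl_levi hy0
  rw [← Ul_eq] at hx
  obtain ⟨g', hg'⟩ : ∃ g', g' = g * y0 := ⟨_, rfl⟩
  rw [← hg'] at e0
  have hσg : ∀ y, S.σ (g' * y * g'⁻¹) = g' * emb S.s y * g'⁻¹ := fun y => by
    show emb S.s _ = _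
    rw [map_mul, map_mul, map_inv, e0, mul_assoc g' z0, ← Subgroup.mem_center_iff.1 hz0]
    group
  let D := Subgroup.centralizer (C : Set (Gh k))
  have hDM : ∀ m ∈ S.M, ∀ y ∈ D, m * y * m⁻¹ ∈ D := fun m hm y hy c hc => by
    have h1 := hy _ (hM _ (inv_mem hm) c hc)
    calc _ = m * (m⁻¹ * c * m⁻¹⁻¹ * y) * m⁻¹ := by group
      _ = _ := by rw [h1]; group
  have hDσ : ∀ y ∈ D, S.σ y ∈ D := fun y hy c hc => by
    obtain ⟨c', hc', rfl⟩ := S.top_σ_surj hσ hc
    rw [← map_mul, hy c' hc', map_mul]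
  have hDA : ∀ x, S.ψ x ∈ D := fun x c hc => (hA c hc x).symm
  have hfixM : ∀ y ∈ D, S.σ y = y → y ∈ S.M := (S.fix_le_M hDM).resolve_right fun h1 =>
    hc0' (center_of_comm fun r _ => by
      have h3 := h1 (xs F r 1) c0 hc0
      rw [emb_xs, map_one] at h3
      exact h3.symm)
  have hh' : ∀ c, g'⁻¹ * S.ψ (h c) * g' ∈ Pl k γ := fun c => by
    rw [show g'⁻¹ * S.ψ (h c) * g' = y0⁻¹ * (g⁻¹ * S.ψ (h c) * g) * y0 by rw [hg']; group]
    exact mul_mem (mul_mem (inv_mem hy0) (hh c)) hy0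
  have hu' : ∀ t, g'⁻¹ * S.ψ (u t) * g' ∈ Ul k γ := fun t => by
    rw [show g'⁻¹ * S.ψ (u t) * g' = y0⁻¹ * (g⁻¹ * S.ψ (u t) * g) * y0⁻¹⁻¹ by rw [hg']; group]
    exact Ul_conj (inv_mem hy0) (hu t)
  let Q : Subgroup (Gh k) := Ul k γ ⊓ D.comap (MulAut.conj g').toMonoidHom
  have hQ : ∀ y, y ∈ Q ↔ y ∈ Ul k γ ∧ g' * y * g'⁻¹ ∈ D := fun y => Iff.rfl
  have hU : ∀ y, y ∈ Ul k γ → g' * y * g'⁻¹ ∈ D → emb S.s y = y → g' * y * g'⁻¹ ∈ S.U := by
    let Q' : Subgroup (Gh k) := (Ul k γ).comap (MulAut.conj g'⁻¹).toMonoidHom ⊓ (D ⊓ S.σ.eqLocus (MonoidHom.id _))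
    have hQ' : ∀ y, y ∈ Q' ↔ g'⁻¹ * y * g'⁻¹⁻¹ ∈ Ul k γ ∧ y ∈ D ∧ S.σ y = y := fun y => Iff.rfl
    have h1 : Q' = S.U := S.eq_U
      (((isPGroup_Ul S.prime γ).comap_of_injective _ (MulAut.conj g'⁻¹).injective).to_le inf_le_left)
      (fun y hy => hfixM y hy.2.1 hy.2.2)
      (by
        rintro _ ⟨t, rfl⟩
        exact (hQ' _).2 ⟨by rw [inv_inv]; exact hu' t, hDA _, S.k_σ_ψ _⟩)
      (fun c y hy => by
        obtain ⟨h3, h4, h5⟩ := (hQ' y).1 hy
        refine (hQ' _).2 ⟨?_, hDM _ (S.k_ψ_mem _) y h4, by rw [map_mul, map_mul, map_inv, S.k_σ_ψ, h5]⟩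
        have h6 := Ul_conj (hh' c) h3
        rwa [show g'⁻¹ * S.ψ (h c) * g' * (g'⁻¹ * y * g'⁻¹⁻¹) * (g'⁻¹ * S.ψ (h c) * g')⁻¹ =
          g'⁻¹ * (S.ψ (h c) * y * (S.ψ (h c))⁻¹) * g'⁻¹⁻¹ by group] at h6)
    intro y h3 h4 h5
    rw [← h1]
    refine (hQ' _).2 ⟨?_, h4, by rw [hσg, h5]⟩
    rwa [show g'⁻¹ * (g' * y * g'⁻¹) * g'⁻¹⁻¹ = y by group]
  let Z : ℝ → Submodule k (chevE7.Idx → k) := fun e =>
    Pi.spanSubset k (Sum.inr '' {r : Fin chevE7.nroots | Psi C g r ∧ bf γ (rv r) = e})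
  have hZ1 : ∀ e, ∀ z ∈ Z e, ∀ i, z i ≠ 0 → ∃ r : Fin chevE7.nroots, (Psi C g r ∧ bf γ (rv r) = e) ∧ Sum.inr r = i :=
    fun e z hz i hi => by
      by_contra hcon
      exact hi (Pi.mem_spanSubset_iff.1 hz i hcon)
  have hZ2 : ∀ e, Z e ≤ Lv k ac γ e := fun e z hz i hi => by
    obtain ⟨r, hr, rfl⟩ := hZ1 e z hz i hi
    exact hr.2
  have hYZ : ∀ e, finrank k ((Z e).map (toLin' (adM k l⁻¹))) =
      ((Finset.range 126).filter fun r => Psi C g r ∧ bf γ (rv r) = e).card := fun e => by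
    rw [← (Submodule.equivMapOfInjective (toLin' (adM k l⁻¹)) (Function.LeftInverse.injective
      (g := fun z => adM k l *ᵥ z) fun z => mulVec_inv' _ l z) (Z e)).finrank_eq, Pi.dim_spanSubset]
    exact ncard_inr fun r => Psi C g r ∧ bf γ (rv r) = e
  obtain ⟨d, hd, h3, h4⟩ := Top.core S.f (s := S.s) (fun x => by rw [S.frob, Nat.card_eq_fintype_card]) (β := γ) (Q := Q)
    inf_le_left
    (fun y hy => (hQ _).2 ⟨⟨emb_mem_Pl S.s hy.1.1, STri_iff.2 (by
        have h3 := (ld_zero.2 (STri_iff.1 hy.1.2)).frob S.s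
        rw [show (fun i => S.s ((0 : chevE7.Idx → k) i)) = 0 from funext fun _ => map_zero _] at h3
        exact ld_zero.1 h3)⟩, by rw [← hσg]; exact hDσ _ hy.2⟩)
    (fun e => (Z e).map (toLin' (adM k l⁻¹)))
    (by
      rintro e _ ⟨z, hz, rfl⟩
      exact levi_Lv (inv_mem hl) (hZ2 e hz))
    (fun e he y hy z hz h3 => by
      have h4 := (h3.conj_Ul hx (Lv_le_Ge hz)).conj h2 hl.1
      have h5 := levi_Lv hl hz
      refine ⟨adM k l *ᵥ z, Pi.mem_spanSubset_iff.2 fun i hi => ?_, mulVec_inv _ l z⟩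
      by_contra h0
      have h6 := h5 i h0
      rcases i with i | r
      · rw [ac_inl, cv_zero, map_zero] at h6
        exact he.ne h6
      refine hi ⟨r, ⟨fun t ht => ?_, h6⟩, rfl⟩
      have h7 := h4.conj h2 (Phi_mem_Pl γ t)
      have h8 : Phi k t * (l * (x * y * x⁻¹) * l⁻¹) * (Phi k t)⁻¹ = l * (x * y * x⁻¹) * l⁻¹ := by
        have h9 := ((hQ y).1 hy).2 _ ht
        rw [hg', e1] at h9
        calc _ = g⁻¹ * (g * Phi k t * g⁻¹ * (g * (l * x) * y * (g * (l * x))⁻¹)) * g * (Phi k t)⁻¹ := by group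
          _ = _ := by rw [h9]; group
      rw [h8] at h7
      have h9 := congrFun (h7.unique h4 (levi_Lv ⟨Phi_mem_Pl _ t, Phi_mem_Pl _ t⟩ h5) h5) (Sum.inr r)
      rw [wrep_L.tor, mulVec_diagonal] at h9
      exact Units.ext ((mul_eq_right₀ h0).1 h9))
    (by
      rintro e he _ ⟨z, hz, rfl⟩
      obtain ⟨y, hy, h3⟩ := exists_ld he (Lv_le_Ge (hZ2 e hz)) (T := Ul k γ ⊓ D.comap (MulAut.conj g).toMonoidHom)
        fun r hr t => by
          obtain ⟨s, hs, e2⟩ := hZ1 e z hz _ hr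
          obtain rfl := Sum.inr_injective e2
          refine ⟨xs_mem_Ul s.2 (hs.2 ▸ he) t, fun c hc => ?_⟩
          obtain ⟨t', rfl⟩ := hT c hc
          have h4 := Five.Phi_xs t' s.2 t
          rw [hs.1 t' hc, Units.val_one, one_mul] at h4
          show g * Phi k t' * g⁻¹ * (g * xs k s t * g⁻¹) = g * xs k s t * g⁻¹ * (g * Phi k t' * g⁻¹)
          nth_rewrite 2 [← h4]
          group
      refine ⟨_, (hQ _).2 ⟨Ul_conj (inv_mem hx.1) (Ul_conj (inv_mem hl.1) hy.1), ?_⟩,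
        (h3.conj h2 (inv_mem hl.1)).conj_Ul (inv_mem hx) (Lv_le_Ge (levi_Lv (inv_mem hl) (hZ2 e hz)))⟩
      rw [show g' * (x⁻¹ * (l⁻¹ * y * l⁻¹⁻¹) * x⁻¹⁻¹) * g'⁻¹ = g * y * g⁻¹ by rw [hg', e1]; group]
      exact hy.2)
    (fun t => g'⁻¹ * S.ψ (u t) * g')
    (fun s t e => S.ψ_u_inj (mul_left_cancel (mul_right_cancel e)))
    (fun y => ⟨fun hy => by
        obtain ⟨t, ht⟩ := hU y hy.1.1 hy.1.2 hy.2
        exact ⟨t, by rw [← ht]; group⟩, by
      rintro ⟨t, rfl⟩
      have h3 : g' * (g'⁻¹ * S.ψ (u t) * g') * g'⁻¹ = S.ψ (u t) := by group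
      refine ⟨(hQ _).2 ⟨hu' t, by rw [h3]; exact hDA _⟩, ?_⟩
      have h4 := hσg (g'⁻¹ * S.ψ (u t) * g')
      rw [h3, S.k_σ_ψ] at h4
      nth_rewrite 2 [h4]
      group⟩)
    ⟨1, fun h3 => S.ψ_u_ne one_ne_zero (by
      rw [show S.ψ (u 1) = g' * (g'⁻¹ * S.ψ (u 1) * g') * g'⁻¹ by group, h3, mul_one, mul_inv_cancel])⟩
    (fun d hd t ht h3 t' => by
      have h4 := S.U_le (Q := (Ud k γ d).comap (MulAut.conj g'⁻¹).toMonoidHom) (fun c y hy => by
          have h5 := Pl_conj_Ud hd (inv_mem (hh' c)) (show g'⁻¹ * y * g'⁻¹⁻¹ ∈ Ud k γ d from hy)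
          show g'⁻¹ * (S.ψ (h c) * y * (S.ψ (h c))⁻¹) * g'⁻¹⁻¹ ∈ Ud k γ d
          rwa [show (g'⁻¹ * S.ψ (h c) * g')⁻¹⁻¹ * (g'⁻¹ * y * g'⁻¹⁻¹) * (g'⁻¹ * S.ψ (h c) * g')⁻¹ =
            g'⁻¹ * (S.ψ (h c) * y * (S.ψ (h c))⁻¹) * g'⁻¹⁻¹ by group] at h5) (t := t)
        (by
          rintro rfl
          exact ht (by rw [H943.SL2Rel.u_zero, map_one, mul_one, inv_mul_cancel]))
        (by
          show g'⁻¹ * S.ψ (u t) * g'⁻¹⁻¹ ∈ Ud k γ d
          rwa [inv_inv]) ⟨t', rfl⟩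
      have h5 : g'⁻¹ * S.ψ (u t') * g'⁻¹⁻¹ ∈ Ud k γ d := h4
      rwa [inv_inv] at h5)
  have h5 : ∀ r < 126, Psi C g r → 0 < bf γ (rv r) → bf γ (rv r) = d := fun r hr h5 h6 => h3 _ h6 fun h0 => by
    have h7 := hYZ (bf γ (rv r))
    rw [h0, finrank_bot, eq_comm, Finset.card_eq_zero, Finset.filter_eq_empty_iff] at h7
    exact h7 (Finset.mem_range.2 hr) ⟨h5, rfl⟩
  refine ⟨d, hd, fun r hr h6 => ?_, ?_⟩
  · rcases lt_trichotomy 0 (bf γ (rv r)) with h7 | h7 | h7
    · exact Or.inr (Or.inl (h5 r hr h6 h7))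
    · exact Or.inl h7.symm
    · have h8 := h5 (125 - r) (by omega) (fun t ht => by rw [rtv_neg hr, h6 t ht, inv_one])
        (by rw [rv_neg hr, map_neg]; linarith only [h7])
      rw [rv_neg hr, map_neg] at h8
      exact Or.inr (Or.inr (by linarith only [h8]))
  · rw [hYZ, Nat.card_eq_fintype_card, S.cardK, S.cardF, ← pow_mul] at h4
    exact Nat.pow_right_injective S.prime.two_le h4

end Sit

end Cfsg.Agent.E7P
end

-- part: E7P/Rsl/Fam
section
/-!
# S5932: commuting rational `SL₂`'s in standard position (helper61)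

* `Fam k p ι` : the family with the properties which come from the maximal subgroup; `move`;
* `cent` : **CENT**; `lab_le` : the labels; `zV`, `zL` : isolated weights; `orth` : orthogonality.
-/

set_option autoImplicit false
set_option maxRecDepth 100000
set_option maxHeartbeats 400000

namespace Cfsg.Agent.E7P.Rsl

open Cfsg Cfsg.Lie Matrix Module
open Cfsg.Agent.H943.E7V.Block (D1 rho)
open Cfsg.Agent.R2.T1 Cfsg.Agent.E7P.Kf Cfsg.Agent.E7P.Br
open Cfsg.Agent.R2.PX (del)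
open Cfsg.Agent.H943.SL2Rel (u w h)
open Cfsg.Agent.ChevalleyStructure.RootVec (rt)

universe u

variable {k : Type u} [Field k]

theorem lev_cw (ζ : Fin 7 → ℤ) {r : ℕ} (hr : r < 126) : lev (nt_cw ζ) (rc r) = 2 * pc r ζ := nt_cw_root ζ hr

theorem lev_simple (l : Fin 7 → ℤ) (i : Fin 7) : (lev l (rc (chevE7.simple i)) : ℝ) = lE l i :=
  (lev_cast _ _).trans (bf_al _ _)

theorem lE_zero : lE 0 = 0 := by simp [lE]

theorem cw_eq_zero {ζ : Fin 7 → ℤ} (e : nt_cw ζ = 0) : ζ = 0 := by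
  funext i
  have h1 := lev_cw ζ (simple_lt7 i i.2)
  rw [e, nt_pc_simple] at h1
  simp only [lev, Pi.zero_apply, mul_zero, Finset.sum_const_zero] at h1
  show ζ i = 0
  omega

theorem chk_form : ∀ i < 7, ∀ j < 7, (R2.PX.W56.map fun s => chevE8.cartan i s * chevE8.cartan j s).sum =
    12 * chevE7.cartan i (chevE7.simple j) := by (rewrite [Cfsg.Agent.ChevFast.E7.cartan, Cfsg.Agent.ChevFast.E8.cartan]; decide +kernel)

/-- the invariant form as a sum over the weights -/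
theorem sum_form (x y : Kf.E) : ∑ s, bf x (wv s) * bf y (wv s) = 12 * bf x y := by
  have h1 : ∀ x : Kf.E, ∃ c : Fin 7 → ℝ, x = ∑ i, c i • al i := fun x => ⟨fun i => bf x (Pi.single i 1), funext fun j => by
    rw [Finset.sum_apply, ← bf_al x j]
    conv_lhs => rw [pi_eq_sum_univ' (al j), map_sum]
    refine Finset.sum_congr rfl fun i _ => ?_
    rw [map_smul, Pi.smul_apply, smul_eq_mul, smul_eq_mul, mul_comm, ← bf_al (al j), bf_symm (al j), bf_al]⟩
  have h2 : ∀ i j, ∑ s, bf (al i) (wv s) * bf (al j) (wv s) = 12 * bf (al i) (al j) := fun i j => by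
    have h3 := (R2.PX.sumD1 fun s => chevE8.cartan i s * chevE8.cartan j s).trans (chk_form i i.2 j j.2)
    simp only [bf_symm (al _) (wv _), bf_al]
    rw [← bf_al (al i), bf_symm, bf_al]
    have h4 := congrArg (Int.cast : ℤ → ℝ) h3
    push_cast at h4
    exact h4
  obtain ⟨c, rfl⟩ := h1 x
  obtain ⟨d, rfl⟩ := h1 y
  simp only [map_sum, map_smul, LinearMap.sum_apply, LinearMap.smul_apply, smul_eq_mul, Finset.sum_mul, Finset.mul_sum]
  rw [Finset.sum_comm]
  refine Finset.sum_congr rfl fun j _ => ?_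
  rw [Finset.sum_comm]
  refine Finset.sum_congr rfl fun i _ => ?_
  rw [mul_left_comm (12 : ℝ), mul_left_comm (12 : ℝ), ← h2, Finset.mul_sum, Finset.mul_sum]
  exact Finset.sum_congr rfl fun s _ => by ring

/-- isolated weights do not occur -/
theorem Rep2.exists_nb [Infinite k] {I : Type*} [Fintype I] [DecidableEq I] (A : Rep2 k I) (h2 : (2 : k) ≠ 0) {s : I}
    (hs : (A.n s : k) ≠ 0) : ∃ s', (A.E s' s ≠ 0 ∧ A.n s' = A.n s + 2) ∨ (A.F s' s ≠ 0 ∧ A.n s' = A.n s - 2) := by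
  by_contra hc
  simp only [not_exists, not_or, not_and] at hc
  have h1 := Rep2.f4 h2 hs (A.single_mem s 1) (funext fun a => by
    rw [mulVec_single_one]
    by_contra e
    exact (hc a).1 e (Rep2.E_wt e)) (funext fun a => by
    rw [mulVec_single_one]
    by_contra e
    exact (hc a).2 e (Rep2.F_wt e))
  exact one_ne_zero ((Pi.single_eq_same s 1).symm.trans (congrFun h1 s))

/-- the centraliser of a rational `SL₂` is orthogonal to its torus -/
theorem Std.orth [Infinite k] (X : Std k) {β : Kf.E} (h1 : X.Ξ w ∈ Pl k β) (h2 : X.Ξ w ∈ Pl k (-β)) : bf β (lE X.l) = 0 := by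
  obtain ⟨π, hπ⟩ := exists_perm (rho k) (X.Ξ w)
  have h3 := sum_form β (lE X.l)
  have h4 := h3
  rw [← Equiv.sum_comp π, Finset.sum_congr rfl (g := fun s => -(bf β (wv s) * bf (lE X.l) (wv s))) fun s _ => ?_,
    Finset.sum_neg_distrib, h4] at h3
  · linarith
  · have h5 := wrep_V.tri h1 _ _ (hπ s)
    have h6 := wrep_V.tri h2 _ _ (hπ s)
    have h7 := Rep2.w_wt (A := X.V) (hπ s)
    rw [map_neg, LinearMap.neg_apply, LinearMap.neg_apply, neg_le_neg_iff] at h6
    rw [X.V_n, X.V_n] at h7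
    rw [wv, wv, le_antisymm h6 h5, ← lev_cast, ← lev_cast, h7, Int.cast_neg, mul_neg]

/-- **commuting rational `SL₂`'s** -/
structure Fam (k : Type u) [Field k] (p : ℕ) (ι : Type) where
  X : ι → Std k
  prime : p.Prime
  char : CharP k p
  comm : ∀ i j, i ≠ j → ∀ x y, (X i).Ξ x * (X j).Ξ y = (X j).Ξ y * (X i).Ξ x
  conj : ∀ i j, ∃ v, lE (X j).l = wL v (lE (X i).l)
  pt : ∀ c, (∀ i, adM k c *ᵥ (X i).e = (X i).e) → (∀ i, adM k c *ᵥ (X i).f = (X i).f) → c ^ p = 1 → c = 1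
  irr : ∀ g β, (∀ i x, g⁻¹ * (X i).Ξ x * g ∈ Pl k β) → β = 0
  fixV : ∀ y, (∀ i x, rho k ((X i).Ξ x) *ᵥ y = y) → y = 0
  fixL : ∀ y, (∀ i x, adM k ((X i).Ξ x) *ᵥ y = y) → y = 0

namespace Fam

variable {p : ℕ} {ι : Type} (Y : Fam k p ι) [Infinite k]

theorem move_tw (X : Std k) (v : List (Fin 7)) (x : _root_.Matrix.SpecialLinearGroup (Fin 2) k) :
    nL k v * X.Ξ x = (X.move v).Ξ x * nL k v := by rw [X.move_Ξ, inv_mul_cancel_right]

omit [Infinite k] in
theorem move_fix {I : Type*} [Fintype I] [DecidableEq I] (R : Gh k →* Matrix I I k) {n x : Gh k} {y : I → k}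
    (e : R (n * x * n⁻¹) *ᵥ y = y) : R x *ᵥ R n⁻¹ *ᵥ y = R n⁻¹ *ᵥ y := by
  conv_rhs => rw [← e, mulVec_mul, mulVec_mul, mulVec_inv]

/-- the conjugate under an element of the Weyl group -/
noncomputable def move (v : List (Fin 7)) : Fam k p ι where
  X i := (Y.X i).move v
  prime := Y.prime
  char := Y.char
  comm i j hij x y := by
    rw [Std.move_Ξ, Std.move_Ξ, conj_mul, conj_mul, Y.comm i j hij]
  conj i j := by
    obtain ⟨v', hv⟩ := Y.conj i j
    exact ⟨v ++ (v' ++ v.reverse), by rw [Std.move_l, Std.move_l, wL_append, wL_append, wL_rev, hv]⟩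
  pt c h1 h2 hc := by
    have h3 := Y.pt ((nL k v)⁻¹ * c * nL k v) (fun i => by
      rw [mulVec_mul, mulVec_mul, Std.tw_e (move_tw _ v), h1, ← Std.tw_e (move_tw _ v), mulVec_inv]) (fun i => by
      rw [mulVec_mul, mulVec_mul, Std.tw_f (move_tw _ v), h2, ← Std.tw_f (move_tw _ v), mulVec_inv]) (by
      rw [← inv_inv (nL k v), inv_inv (nL k v)⁻¹, conj_pow, hc, mul_one, mul_inv_cancel])
    rwa [← inv_inv (nL k v), inv_inv (nL k v)⁻¹, conj_eq_one_iff] at h3
  irr g β hβ := Y.irr ((nL k v)⁻¹ * g) β fun i x => by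
    have h1 := hβ i x
    rw [Std.move_Ξ] at h1
    rwa [_root_.mul_inv_rev, inv_inv, ← mul_assoc, mul_assoc g⁻¹, mul_assoc g⁻¹]
  fixV y hy := by
    rw [← mulVec_inv' (rho k) (nL k v) y, Y.fixV _ fun i x => move_fix _ (hy i x), mulVec_zero]
  fixL y hy := by
    rw [← mulVec_inv' (adM k) (nL k v) y, Y.fixL _ fun i x => move_fix _ (hy i x), mulVec_zero]

theorem move_l (v : List (Fin 7)) (i : ι) : lE ((Y.move v).X i).l = wL v (lE (Y.X i).l) := (Y.X i).move_l v

omit [Infinite k] in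
theorem norm (i j : ι) : bf (lE (Y.X i).l) (lE (Y.X i).l) = bf (lE (Y.X j).l) (lE (Y.X j).l) := by
  obtain ⟨v, hv⟩ := Y.conj i j
  rw [hv, wL_iso]

variable {Y}

theorem fix_sp {i j : ι} (hij : i ≠ j) (x : _root_.Matrix.SpecialLinearGroup (Fin 2) k) : ∀ z ∈ (Y.X j).sp, adM k ((Y.X i).Ξ x) *ᵥ z = z :=
  Std.fix_sp (Std.tw_e (Y.comm i j hij x)) (Std.tw_f (Y.comm i j hij x))

theorem sp_le_Wt {i j : ι} (hij : i ≠ j) : (Y.X j).sp ≤ (Y.X i).L.Wt 0 := fun z hz =>
  Rep2.mem_Wt_of_h fun c => by rw [zpow_zero, Units.val_one, one_smul]; exact fix_sp hij _ z hz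

omit [Infinite k] in
theorem pt_Ul {β : Kf.E} {y : Gh k} (hy : y ∈ Ul k β) (h1 : ∀ i, ∀ z ∈ (Y.X i).sp, adM k y *ᵥ z = z) : y = 1 := by
  by_contra h0
  have := Y.char
  obtain ⟨n, h2, h3⟩ := Lb.exists_pow_p Y.prime hy h0
  have h4 : ∀ i, ∀ z ∈ (Y.X i).sp, adM k (y ^ n) *ᵥ z = z := fun i z hz => by
    induction n with
    | zero => rw [pow_zero, map_one, one_mulVec]
    | succ n ih =>
      clear ih h2 h3
      induction n with
      | zero => rw [zero_add, pow_one, h1 i z hz]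
      | succ n ih => rw [pow_succ, mulVec_mul, h1 i z hz, ih]
  exact h2 (Y.pt _ (fun i => h4 i _ (Y.X i).e_mem_sp) (fun i => h4 i _ (Y.X i).f_mem_sp) h3)

/-- a toral element which fixes the Lie algebra of the family centralises the family -/
theorem comm_of_fix {t : Fin chevE7.rank → kˣ} (ht : ∀ i, ∀ z ∈ (Y.X i).sp, adM k (Phi k t) *ᵥ z = z) (i : ι)
    (x : _root_.Matrix.SpecialLinearGroup (Fin 2) k) : (Y.X i).Ξ x * Phi k t = Phi k t * (Y.X i).Ξ x := by
  have key : ∀ β x, (Y.X i).Ξ x ∈ Ul k β → (Y.X i).Ξ x * Phi k t = Phi k t * (Y.X i).Ξ x := fun β x hx => by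
    have h1 := pt_Ul (Y := Y) (mul_mem (Ul_conj (Phi_mem_Pl β t) hx) (inv_mem hx)) fun j z hz => by
      have h2 : adM k ((Y.X i).Ξ x)⁻¹ *ᵥ z ∈ (Y.X j).sp := by
        rw [← map_inv]
        by_cases e : i = j
        · exact e ▸ (Y.X i).sp_stab _ _ (e ▸ hz)
        · rwa [fix_sp e _ z hz]
      rw [mulVec_mul, mulVec_mul, mulVec_mul, ← ht j _ h2, mulVec_inv, mulVec_inv', ht j z hz]
    rw [mul_inv_eq_one, mul_inv_eq_iff_eq_mul] at h1
    exact h1.symm
  exact mem_of_uv (T := (Subgroup.centralizer {Phi k t}).comap (Y.X i).Ξ)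
    (fun s => Subgroup.mem_centralizer_singleton_iff.2 (key _ _ ((Y.X i).u_mem_Ul' s)))
    (fun s => Subgroup.mem_centralizer_singleton_iff.2 (key _ _ ((Y.X i).op.u_mem_Ul' (-s)))) x |>
    Subgroup.mem_centralizer_singleton_iff.1

variable (Y) in
/-- **CENT**, for the supports -/
theorem cent0 {ν : Fin 7 → ℤ} (he : ∀ i (r : Fin chevE7.nroots), (Y.X i).e (Sum.inr r) ≠ 0 → lev ν (rc r) = 0)
    (hf : ∀ i (r : Fin chevE7.nroots), (Y.X i).f (Sum.inr r) ≠ 0 → lev ν (rc r) = 0) : ν = 0 := by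
  have h1 : ∀ z i, ∀ y ∈ (Y.X i).sp, adM k (Phi k (lam ν z)) *ᵥ y = y := fun z i => by
    have key : ∀ y : chevE7.Idx → k, (∀ r : Fin chevE7.nroots, y (Sum.inr r) ≠ 0 → lev ν (rc r) = 0) →
        adM k (Phi k (lam ν z)) *ᵥ y = y := fun y hy => by
      funext a
      rw [tor_lam wrep_L, mulVec_diagonal]
      by_cases e : y a = 0
      · rw [e, mul_zero]
      · rw [show lev ν (ac a) = 0 by
          rcases a with a | r
          · exact lev_zero _
          · exact hy r e, zpow_zero, Units.val_one, one_mul]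
    exact Std.fix_sp (key _ (he i)) (key _ (hf i))
  refine nt_lE_inj ((Y.irr 1 _ fun i x => ?_).trans lE_zero.symm)
  rw [inv_one, one_mul, mul_one]
  exact (En1.Pl_of_hm (En1.hm_of_comm wrep_V fun z => comm_of_fix (h1 z) i x)).1

variable (Y) in
/-- **CENT** -/
theorem cent {ν : Fin 7 → ℤ} (hν : ∀ i, ∀ r < 126, lev (Y.X i).l (rc r) = 2 → (∀ j, j ≠ i → lev (Y.X j).l (rc r) = 0) →
    lev ν (rc r) = 0) : ν = 0 := by
  refine Y.cent0 (fun i r ha => hν i r r.2 ((Y.X i).e_mem _ ha) fun j hj => sp_le_Wt hj (Y.X i).e_mem_sp _ ha)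
    fun i r ha => ?_
  have h2 := hν i (125 - r) (by omega) (by
    rw [rc_neg r.2, lev_neg, neg_eq_iff_eq_neg]; exact (Y.X i).f_mem _ ha) fun j hj => by
    rw [rc_neg r.2, lev_neg, neg_eq_zero]; exact sp_le_Wt hj (Y.X i).f_mem_sp _ ha
  rwa [rc_neg r.2, lev_neg, neg_eq_zero] at h2

variable (Y) in
/-- **CENT** for coweights -/
theorem cent' {ζ : Fin 7 → ℤ} (hζ : ∀ i, ∀ r < 126, lev (Y.X i).l (rc r) = 2 → (∀ j, j ≠ i → lev (Y.X j).l (rc r) = 0) →
    pc r ζ = 0) : ζ = 0 :=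
  cw_eq_zero (Y.cent fun i r hr h1 h2 => by rw [lev_cw _ hr, hζ i r hr h1 h2, mul_zero])

variable (Y) in
/-- the labels of a dominant vector which is small on the supports -/
theorem lab_le {β : Kf.E} (hβ : Dom β) {d : ℝ} (hd : ∀ i, ∀ r < 126, lev (Y.X i).l (rc r) = 2 →
    (∀ j, j ≠ i → lev (Y.X j).l (rc r) = 0) → |bf β (rv r)| ≤ d) (j : Fin 7) : β j ≤ d := by
  by_contra hc
  have h1 := Y.cent' (ζ := Pi.single j 1) fun i r hr h1 h2 => by
    have h3 := abs_le.1 (hd i r hr h1 h2)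
    rw [pc, Finset.sum_eq_single j (fun b _ hb => by rw [Pi.single_eq_of_ne hb, mul_zero])
      (fun e => absurd (Finset.mem_univ _) e), Pi.single_eq_same, mul_one]
    rw [bf_rv _ hr] at h3
    by_contra h0
    by_cases h63 : 63 ≤ r
    · have h4 := (chk_pos r hr).2.1 h63
      have h5 := Finset.single_le_sum (f := fun i : Fin 7 => β i * (rt chevE7 r i : ℝ))
        (fun i _ => mul_nonneg (hβ i) (by exact_mod_cast h4 i i.2)) (Finset.mem_univ j)
      have h6 : (1 : ℝ) ≤ rt chevE7 r j := by exact_mod_cast (by have := h4 j j.2; omega)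
      nlinarith only [hc, h3, h5, h6]
    · have h4 := (chk_pos r hr).2.2 (by omega)
      have h5 := Finset.single_le_sum (f := fun i : Fin 7 => -(β i * (rt chevE7 r i : ℝ)))
        (fun i _ => neg_nonneg.2 (mul_nonpos_of_nonneg_of_nonpos (hβ i) (by exact_mod_cast h4 i i.2))) (Finset.mem_univ j)
      have h6 : (rt chevE7 r j : ℝ) ≤ -1 := by exact_mod_cast (by have := h4 j j.2; omega)
      rw [Finset.sum_neg_distrib] at h5
      nlinarith only [hc, h3, h5, h6]
  have h2 := congrFun h1 j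
  rw [Pi.single_eq_same] at h2
  exact one_ne_zero h2

variable (Y) in
theorem lab_le_two {i : ι} (hi : Dom (lE (Y.X i).l)) (j : Fin 7) : lev (Y.X i).l (rc (chevE7.simple j)) ≤ 2 := by
  have h1 := Y.lab_le hi (d := 2) (fun a r _ h1 h2 => by
    rw [rv, ← lev_cast]
    by_cases e : i = a
    · rw [e, h1]; norm_num
    · rw [h2 i e]; norm_num) j
  rw [← lev_simple] at h1
  exact_mod_cast h1

section
variable {I : Type*} [Fintype I] [DecidableEq I] (A : ι → Rep2 k I)
  (hA : ∀ i j, i ≠ j → ∀ x y, (A i).R x * (A j).R y = (A j).R y * (A i).R x)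
include hA

theorem E_keep {i j : ι} (hij : i ≠ j) {a b : I} (e : (A i).E a b ≠ 0) : (A j).n a = (A j).n b :=
  Rep2.wt_of_comm (fun z => (Rep2.comm_E fun x => hA j i hij.symm (h z) x).symm) e

theorem F_keep {i j : ι} (hij : i ≠ j) {a b : I} (e : (A i).F a b ≠ 0) : (A j).n a = (A j).n b :=
  Rep2.wt_of_comm (fun z => (Rep2.comm_F fun x => hA j i hij.symm (h z) x).symm) e

theorem exists_nb (h2 : (2 : k) ≠ 0) {i : ι} {s : I} (hs : ((A i).n s : k) ≠ 0) :
    ∃ s', (∀ j, j ≠ i → (A j).n s' = (A j).n s) ∧ ((A i).n s' = (A i).n s + 2 ∨ (A i).n s' = (A i).n s - 2) := by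
  obtain ⟨s', h1 | h1⟩ := (A i).exists_nb h2 hs
  · exact ⟨s', fun j hj => E_keep A hA hj.symm h1.1, Or.inl h1.2⟩
  · exact ⟨s', fun j hj => F_keep A hA hj.symm h1.1, Or.inr h1.2⟩

end

variable (Y)

omit [Infinite k] in
theorem comm_V (i j : ι) (hij : i ≠ j) (x y : _root_.Matrix.SpecialLinearGroup (Fin 2) k) :
    (Y.X i).V.R x * (Y.X j).V.R y = (Y.X j).V.R y * (Y.X i).V.R x := Std.tw_R (Y.comm i j hij x) (rho k) y

omit [Infinite k] in
theorem comm_L (i j : ι) (hij : i ≠ j) (x y : _root_.Matrix.SpecialLinearGroup (Fin 2) k) :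
    (Y.X i).L.R x * (Y.X j).L.R y = (Y.X j).L.R y * (Y.X i).L.R x := Std.tw_R (Y.comm i j hij x) (adM k) y

/-- isolated weights of `V` -/
theorem zV {i : ι} {s : D1} (hs : (lev (Y.X i).l (wc s) : k) ≠ 0) :
    ∃ s', (∀ j, j ≠ i → lev (Y.X j).l (wc s') = lev (Y.X j).l (wc s)) ∧
      (lev (Y.X i).l (wc s') = lev (Y.X i).l (wc s) + 2 ∨ lev (Y.X i).l (wc s') = lev (Y.X i).l (wc s) - 2) :=
  exists_nb (fun i => (Y.X i).V) Y.comm_V (Y.X i).two hs

/-- isolated weights of `g` -/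
theorem zL {i : ι} {s : chevE7.Idx} (hs : (lev (Y.X i).l (ac s) : k) ≠ 0) :
    ∃ s', (∀ j, j ≠ i → lev (Y.X j).l (ac s') = lev (Y.X j).l (ac s)) ∧
      (lev (Y.X i).l (ac s') = lev (Y.X i).l (ac s) + 2 ∨ lev (Y.X i).l (ac s') = lev (Y.X i).l (ac s) - 2) :=
  exists_nb (fun i => (Y.X i).L) Y.comm_L (Y.X i).two hs

theorem mem_Pl {i j : ι} (hij : i ≠ j) (x : _root_.Matrix.SpecialLinearGroup (Fin 2) k) :
    (Y.X j).Ξ x ∈ Pl k (lE (Y.X i).l) ∧ (Y.X j).Ξ x ∈ Pl k (-lE (Y.X i).l) :=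
  En1.Pl_of_hm (En1.hm_of_comm wrep_V fun z => by rw [← (Y.X i).tor, Y.comm i j hij])

theorem orth {i j : ι} (hij : i ≠ j) : bf (lE (Y.X i).l) (lE (Y.X j).l) = 0 :=
  (Y.X j).orth (Y.mem_Pl hij w).1 (Y.mem_Pl hij w).2

/-- the other cocharacters lie in the derived subgroup of the Levi subgroup -/
theorem coord_eq_zero {i j : ι} (hij : i ≠ j) (hi : Dom (lE (Y.X i).l)) {a : Fin 7} (ha : lE (Y.X i).l a ≠ 0) :
    (Y.X j).l a = 0 := by
  have h0 : Dom (cv (Pi.single a 1)) := fun b => by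
    rw [cv, Int.cast_nonneg_iff]
    by_cases e : b = a
    · rw [e, Pi.single_eq_same]
      exact zero_le_one
    · rw [Pi.single_eq_of_ne e]
  have h1 : ∀ b, lE (Y.X i).l b = 0 → cv (Pi.single a 1) b = 0 := fun b hb => by
    rw [cv, Pi.single_eq_of_ne fun e : b = a => ha (e ▸ hb), Int.cast_zero]
  have h2 := (Y.X j).orth (Pl_le_of_supp hi h0 h1 (Y.mem_Pl hij w).1) (Pl_mono (fun r hr h3 => ?_) (Y.mem_Pl hij w).2)
  · rw [bf_symm, bf_lE, Finset.sum_eq_single a (fun b _ hb => by rw [Pi.single_eq_of_ne hb, zero_mul])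
      (fun e => absurd (Finset.mem_univ _) e), Pi.single_eq_same, one_mul] at h2
    exact_mod_cast h2
  · rw [map_neg, LinearMap.neg_apply, neg_nonneg] at h3 ⊢
    by_cases h63 : 63 ≤ r
    · rw [bf_rv _ hr] at h3 ⊢
      have h4 := (chk_pos r hr).2.1 h63
      have h5 := (Finset.sum_eq_zero_iff_of_nonneg fun b _ => mul_nonneg (hi b) (by exact_mod_cast h4 b b.2)).1
        (le_antisymm h3 (Finset.sum_nonneg fun b _ => mul_nonneg (hi b) (by exact_mod_cast h4 b b.2)))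
      refine (Finset.sum_eq_zero fun b _ => ?_).le
      rcases mul_eq_zero.1 (h5 b (Finset.mem_univ _)) with e | e
      · rw [h1 b e, zero_mul]
      · rw [e, mul_zero]
    · exact h0.neg (by omega)

end Fam

end Cfsg.Agent.E7P.Rsl
end

private theorem dce_a5efe2d4efdb : _root_.True := by
  try have : _root_.True := by simp only [_root_.Cfsg.Agent.E7P.Top.Ld.eq_1]
  exact _root_.True.intro
end

-- part: E7P/Nt/Stb
section
prune_inst 0x314079045222020000180004f200221008000402104088004020000c0109a064a54100410820151a08180c00000001481110002042c000000e1c04000001000088c0000020404115060098800008410000008040000000000000000000000004000000000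
set_option linter.all false
open scoped Cfsg.Agent.FastGrp

/-!
# S5932: centralisers and annihilators, the exponent of pointwise stabilisers (helper9)

* `Kf.nt_cen W`, `Kf.nt_ann W`, `Kf.nt_ker C` : centraliser, annihilator, kernel; `Sit.nt_stb_cen/ann/ker` : they are stable;
* `Sit.nt_Fx_σ`, `Sit.nt_Fx_M` : pointwise stabilisers are normalised;
* `Sit.nt_expo`, `nt_expo_V`, `nt_expo_L` : **EXPO**.
-/

set_option autoImplicit false
set_option maxRecDepth 100000

namespace Cfsg.Agent.E7P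

open Cfsg Cfsg.Lie Matrix Module
open Cfsg.Agent.H943.E7V.Block (D1 rho)
open Cfsg.Agent.R2.T1 Cfsg.Agent.E7P.Kf
open Cfsg.Agent.R2.PX (del)
open Cfsg.Agent.E7P.La (Jd eqv wval)

universe u v

namespace Kf

variable {K : Type u} [Field K]

theorem nt_cm_symm {x y : chevE7.Idx → K} (h : Cm x y) : Cm y x := Eq.symm h

/-- the centraliser in the Lie algebra -/
def nt_cen (W : Submodule K (chevE7.Idx → K)) : Submodule K (chevE7.Idx → K) where
  carrier := {x | ∀ w ∈ W, Cm x w}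
  zero_mem' := fun w _ => by
    show del K 0 * _ = _ * del K 0
    rw [map_zero, zero_mul, mul_zero]
  add_mem' := fun {x y} hx hy w hw => by
    show del K (x + y) * _ = _ * del K (x + y)
    rw [map_add, add_mul, mul_add, show del K x * del K w = _ from hx w hw, show del K y * del K w = _ from hy w hw]
  smul_mem' := fun t x hx w hw => by
    show del K (t • x) * _ = _ * del K (t • x)
    rw [map_smul, smul_mul_assoc, mul_smul_comm, show del K x * del K w = _ from hx w hw]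

/-- the annihilator in the Lie algebra -/
def nt_ann (W : Submodule K (D1 → K)) : Submodule K (chevE7.Idx → K) where
  carrier := {x | ∀ w ∈ W, del K x *ᵥ w = 0}
  zero_mem' := fun w _ => by rw [map_zero, zero_mulVec]
  add_mem' := fun hx hy w hw => by rw [map_add, add_mulVec, hx w hw, hy w hw, add_zero]
  smul_mem' := fun t x hx w hw => by rw [map_smul, smul_mulVec, hx w hw, smul_zero]

/-- the common kernel in `V` -/
def nt_ker (C : Submodule K (chevE7.Idx → K)) : Submodule K (D1 → K) where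
  carrier := {w | ∀ x ∈ C, del K x *ᵥ w = 0}
  zero_mem' := fun _ _ => mulVec_zero _
  add_mem' := fun hv hw x hx => by rw [mulVec_add, hv x hx, hw x hx, add_zero]
  smul_mem' := fun t v hv x hx => by rw [mulVec_smul, hv x hx, smul_zero]

theorem nt_del_rho (h2 : (2 : K) ≠ 0) (g : Gh K) (x : chevE7.Idx → K) (w : D1 → K) :
    del K (adM K g *ᵥ x) *ᵥ (rho K g *ᵥ w) = rho K g *ᵥ (del K x *ᵥ w) := by
  rw [mulVec_mulVec, mulVec_mulVec, R2.PX.del_equi h2]

theorem nt_cen_br {W : Submodule K (chevE7.Idx → K)} {x y z : chevE7.Idx → K} (hx : x ∈ nt_cen W) (hy : y ∈ nt_cen W)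
    (h : del K z = del K x * del K y - del K y * del K x) : z ∈ nt_cen W := fun w hw => by
  have h1 : Commute (del K x) (del K w) := hx w hw
  have h3 : Commute (del K y) (del K w) := hy w hw
  show Commute (del K z) (del K w)
  rw [h]
  exact (h1.mul_left h3).sub_left (h3.mul_left h1)

theorem nt_cen_jd (h2 : (2 : K) ≠ 0) {W : Submodule K (chevE7.Idx → K)} {x s z : chevE7.Idx → K} (hx : x ∈ nt_cen W)
    (h : Jd x s z) : z ∈ nt_cen W := fun w hw => nt_cm_symm (h.cm_of (eqv h2) (nt_cm_symm (hx w hw))).2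

theorem nt_rval_tv (r : ℕ) (l : Fin 7 → K) : rval r (tv l) = ∑ i : Fin 7, l i * (rc r i : K) :=
  Finset.sum_congr rfl fun _ _ => mul_comm _ _

theorem nt_wval_root (l : Fin 7 → K) {r : ℕ} (hr : r < 126) {a b : D1} {c : ℤ} (h : mv r (nn b) = some (nn a, c)) :
    wval l a = wval l b + rval r (tv l) := by
  rw [wval, wval, nt_rval_tv, wc_add hr h, ← Finset.sum_add_distrib]
  exact Finset.sum_congr rfl fun i _ => by rw [Pi.add_apply, Int.cast_add, mul_add]

/-- the support of an element which commutes with a toral element -/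
theorem nt_cm_tv {l : Fin 7 → K} {x : chevE7.Idx → K} :
    Cm (tv l) x ↔ ∀ r : Fin chevE7.nroots, x (Sum.inr r) ≠ 0 → rval r (tv l) = 0 := by
  constructor
  · intro h r hr
    obtain ⟨a, b, c, h1, h2⟩ := R2.PX.Tr.exists_entry (show (r : ℕ) < 126 from r.2)
    have h3 := congrFun (congrFun h a) b
    rw [La.del_tv, mul_diagonal, diagonal_mul, Mu.del_entry x r.2 h1, nt_wval_root l r.2 h1] at h3
    have h4 : rval r (tv l) * (x (Sum.inr r) * c) = 0 := by linear_combination h3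
    exact (mul_eq_zero.1 h4).resolve_right (mul_ne_zero hr (cast_ne h2))
  · intro h
    have h1 : del K x = del K (La.tp x) + del K (x - La.tp x) := by rw [← map_add, add_sub_cancel]
    have h2 : Commute (del K (tv l)) (del K (x - La.tp x)) := by
      rw [La.del_root (z := x - La.tp x) fun _ => sub_self _]
      refine Commute.sum_right _ _ _ fun r _ => ?_
      rw [Pi.sub_apply, La.tp, tv_inr, sub_zero]
      by_cases e : x (Sum.inr r) = 0
      · rw [e, zero_smul]; exact Commute.zero_right _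
      · refine Commute.smul_right (sub_eq_zero.1 ?_) _
        rw [La.tv_NM l r.2, h r e, zero_smul]
    show Commute (del K (tv l)) (del K x)
    rw [h1]
    exact Commute.add_right (La.cm_tv l _) h2

theorem nt_xs_pow {p : ℕ} [CharP K p] (r : ℕ) (t : K) : xs K r t ^ p = 1 := by
  have h1 : ∀ n : ℕ, xs K r t ^ n = xs K r (n * t) := by
    intro n
    induction n with
    | zero => rw [pow_zero, Nat.cast_zero, zero_mul, xs_zero]
    | succ n ih => rw [pow_succ, ih, xs_mul, Nat.cast_succ, add_mul, one_mul]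
  rw [h1, CharP.cast_eq_zero, zero_mul, xs_zero]

theorem nt_xs_ne {r : ℕ} (hr : r < 126) : xs K r 1 ≠ 1 := fun h => by
  obtain ⟨i, j, hij⟩ := exists_NM_ne (K := K) hr
  have h1 := rho_xs' hr (1 : K)
  rw [h, map_one, one_smul, left_eq_add] at h1
  exact hij (by rw [h1]; rfl)

/-- seven weights with non-zero determinant -/
theorem nt_exists_det {I : Type*} (c : I → Fin 7 → ℤ) (Ω : Set I)
    (h : ∀ l : Fin 7 → K, (∀ i ∈ Ω, ∑ j, l j * (c i j : K) = 0) → l = 0) :
    ∃ f : Fin 7 → I, (∀ t, f t ∈ Ω) ∧ ((det (Matrix.of fun t j => c (f t) j) : ℤ) : K) ≠ 0 := by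
  classical
  let v : I → Fin 7 → K := fun i j => (c i j : K)
  have hspan : Submodule.span K (v '' Ω) = ⊤ := by
    by_contra hne
    obtain ⟨φ, h0, h1⟩ := Submodule.exists_le_ker_of_lt_top _ (lt_top_iff_ne_top.2 hne)
    refine h0 (LinearMap.pi_ext' fun j => LinearMap.ext_ring ?_)
    exact congrFun (h (fun j => φ (Pi.single j 1)) fun i hi => by
      have h2 : φ (v i) = 0 := h1 (Submodule.subset_span ⟨i, hi, rfl⟩)
      rw [pi_eq_sum_univ' (v i), map_sum] at h2
      rw [← h2]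
      exact Finset.sum_congr rfl fun j _ => by rw [map_smul, smul_eq_mul, mul_comm]) j
  obtain ⟨T, hT, hsp, hli⟩ := exists_linearIndependent K (v '' Ω)
  rw [hspan] at hsp
  let B : Basis T K (Fin 7 → K) := Basis.mk hli (by rw [Subtype.range_coe, hsp])
  have : Fintype T := FiniteDimensional.fintypeBasisIndex B
  let e : Fin 7 ≃ T := Fintype.equivOfCardEq (by rw [← finrank_eq_card_basis B, finrank_fintype_fun_eq_card])
  choose f hf using fun t : Fin 7 => hT (e t).2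
  refine ⟨f, fun t => (hf t).1, ?_⟩
  have h1 : LinearIndependent K (Matrix.of fun t j => v (f t) j).row := by
    have h2 : (Matrix.of fun t j => v (f t) j).row = Subtype.val ∘ e := funext fun t => (hf t).2
    rw [h2]
    exact hli.comp e e.injective
  have h2 := (isUnit_iff_isUnit_det _).1 (linearIndependent_rows_iff_isUnit.1 h1)
  rw [show ((det (Matrix.of fun t j => c (f t) j) : ℤ) : K) = det (Matrix.of fun t j => v (f t) j) from
    (Int.castRingHom K).map_det _]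
  exact h2.ne_zero

theorem nt_pow_det (A : Matrix (Fin 7) (Fin 7) ℤ) {t : Fin chevE7.rank → Kˣ} (h : ∀ s, ch (A s) t = 1) :
    t ^ A.det.natAbs = 1 := by
  have key : ∀ j : Fin 7, t j ^ A.det.natAbs = 1 := by
    intro j
    have h1 : ∑ s, adjugate A j s • A s = A.det • (Pi.single j 1 : Fin 7 → ℤ) := by
      funext i
      have h2 : (adjugate A * A) j i = (A.det • (1 : Matrix (Fin 7) (Fin 7) ℤ)) j i := by rw [adjugate_mul]
      rw [Matrix.mul_apply, Matrix.smul_apply, one_apply] at h2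
      rw [Finset.sum_apply, Pi.smul_apply, Pi.single_apply, if_congr eq_comm rfl rfl]
      exact h2
    have h2 : ch (Pi.single j 1 : Fin 7 → ℤ) t = t j := by
      show ∏ i : Fin 7, t i ^ (Pi.single j 1 : Fin 7 → ℤ) i = t j
      rw [Finset.prod_eq_single j]
      · rw [Pi.single_eq_same, zpow_one]
      · intro i _ hi
        rw [Pi.single_eq_of_ne hi, zpow_zero]
      · intro hj
        exact absurd (Finset.mem_univ _) hj
    have h3 : 1 = t j ^ A.det := by
      rw [← h2, ← ch_zsmul, ← h1, ch_sum]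
      exact (Finset.prod_eq_one fun s _ => by rw [ch_zsmul, h, _root_.one_zpow]).symm
    rw [← zpow_natCast]
    rcases Int.natAbs_eq A.det with e | e
    · rw [← e, ← h3]
    · rw [← neg_neg (A.det.natAbs : ℤ), ← e, _root_.zpow_neg, ← h3, inv_one]
  exact funext key

end Kf

namespace Sit

variable {p a b : ℕ} {F : Type u} {K : Type v} {k : Type u} [Field F] [Fintype F] [Field K] [Fintype K] [Field k]
  (S : Sit p a b F K k)

theorem nt_del_sv (x : chevE7.Idx → k) : del k (S.sv x) = (del k x).map S.s := (Br.del_map S.s x).symm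

theorem nt_sv_del (x : chevE7.Idx → k) (w : D1 → k) : S.sv (del k x *ᵥ w) = del k (S.sv x) *ᵥ S.sv w := by
  funext i
  show S.s ((del k x *ᵥ w) i) = _
  rw [RingHom.map_mulVec, S.nt_del_sv]
  rfl

theorem nt_sv_zero {I : Type} : S.sv (0 : I → k) = 0 := funext fun _ => map_zero _

theorem nt_sv_surj {I : Type} [Fintype I] [DecidableEq I] {R : Gh k →* Matrix I I k} {W : Submodule k (I → k)}
    (hW : S.Stb R W) {y : I → k} (hy : y ∈ W) : ∃ y' ∈ W, y = S.sv y' := S.k_sv_surj (X := (W : Set (I → k))) hW.2 y hy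

theorem nt_stb_cen (hp : p ≠ 2) {W : Submodule k (chevE7.Idx → k)} (hW : S.Stb (adM k) W) : S.Stb (adM k) (nt_cen W) := by
  refine ⟨fun m hm x hx w hw => ?_, fun x hx w hw => ?_⟩
  · have h1 := (eqv (S.nt_two hp)).cm m (hx _ (hW.1 _ (inv_mem hm) w hw))
    rwa [mulVec_inv'] at h1
  · obtain ⟨w', hw', rfl⟩ := S.nt_sv_surj hW hw
    show del k _ * del k _ = del k _ * del k _
    rw [S.nt_del_sv, S.nt_del_sv, ← Matrix.map_mul, ← Matrix.map_mul, show del k x * del k w' = _ from hx w' hw']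

theorem nt_stb_ker (hp : p ≠ 2) {C : Submodule k (chevE7.Idx → k)} (hC : S.Stb (adM k) C) : S.Stb (rho k) (nt_ker C) := by
  refine ⟨fun m hm w hw x hx => ?_, fun w hw x hx => ?_⟩
  · rw [← mulVec_inv' (adM k) m x, nt_del_rho (S.nt_two hp), hw _ (hC.1 _ (inv_mem hm) x hx), mulVec_zero]
  · obtain ⟨x', hx', rfl⟩ := S.nt_sv_surj hC hx
    rw [← S.nt_sv_del, hw x' hx', S.nt_sv_zero]

section
variable {I : Type} [Fintype I] [DecidableEq I] {c : I → Fin 7 → ℤ} {R : Gh k →* Matrix I I k} {W : Submodule k (I → k)}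

theorem nt_Fx_σ (hR : WRep c R) (hW : S.Stb R W) : ∀ x ∈ Fx R W, S.σ x ∈ Fx R W := fun x hx y hy => by
  obtain ⟨y', hy', rfl⟩ := S.nt_sv_surj hW hy
  rw [← S.sv_mulVec hR, hx y' hy']

theorem nt_Fx_M (hW : S.Stb R W) : ∀ m ∈ S.M, ∀ x ∈ Fx R W, m * x * m⁻¹ ∈ Fx R W := fun m hm x hx y hy => by
  rw [mulVec_mul, mulVec_mul, hx _ (hW.1 _ (inv_mem hm) y hy), mulVec_inv']

include S in
/-- a subgroup without elements of order `p` consists of toral elements -/
theorem nt_order {D : Subgroup (Gh k)} (hD : ∀ x ∈ D, x ^ p = 1 → x = 1) {x : Gh k} (hx : x ∈ D) :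
    ∃ N : ℕ, (N : k) ≠ 0 ∧ x ^ N = 1 := by
  have := S.closed
  have := S.chark
  have := finite_closure S.prime S.alg (Set.toFinite {x})
  have h0 : orderOf x ≠ 0 := by
    have h1 := orderOf_pos (⟨x, Subgroup.subset_closure rfl⟩ : Subgroup.closure {x})
    rw [← Subgroup.orderOf_coe] at h1
    exact h1.ne'
  refine ⟨orderOf x, fun h => ?_, pow_orderOf_eq_one x⟩
  obtain ⟨n, hn⟩ := (CharP.cast_eq_zero_iff k p _).1 h
  have h1 := hD _ (pow_mem hx n) (by rw [← pow_mul, mul_comm, ← hn, pow_orderOf_eq_one])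
  have h2 := Nat.le_of_dvd (Nat.pos_of_ne_zero (by rintro rfl; exact h0 hn)) (orderOf_dvd_of_pow_eq_one h1)
  have h3 := S.prime.two_le
  have h4 : 0 < n := Nat.pos_of_ne_zero (by rintro rfl; exact h0 hn)
  nlinarith

include S in
/-- **EXPO** -/
theorem nt_expo (hR : WRep c R) (hp : ∀ x, (∀ y ∈ W, R x *ᵥ y = y) → x ^ p = 1 → x = 1)
    (ht : ∀ (g : Gh k) (l : Fin 7 → k), (∀ y ∈ W, ∀ i, (R g⁻¹ *ᵥ y) i ≠ 0 → ∑ j, l j * (c i j : k) = 0) → l = 0) :
    ∃ N : ℕ, (N : k) ≠ 0 ∧ ∀ x, (∀ y ∈ W, R x *ᵥ y = y) → x ^ N = 1 := by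
  classical
  have := S.closed
  have := S.chark
  refine ⟨∏ f ∈ Finset.univ.filter fun f : Fin 7 → I => ((det (Matrix.of fun t j => c (f t) j) : ℤ) : k) ≠ 0,
    (det (Matrix.of fun t j => c (f t) j)).natAbs, ?_, fun x hx => ?_⟩
  · rw [Nat.cast_prod]
    refine Finset.prod_ne_zero_iff.2 fun f hf h0 => (Finset.mem_filter.1 hf).2 ?_
    rw [CharP.cast_eq_zero_iff k p] at h0
    exact (CharP.intCast_eq_zero_iff k p _).2 (Int.natCast_dvd.2 h0)
  obtain ⟨n, hn, h1⟩ := S.nt_order (D := Fx R W) hp hx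
  obtain ⟨g, t, rfl⟩ := exists_conj_T S.prime S.alg hn h1
  obtain ⟨f, hf, h2⟩ := nt_exists_det c {i | ∃ y ∈ W, (R g⁻¹ *ᵥ y) i ≠ 0} fun l hl =>
    ht g l fun y hy i hi => hl i ⟨y, hy, hi⟩
  have h3 := nt_pow_det (Matrix.of fun t j => c (f t) j) (t := t) fun s => by
    obtain ⟨y, hy, hi⟩ := hf s
    have h4 := congrFun (congrArg (fun z => R g⁻¹ *ᵥ z) (hx y hy)) (f s)
    simp only [mulVec_mul, mulVec_inv] at h4
    rw [hR.tor, mulVec_diagonal] at h4
    exact Units.ext (mul_right_cancel₀ hi (h4.trans (one_mul _).symm))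
  obtain ⟨d, hd⟩ := Finset.dvd_prod_of_mem (fun f : Fin 7 → I => (det (Matrix.of fun t j => c (f t) j)).natAbs)
    (s := Finset.univ.filter fun f : Fin 7 → I => ((det (Matrix.of fun t j => c (f t) j) : ℤ) : k) ≠ 0)
    (Finset.mem_filter.2 ⟨Finset.mem_univ f, h2⟩)
  rw [hd, conj_pow, pow_mul, ← map_pow, h3, map_one, one_pow, mul_one, mul_inv_cancel]

end

include S in
/-- **EXPO** for the 56-dimensional module -/
theorem nt_expo_V (h2 : p ≠ 2) {W : Submodule k (D1 → k)} (hp : ∀ x, (∀ y ∈ W, rho k x *ᵥ y = y) → x ^ p = 1 → x = 1)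
    (ht : nt_ann W = ⊥) : ∃ N : ℕ, (N : k) ≠ 0 ∧ ∀ x, (∀ y ∈ W, rho k x *ᵥ y = y) → x ^ N = 1 := by
  refine S.nt_expo wrep_V hp fun g l hl => ?_
  have h1 : adM k g *ᵥ tv l = 0 := (Submodule.eq_bot_iff _).1 ht _ fun y hy => by
    rw [← mulVec_inv' (rho k) g y, nt_del_rho (S.nt_two h2), La.del_tv]
    refine (congrArg _ (funext fun i => ?_)).trans (mulVec_zero _)
    rw [mulVec_diagonal]
    by_cases e : (rho k g⁻¹ *ᵥ y) i = 0
    · rw [e, mul_zero]; rfl
    · rw [show wval l i = 0 from hl y hy i e, zero_mul]; rfl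
  have h3 : tv l = 0 := by rw [← mulVec_inv (adM k) g (tv l), h1, mulVec_zero]
  exact funext fun i => congrFun h3 (Sum.inl i)

include S in
/-- **EXPO** for the Lie algebra -/
theorem nt_expo_L (h2 : p ≠ 2) {W : Submodule k (chevE7.Idx → k)}
    (hp : ∀ x, (∀ y ∈ W, adM k x *ᵥ y = y) → x ^ p = 1 → x = 1) (ht : nt_cen W = ⊥) :
    ∃ N : ℕ, (N : k) ≠ 0 ∧ ∀ x, (∀ y ∈ W, adM k x *ᵥ y = y) → x ^ N = 1 := by
  refine S.nt_expo wrep_L hp fun g l hl => ?_
  have h1 : adM k g *ᵥ tv l = 0 := (Submodule.eq_bot_iff _).1 ht _ fun y hy => by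
    rw [← mulVec_inv' (adM k) g y]
    refine (eqv (S.nt_two h2)).cm g (nt_cm_tv.2 fun r hr => ?_)
    rw [← hl y hy _ hr, nt_rval_tv]
    rfl
  have h3 : tv l = 0 := by rw [← mulVec_inv (adM k) g (tv l), h1, mulVec_zero]
  exact funext fun i => congrFun h3 (Sum.inl i)

end Sit

end Cfsg.Agent.E7P

private theorem dce_ca302b626102 : _root_.True := by
  try have : _root_.True := by simp only [_root_.Cfsg.Agent.E7P.La.wval.eq_1]
  exact _root_.True.intro
end

-- part: E7P/Nt/Nft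
section
set_option linter.all false
open scoped Cfsg.Agent.FastGrp

/-!
# S5932: no stable toral subalgebra (helper9)

* `Sit.nt_toral`, `Sit.nf_tor`, `Sit.nf_tor'` : **NFT**;
* `Sit.nt_nofix_of`, `nt_cen_of`, `nt_ann_of` : it suffices to exclude nilpotent elements;
* `Sit.nt_nf5` : **NF5**, `Sit.nt_nk` : **NK**, `Sit.nt_expo5` (`p ≥ 5`).
-/

set_option autoImplicit false
set_option maxRecDepth 100000

namespace Cfsg.Agent.E7P

open Cfsg Cfsg.Lie Matrix Module
open Cfsg.Agent.ChevalleyStructure.RootVec (rt)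
open Cfsg.Agent.H943.E7V.Block (D1 rho)
open Cfsg.Agent.R2.T1 Cfsg.Agent.E7P.Kf
open Cfsg.Agent.R2.PX (del DD)
open Cfsg.Agent.E7P.La (Jd eqv wval)
open Cfsg.Agent.E7P.Lb (t3)

universe u v

namespace Kf

variable {K : Type u} [Field K]

/-- the values of the weights on `t3` -/
def nt_w3 (s : ℕ) : ℤ := ((List.range 7).map fun i => [3, 4, 6, 8, 6, 4, 2].getD i 0 * chevE8.cartan i s).sum

theorem nt_wval_t3 (a : D1) : wval (t3 K) a = (nt_w3 (nn a) : K) := by
  rw [wval, nt_w3, sum7]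
  push_cast
  refine Finset.sum_congr rfl fun i _ => ?_
  congr 1
  fin_cases i <;> simp [t3]

theorem nt_chk_w3 : ∀ s < 240, rt chevE8 s 7 = 1 → 3 ∣ nt_w3 s → mv 93 s = none := by (delta Cfsg.Agent.E7P.Kf.nt_w3; rewrite [Cfsg.Agent.ChevFast.E8.cartan]; decide +kernel)

theorem nt_del_t3 {a : D1} (h : (nt_w3 (nn a) : K) = 0) : del K (tv (t3 K)) *ᵥ bs K a = 0 := by
  rw [La.del_tv, R2.PX.diag_bs, nt_wval_t3, h, zero_smul]

/-- the elements which fix the toral subalgebra pointwise -/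
theorem nt_mem_T [Infinite K] (h2 : (2 : K) ≠ 0) {g x : Gh K} (h : ∀ l, adM K x *ᵥ (adM K g *ᵥ tv l) = adM K g *ᵥ tv l) :
    ∃ c, x = g * Phi K c * g⁻¹ := by
  obtain ⟨c, hc⟩ := mem_T_of_diag (y := g⁻¹ * x * g) fun i j => Lb.diag_of_tv h2 fun l => by
    rw [R2.PX.del_equi h2, mulVec_mul, mulVec_mul, h, mulVec_inv]
  exact ⟨c, by rw [← hc]; group⟩

end Kf

namespace Sit

variable {p a b : ℕ} {F : Type u} {K : Type v} {k : Type u} [Field F] [Fintype F] [Field K] [Fintype K] [Field k]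
  (S : Sit p a b F K k)

/-- `A` centralises no root element -/
theorem nt_root (hs : S.SSC) {g : Gh k} {r : ℕ} (hr : r < 126)
    (h : ∀ x, rho k (S.ψ x) * (rho k g * NM k r * rho k g⁻¹) = rho k g * NM k r * rho k g⁻¹ * rho k (S.ψ x)) : False := by
  have := S.chark
  have h1 : rho k (g * xs k r 1 * g⁻¹) = 1 + rho k g * NM k r * rho k g⁻¹ := by
    rw [map_mul, map_mul, rho_xs' hr, one_smul, mul_add, mul_one, add_mul, La.rho_mul_inv]
  have h2 := S.ck hs (g * xs k r 1 * g⁻¹) (fun x => rho_injective (by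
    rw [map_mul _ (S.ψ x), map_mul _ _ (S.ψ x), h1, mul_add, add_mul, h, mul_one, one_mul]))
    (by rw [conj_pow, nt_xs_pow, mul_one, mul_inv_cancel])
  exact nt_xs_ne hr (by rwa [mul_inv_eq_one, mul_eq_left] at h2)

/-- the line of type `A₂ A₅` -/
theorem nt_line (hs : S.SSC) (hp : p = 3) {C : Submodule k (chevE7.Idx → k)} (hC : S.Stb (adM k) C) {g : Gh k}
    (h0 : adM k g *ᵥ tv (t3 k) ∈ C) (h1 : ∀ x ∈ C, ∃ c : k, x = c • adM k g *ᵥ tv (t3 k)) : False := by
  have := S.chark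
  have hp2 : p ≠ 2 := by omega
  have h2 := S.nt_two hp2
  have h3 : ∀ n : ℤ, (n : k) = 0 ↔ 3 ∣ n := fun n => by
    rw [CharP.intCast_eq_zero_iff k p, hp]
    rfl
  have hA : ∀ x, ∀ y ∈ nt_ker C, rho k (S.ψ x) *ᵥ y = y := by
    by_contra hne
    push Not at hne
    have h4 := S.pt hs wrep_V _ (S.nt_stb_ker hp2 hC) hne (g * xs k 93 1 * g⁻¹) (fun y hy => by
      have h5 := hy _ h0
      rw [← mulVec_inv' (rho k) g y, nt_del_rho h2] at h5
      have h6 : del k (tv (t3 k)) *ᵥ (rho k g⁻¹ *ᵥ y) = 0 := by rw [← mulVec_inv (rho k) g (_ *ᵥ _), h5, mulVec_zero]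
      have h7 : NM k 93 *ᵥ (rho k g⁻¹ *ᵥ y) = 0 := by
        funext i
        by_contra h7
        obtain ⟨j, c, h8, h9⟩ := NM_mulVec_ne h7
        have h10 := congrFun h6 j
        rw [La.del_tv, mulVec_diagonal, nt_wval_t3] at h10
        rw [nt_chk_w3 _ (nn_lt j) (rt_nn j) ((h3 _).1 ((mul_eq_zero.1 h10).resolve_right h9))] at h8
        cases h8
      rw [mulVec_mul, mulVec_mul, rho_xs' (by norm_num), one_smul, add_mulVec, one_mulVec, h7, add_zero, mulVec_inv'])
      (by rw [conj_pow, nt_xs_pow, mul_one, mul_inv_cancel])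
    exact nt_xs_ne (r := 93) (by norm_num) (by rwa [mul_inv_eq_one, mul_eq_left] at h4)
  have hW : ∀ s : D1, 3 ∣ nt_w3 (R2.T1.nn s) → rho k g *ᵥ bs k s ∈ nt_ker C := fun s hs x hx => by
    obtain ⟨c, rfl⟩ := h1 x hx
    rw [map_smul, smul_mulVec, nt_del_rho h2, nt_del_t3 ((h3 _).2 hs), mulVec_zero, smul_zero]
  let s : D1 := ⟨⟨206, by decide +kernel⟩, by decide +kernel⟩
  let s' : D1 := ⟨⟨196, by decide +kernel⟩, by decide +kernel⟩
  have h4 := R2.PX.DD_bs_root (F := k) (r := 78) (by norm_num) (a := s) (a' := s') (c := 1)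
    (show mv (125 - 78) 206 = some (196, 1) by decide +kernel)
  have h5 : 3 ∣ nt_w3 (R2.T1.nn (op s')) := by
    rw [← R2.PX.st_nn]
    show 3 ∣ nt_w3 (st 196).1
    decide +kernel
  refine S.nt_root hs (g := g) (r := 78) (by norm_num) fun x => ?_
  have h6 := Mu.DD_equi (S.ψ x) (V k g (bs k s)) (V k g (bs k (op s')))
  rw [V_apply (S.ψ x), V_apply (S.ψ x), V_apply g, V_apply g, hA x _ (hW s (show 3 ∣ nt_w3 206 by decide +kernel)),
    hA x _ (hW _ h5), ← V_apply, ← V_apply, Mu.DD_conj, h4, mul_smul_comm, smul_mul_assoc, smul_mul_assoc,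
    mul_smul_comm] at h6
  exact (smul_right_injective _ (mul_ne_zero (mul_ne_zero (neg_ne_zero.2 h2) (by rw [Int.cast_one]; exact one_ne_zero))
    (cast_ne (ep_sq _))) h6).symm

/-- **NFT** for subspaces of a toral subalgebra -/
theorem nt_toral (hp : p ≠ 2) (hs : S.SSC) {C : Submodule k (chevE7.Idx → k)} (hC : S.Stb (adM k) C) {g : Gh k}
    (hg : ∀ x ∈ C, ∃ l, x = adM k g *ᵥ tv l) : C = ⊥ := by
  have := S.closed
  have := S.chark
  have h2 := S.nt_two hp
  by_contra hne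
  let C0 : Submodule k (Fin 7 → k) :=
    { carrier := {l | adM k g *ᵥ tv l ∈ C}
      zero_mem' := by
        show adM k g *ᵥ tv 0 ∈ C
        rw [← zero_smul k (0 : Fin 7 → k), Lb.tv_smul, zero_smul, mulVec_zero]
        exact zero_mem _
      add_mem' := fun {l l'} h h' => by
        show adM k g *ᵥ tv (l + l') ∈ C
        rw [← sub_neg_eq_add, ← neg_one_smul k l', Lb.tv_sub, Lb.tv_smul, mulVec_sub, mulVec_smul]
        exact sub_mem h (C.smul_mem _ h')
      smul_mem' := fun t l h => by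
        show adM k g *ᵥ tv (t • l) ∈ C
        rw [Lb.tv_smul, mulVec_smul]
        exact C.smul_mem _ h }
  obtain ⟨x0, hx0, h0⟩ := (Submodule.ne_bot_iff C).1 hne
  obtain ⟨l0, rfl⟩ := hg x0 hx0
  have hcen := S.nt_stb_cen hp hC
  obtain ⟨h3, w, hw⟩ := Lb.tor7 S.prime h2 (C := C0) ((Submodule.ne_bot_iff _).2 ⟨l0, hx0, by
      rintro rfl
      exact h0 (by rw [← zero_smul k (0 : Fin 7 → k), Lb.tv_smul, zero_smul, mulVec_zero])⟩)
    (Lb.rk7_of_int fun m hm => S.nt hp hs (Fx (adM k) (nt_cen C)) g m (S.nt_Fx_σ wrep_L hcen) (S.nt_Fx_M hcen)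
      (fun x hx => nt_mem_T h2 fun l => hx _ fun y hy => by
        obtain ⟨l', rfl⟩ := hg y hy
        exact (eqv h2).cm g (La.cm_tv l l'))
      fun z x hx => by
        rw [mulVec_mul, mulVec_mul]
        refine (congrArg _ (funext fun i => ?_)).trans (mulVec_inv' (adM k) g x)
        rw [wrep_L.tor, mulVec_diagonal]
        by_cases e : (adM k g⁻¹ *ᵥ x) i = 0
        · rw [e, mul_zero]
        rcases i with i | r
        · rw [ac_inl, ch_zero, Units.val_one, one_mul]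
        · rw [ac_inr, ch_lam, hm r r.2 fun l hl => ?_, zpow_zero, Units.val_one, one_mul]
          have h4 := (eqv h2).cm g⁻¹ (nt_cm_symm (hx _ hl))
          rw [mulVec_inv] at h4
          exact nt_cm_tv.1 h4 r e)
  have h4 : ∀ x ∈ C, ∃ c : k, x = c • adM k (g * (nL k w)⁻¹) *ᵥ tv (t3 k) := fun x hx => by
    obtain ⟨l, rfl⟩ := hg x hx
    obtain ⟨c, hc⟩ := hw l hx
    exact ⟨c, by rw [mulVec_mul, ← mulVec_smul, ← mulVec_smul, ← hc, mulVec_inv]⟩
  refine S.nt_line hs h3 hC ?_ h4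
  obtain ⟨c, hc⟩ := h4 _ hx0
  have h5 : c ≠ 0 := by
    rintro rfl
    exact h0 (hc.trans (zero_smul _ _))
  rw [hc] at hx0
  exact (C.smul_mem_iff h5).1 hx0

/-- **NFT** -/
theorem nf_tor (hp : p ≠ 2) (hs : S.SSC) {C : Submodule k (chevE7.Idx → k)} (hC : S.Stb (adM k) C)
    (hb : ∀ x ∈ C, ∀ y ∈ C, ∀ z, del k z = del k x * del k y - del k y * del k x → z ∈ C)
    (hj : ∀ x ∈ C, ∀ s z, Jd x s z → z ∈ C) (hn : ∀ z ∈ C, IsNilpotent (del k z) → z = 0) : C = ⊥ := by
  have := S.closed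
  obtain ⟨g, hg⟩ := La.toral (eqv (S.nt_two hp)) C hb hj hn
  exact S.nt_toral hp hs hC hg

/-- **NFT**, with the bracket `Br.br` -/
theorem nf_tor' (hp : p ≠ 2) (hs : S.SSC) {C : Submodule k (chevE7.Idx → k)} (hC : S.Stb (adM k) C)
    (hb : ∀ x ∈ C, ∀ y ∈ C, Br.br k x y ∈ C)
    (hj : ∀ x ∈ C, ∀ s z, Jd x s z → z ∈ C) (hn : ∀ z ∈ C, IsNilpotent (del k z) → z = 0) : C = ⊥ :=
  S.nf_tor hp hs hC (fun x hx y hy z hz => by
    rw [Mu.del_injective (hz.trans (Br.del_br x y).symm)]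
    exact hb x hx y hy) hj hn

/-- the fixed points of `A` vanish if they contain no nilpotent element -/
theorem nt_nofix_of (hp : p ≠ 2) (hs : S.SSC)
    (hn : ∀ z, (∀ x, adM k (S.ψ x) *ᵥ z = z) → IsNilpotent (del k z) → z = 0) : S.NoFix := by
  have h2 := S.nt_two hp
  have h1 := S.nf_tor' hp hs (S.nt_stb_fix wrep_L) (fun x hx y hy g => by rw [Br.adM_br h2, hx g, hy g])
    (fun x hx s z h g => (h.fix (eqv h2) (hx g)).2) hn
  exact fun y hy => (Submodule.eq_bot_iff _).1 h1 y hy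

/-- centralisers vanish if they contain no nilpotent element -/
theorem nt_cen_of (hp : p ≠ 2) (hs : S.SSC) {W : Submodule k (chevE7.Idx → k)} (hW : S.Stb (adM k) W)
    (hn : ∀ z ∈ nt_cen W, IsNilpotent (del k z) → z = 0) : nt_cen W = ⊥ :=
  S.nf_tor hp hs (S.nt_stb_cen hp hW) (fun _ hx _ hy _ => nt_cen_br hx hy)
    (fun _ hx _ _ => nt_cen_jd (S.nt_two hp) hx) hn

include S in
/-- the optimal parabolic subgroup of a nilpotent element -/
theorem nt_kempf (hp : p ≠ 2) {z : chevE7.Idx → k} (h0 : z ≠ 0) (hz : IsNilpotent (del k z)) :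
    ∃ (g : Gh k) (β : E), β ≠ 0 ∧ Dom β ∧ Opt bf (St ac (adM k) {z}) g β ∧
      ∀ y : Gh k, adM k y *ᵥ z = z → g⁻¹ * y * g ∈ Pl k β := by
  have := S.closed
  obtain ⟨g0, z0, h1, e⟩ := La.nil (eqv (S.nt_two hp)) hz
  obtain ⟨g, β, h3, h4, h5, h6, -⟩ := wrep_L.kempf (X := {z}) ⟨⟨z, rfl, h0⟩, g0, rho1, by
    rintro _ rfl i hi
    rw [e, mulVec_inv] at hi
    exact h1 i hi⟩
  refine ⟨g, β, h3, h4, h5, fun y hy => h6 y ?_⟩
  rintro v rfl
  show adM k y⁻¹ *ᵥ v = v
  conv_lhs => rw [← hy]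
  exact mulVec_inv _ _ _

include S in
theorem nt_eps (h5 : 5 ≤ p) : EPS k :=
  have := S.chark
  Br.eps (Br.twelve_ne S.prime h5)

/-- **NF5** -/
theorem nt_nf5 (h5 : 5 ≤ p) (hs : S.SSC) : S.NoFix := by
  have := S.chark
  refine S.nt_nofix_of (by omega) hs fun z hz hn => ?_
  by_contra h0
  obtain ⟨g, β, h1, -, h3, h4⟩ := S.nt_kempf (by omega) h0 hn
  obtain ⟨y, hy, h6, -, h7⟩ := S.nt_eps h5 β (adM k g⁻¹ *ᵥ z) (Br.Ge_le_Gt (bf_pd.pos β h1) (Br.Opt_Ge h3 rfl))
    fun e => h0 (by rw [← mulVec_inv' (adM k) g z, e, mulVec_zero])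
  obtain ⟨n, h8, h9⟩ := Lb.exists_pow_p S.prime hy h6
  have h10 := S.ck hs (g * y ^ n * g⁻¹) (fun x => by
    have h11 : Commute (g⁻¹ * S.ψ x * g) y := h7 _ (h4 _ (hz x)) (by rw [mulVec_mul, mulVec_mul, mulVec_inv', hz x])
    calc _ = g * (g⁻¹ * S.ψ x * g * y ^ n) * g⁻¹ := by group
      _ = _ := by rw [(h11.pow_right n).eq]; group) (by rw [conj_pow, h9, mul_one, mul_inv_cancel])
  exact h8 (by rwa [mul_inv_eq_one, mul_eq_left] at h10)

include S in
/-- a non-zero nilpotent element gives an element of order `p` which fixes its centraliser -/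
theorem nt_eps_nil (h5 : 5 ≤ p) {z : chevE7.Idx → k} (h0 : z ≠ 0) (hz : IsNilpotent (del k z)) :
    ∃ c : Gh k, c ≠ 1 ∧ c ^ p = 1 ∧ ∀ x, Cm z x → adM k c *ᵥ x = x := by
  have := S.closed
  have := S.chark
  have hq := eqv (S.nt_two (show p ≠ 2 by omega))
  obtain ⟨g, z0, h1, rfl⟩ := La.nil hq hz
  obtain ⟨y, hy, h6, h7, -⟩ := S.nt_eps h5 rho1 z0 h1 fun e => h0 (by rw [e, mulVec_zero])
  obtain ⟨n, h8, h9⟩ := Lb.exists_pow_p S.prime hy h6
  refine ⟨g * y ^ n * g⁻¹, fun e => h8 (by rwa [mul_inv_eq_one, mul_eq_left] at e),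
    by rw [conj_pow, h9, mul_one, mul_inv_cancel], fun x hx => ?_⟩
  have h2 := hq.cm g⁻¹ hx
  rw [mulVec_inv] at h2
  rw [mulVec_mul, mulVec_mul, pow_mem (S := Fx (adM k) (nt_cen (Submodule.span k {z0}))) (fun x hx => h7 x
    (nt_cm_symm (hx z0 (Submodule.mem_span_singleton_self z0)))) n _ (fun w hw => by
      obtain ⟨t, rfl⟩ := Submodule.mem_span_singleton.1 hw
      show del k _ * del k (t • z0) = del k (t • z0) * del k _
      rw [map_smul, mul_smul_comm, smul_mul_assoc, show del k z0 * _ = _ from h2]), mulVec_inv']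

/-- **NK** -/
theorem nt_nk (h5 : 5 ≤ p) (hs : S.SSC) {W : Submodule k (chevE7.Idx → k)} (hW : S.Stb (adM k) W) (h0 : W ≠ ⊥) :
    nt_cen W = ⊥ := by
  refine S.nt_cen_of (by omega) hs hW fun z hz hn => ?_
  by_contra hne
  obtain ⟨c, h1, h2, h3⟩ := S.nt_eps_nil h5 hne hn
  obtain ⟨y, hy, h4⟩ := (Submodule.ne_bot_iff W).1 h0
  obtain ⟨x, hx⟩ := not_forall.1 fun h => h4 (S.nt_nf5 h5 hs y h)
  exact h1 (S.pt hs wrep_L W hW ⟨x, y, hy, hx⟩ c (fun w hw => h3 w (hz w hw)) h2)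

/-- **EXPO** for `p ≥ 5` and the Lie algebra -/
theorem nt_expo5 (h5 : 5 ≤ p) (hs : S.SSC) {W : Submodule k (chevE7.Idx → k)} (hW : S.Stb (adM k) W) (h0 : W ≠ ⊥) :
    ∃ N : ℕ, (N : k) ≠ 0 ∧ ∀ x, (∀ y ∈ W, adM k x *ᵥ y = y) → x ^ N = 1 := by
  obtain ⟨y, hy, h4⟩ := (Submodule.ne_bot_iff W).1 h0
  obtain ⟨x, hx⟩ := not_forall.1 fun h => h4 (S.nt_nf5 h5 hs y h)
  exact S.nt_expo_L (by omega) (S.pt hs wrep_L W hW ⟨x, y, hy, hx⟩) (S.nt_nk h5 hs hW h0)

/-- **EXPO** for `V` -/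
theorem nt_expoV (hp : p ≠ 2) (hs : S.SSC) (hf : S.NoFix) {W : Submodule k (D1 → k)} (hW : S.Stb (rho k) W) (h0 : W ≠ ⊥)
    (ht : nt_ann W = ⊥) : ∃ N : ℕ, (N : k) ≠ 0 ∧ ∀ x, (∀ y ∈ W, rho k x *ᵥ y = y) → x ^ N = 1 := by
  obtain ⟨y, hy, h4⟩ := (Submodule.ne_bot_iff W).1 h0
  obtain ⟨x, hx⟩ := not_forall.1 fun h => h4 (S.nt_nofixV hp hf y h)
  exact S.nt_expo_V hp (S.pt hs wrep_V W hW ⟨x, y, hy, hx⟩) ht

end Sit

end Cfsg.Agent.E7P

private theorem dce_c74e742ad058 : _root_.True := by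
  try have : _root_.True := by simp only [_root_.Cfsg.Agent.E7P.Kf.nt_w3.eq_1]
  exact _root_.True.intro
end

-- part: E7P/En2/Tab
section
prune_inst 0x8040000000000000000000000000000000000
set_option linter.all false
open scoped Cfsg.Agent.FastGrp

/-!
# S5932, END2: the tables (helper61)

* `WT`, `CT`, `GT` : the labels of the weights, of the roots and of the weights of the Lie algebra;
* `Tb` : a table for a module; `zf` : an isolated weight, `Tb.zf_false`.
-/

set_option autoImplicit false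
set_option maxRecDepth 100000
set_option maxHeartbeats 400000

namespace Cfsg.Agent.E7P.En2

open Cfsg Cfsg.Lie
open Cfsg.Agent.R2.T1 Cfsg.Agent.E7P.Kf Cfsg.Agent.E7P.Rsl
open Cfsg.Agent.R2.PX (W56)

/-- the labels of the weights -/
def WT : List (List ℤ) := [[0, 0, 0, 0, 0, 0, -1], [0, 0, 0, 0, 0, -1, 1], [0, 0, 0, 0, -1, 1, 0], [0, 0, 0, -1, 1, 0, 0],
  [0, -1, -1, 1, 0, 0, 0], [-1, -1, 1, 0, 0, 0, 0], [0, 1, -1, 0, 0, 0, 0], [-1, 1, 1, -1, 0, 0, 0],
  [-1, 0, 0, 1, -1, 0, 0], [-1, 0, 0, 0, 1, -1, 0], [-1, 0, 0, 0, 0, 1, -1], [-1, 0, 0, 0, 0, 0, 1],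
  [1, -1, 0, 0, 0, 0, 0], [1, 1, 0, -1, 0, 0, 0], [1, 0, -1, 1, -1, 0, 0], [1, 0, -1, 0, 1, -1, 0],
  [1, 0, -1, 0, 0, 1, -1], [1, 0, -1, 0, 0, 0, 1], [0, 0, 1, 0, -1, 0, 0], [0, 0, 1, -1, 1, -1, 0],
  [0, 0, 1, -1, 0, 1, -1], [0, 0, 1, -1, 0, 0, 1], [0, -1, 0, 1, 0, -1, 0], [0, -1, 0, 1, -1, 1, -1],
  [0, -1, 0, 1, -1, 0, 1], [0, -1, 0, 0, 1, 0, -1], [0, -1, 0, 0, 1, -1, 1], [0, -1, 0, 0, 0, 1, 0],
  [0, 1, 0, 0, 0, -1, 0], [0, 1, 0, 0, -1, 1, -1], [0, 1, 0, 0, -1, 0, 1], [0, 1, 0, -1, 1, 0, -1],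
  [0, 1, 0, -1, 1, -1, 1], [0, 1, 0, -1, 0, 1, 0], [0, 0, -1, 1, 0, 0, -1], [0, 0, -1, 1, 0, -1, 1],
  [0, 0, -1, 1, -1, 1, 0], [0, 0, -1, 0, 1, 0, 0], [-1, 0, 1, 0, 0, 0, -1], [-1, 0, 1, 0, 0, -1, 1],
  [-1, 0, 1, 0, -1, 1, 0], [-1, 0, 1, -1, 1, 0, 0], [-1, -1, 0, 1, 0, 0, 0], [-1, 1, 0, 0, 0, 0, 0],
  [1, 0, 0, 0, 0, 0, -1], [1, 0, 0, 0, 0, -1, 1], [1, 0, 0, 0, -1, 1, 0], [1, 0, 0, -1, 1, 0, 0],
  [1, -1, -1, 1, 0, 0, 0], [0, -1, 1, 0, 0, 0, 0], [1, 1, -1, 0, 0, 0, 0], [0, 1, 1, -1, 0, 0, 0],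
  [0, 0, 0, 1, -1, 0, 0], [0, 0, 0, 0, 1, -1, 0], [0, 0, 0, 0, 0, 1, -1], [0, 0, 0, 0, 0, 0, 1]]

/-- the labels of the roots -/
def CT : List (List ℤ) := [[-1, 0, 0, 0, 0, 0, 0], [1, 0, -1, 0, 0, 0, 0], [0, 0, 1, -1, 0, 0, 0], [0, -1, 0, 1, -1, 0, 0],
  [0, -1, 0, 0, 1, -1, 0], [0, -1, 0, 0, 0, 1, -1], [0, -1, 0, 0, 0, 0, 1], [0, 1, 0, 0, -1, 0, 0],
  [0, 1, 0, -1, 1, -1, 0], [0, 1, 0, -1, 0, 1, -1], [0, 1, 0, -1, 0, 0, 1], [0, 0, -1, 1, 0, -1, 0],
  [0, 0, -1, 1, -1, 1, -1], [0, 0, -1, 1, -1, 0, 1], [0, 0, -1, 0, 1, 0, -1], [0, 0, -1, 0, 1, -1, 1],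
  [0, 0, -1, 0, 0, 1, 0], [-1, 0, 1, 0, 0, -1, 0], [-1, 0, 1, 0, -1, 1, -1], [-1, 0, 1, 0, -1, 0, 1],
  [-1, 0, 1, -1, 1, 0, -1], [-1, 0, 1, -1, 1, -1, 1], [-1, 0, 1, -1, 0, 1, 0], [-1, -1, 0, 1, 0, 0, -1],
  [-1, -1, 0, 1, 0, -1, 1], [-1, -1, 0, 1, -1, 1, 0], [-1, -1, 0, 0, 1, 0, 0], [-1, 1, 0, 0, 0, 0, -1],
  [-1, 1, 0, 0, 0, -1, 1], [-1, 1, 0, 0, -1, 1, 0], [-1, 1, 0, -1, 1, 0, 0], [-1, 0, -1, 1, 0, 0, 0],
  [-2, 0, 1, 0, 0, 0, 0], [1, 0, 0, 0, 0, -1, 0], [1, 0, 0, 0, -1, 1, -1], [1, 0, 0, 0, -1, 0, 1],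
  [1, 0, 0, -1, 1, 0, -1], [1, 0, 0, -1, 1, -1, 1], [1, 0, 0, -1, 0, 1, 0], [1, -1, -1, 1, 0, 0, -1],
  [1, -1, -1, 1, 0, -1, 1], [1, -1, -1, 1, -1, 1, 0], [1, -1, -1, 0, 1, 0, 0], [0, -1, 1, 0, 0, 0, -1],
  [0, -1, 1, 0, 0, -1, 1], [0, -1, 1, 0, -1, 1, 0], [0, -1, 1, -1, 1, 0, 0], [0, -2, 0, 1, 0, 0, 0],
  [1, 1, -1, 0, 0, 0, -1], [1, 1, -1, 0, 0, -1, 1], [1, 1, -1, 0, -1, 1, 0], [1, 1, -1, -1, 1, 0, 0],
  [1, 0, -2, 1, 0, 0, 0], [0, 1, 1, -1, 0, 0, -1], [0, 1, 1, -1, 0, -1, 1], [0, 1, 1, -1, -1, 1, 0],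
  [0, 1, 1, -2, 1, 0, 0], [0, 0, 0, 1, -1, 0, -1], [0, 0, 0, 1, -1, -1, 1], [0, 0, 0, 1, -2, 1, 0],
  [0, 0, 0, 0, 1, -1, -1], [0, 0, 0, 0, 1, -2, 1], [0, 0, 0, 0, 0, 1, -2], [0, 0, 0, 0, 0, -1, 2],
  [0, 0, 0, 0, -1, 2, -1], [0, 0, 0, 0, -1, 1, 1], [0, 0, 0, -1, 2, -1, 0], [0, 0, 0, -1, 1, 1, -1],
  [0, 0, 0, -1, 1, 0, 1], [0, -1, -1, 2, -1, 0, 0], [0, -1, -1, 1, 1, -1, 0], [0, -1, -1, 1, 0, 1, -1],
  [0, -1, -1, 1, 0, 0, 1], [-1, 0, 2, -1, 0, 0, 0], [-1, -1, 1, 1, -1, 0, 0], [-1, -1, 1, 0, 1, -1, 0],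
  [-1, -1, 1, 0, 0, 1, -1], [-1, -1, 1, 0, 0, 0, 1], [0, 2, 0, -1, 0, 0, 0], [0, 1, -1, 1, -1, 0, 0],
  [0, 1, -1, 0, 1, -1, 0], [0, 1, -1, 0, 0, 1, -1], [0, 1, -1, 0, 0, 0, 1], [-1, 1, 1, 0, -1, 0, 0],
  [-1, 1, 1, -1, 1, -1, 0], [-1, 1, 1, -1, 0, 1, -1], [-1, 1, 1, -1, 0, 0, 1], [-1, 0, 0, 1, 0, -1, 0],
  [-1, 0, 0, 1, -1, 1, -1], [-1, 0, 0, 1, -1, 0, 1], [-1, 0, 0, 0, 1, 0, -1], [-1, 0, 0, 0, 1, -1, 1],
  [-1, 0, 0, 0, 0, 1, 0], [2, 0, -1, 0, 0, 0, 0], [1, 0, 1, -1, 0, 0, 0], [1, -1, 0, 1, -1, 0, 0],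
  [1, -1, 0, 0, 1, -1, 0], [1, -1, 0, 0, 0, 1, -1], [1, -1, 0, 0, 0, 0, 1], [1, 1, 0, 0, -1, 0, 0],
  [1, 1, 0, -1, 1, -1, 0], [1, 1, 0, -1, 0, 1, -1], [1, 1, 0, -1, 0, 0, 1], [1, 0, -1, 1, 0, -1, 0],
  [1, 0, -1, 1, -1, 1, -1], [1, 0, -1, 1, -1, 0, 1], [1, 0, -1, 0, 1, 0, -1], [1, 0, -1, 0, 1, -1, 1],
  [1, 0, -1, 0, 0, 1, 0], [0, 0, 1, 0, 0, -1, 0], [0, 0, 1, 0, -1, 1, -1], [0, 0, 1, 0, -1, 0, 1],
  [0, 0, 1, -1, 1, 0, -1], [0, 0, 1, -1, 1, -1, 1], [0, 0, 1, -1, 0, 1, 0], [0, -1, 0, 1, 0, 0, -1],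
  [0, -1, 0, 1, 0, -1, 1], [0, -1, 0, 1, -1, 1, 0], [0, -1, 0, 0, 1, 0, 0], [0, 1, 0, 0, 0, 0, -1],
  [0, 1, 0, 0, 0, -1, 1], [0, 1, 0, 0, -1, 1, 0], [0, 1, 0, -1, 1, 0, 0], [0, 0, -1, 1, 0, 0, 0],
  [-1, 0, 1, 0, 0, 0, 0], [1, 0, 0, 0, 0, 0, 0]]

theorem WT_eq : WT = W56.map fun s => (List.range 7).map fun i => chevE8.cartan i s := by (rewrite [Cfsg.Agent.ChevFast.E8.cartan]; decide +kernel)

theorem CT_eq : CT = (List.range 126).map fun r => (List.range 7).map fun i => chevE7.cartan i r := by (rewrite [Cfsg.Agent.ChevFast.E7.cartan]; decide +kernel)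

/-- the labels of the weights of the Lie algebra -/
def GT : List (List ℤ) := [0, 0, 0, 0, 0, 0, 0] :: CT

/-- the list of the coordinates -/
def lst (l : Fin 7 → ℤ) : List ℤ := [l 0, l 1, l 2, l 3, l 4, l 5, l 6]

theorem lst_inj {l m : Fin 7 → ℤ} (e : lst l = lst m) : l = m := by
  simp only [lst, List.cons.injEq, and_true] at e
  funext i
  fin_cases i <;> simp [e]

theorem mem_WT {x : List ℤ} : x ∈ WT ↔ ∃ s, lst (wc s) = x := by
  rw [WT_eq, List.mem_map]
  refine ⟨fun ⟨s, hs, e⟩ => ⟨⟨⟨s, (R2.PX.W56_spec s hs).1⟩, (R2.PX.W56_spec s hs).2⟩, e⟩,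
    fun ⟨s, e⟩ => ⟨nn s, R2.PX.nn_mem s, e⟩⟩

theorem mem_CT {x : List ℤ} : x ∈ CT ↔ ∃ r < 126, lst (rc r) = x := by
  rw [CT_eq, List.mem_map]
  exact ⟨fun ⟨r, hr, e⟩ => ⟨r, List.mem_range.1 hr, e⟩, fun ⟨r, hr, e⟩ => ⟨r, List.mem_range.2 hr, e⟩⟩

theorem mem_GT {x : List ℤ} : x ∈ GT ↔ ∃ a, lst (ac a) = x := by
  rw [GT, List.mem_cons, mem_CT]
  refine ⟨?_, ?_⟩
  · rintro (rfl | ⟨r, hr, rfl⟩)
    · exact ⟨Sum.inl ⟨0, by decide⟩, rfl⟩
    · exact ⟨Sum.inr ⟨r, hr⟩, rfl⟩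
  · rintro ⟨a | r, rfl⟩
    · exact Or.inl rfl
    · exact Or.inr ⟨r, r.2, rfl⟩

theorem sum_WT {M : Type*} [AddCommMonoid M] (f : List ℤ → M) : ∑ s, f (lst (wc s)) = (WT.map f).sum := by
  rw [WT_eq, List.map_map]
  exact R2.PX.sumD1 (f ∘ fun s => (List.range 7).map fun i => chevE8.cartan i s)

end Cfsg.Agent.E7P.En2

private theorem dce_84f63bc32c35 : _root_.True := by
  try have : _root_.True := by simp only [_root_.Cfsg.Agent.E7P.En2.lst.eq_1]
  try have : _root_.True := by simp only [_root_.Cfsg.Agent.E7P.En2.GT.eq_1]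
  exact _root_.True.intro
end

-- part: E7P/Nt/All
section
set_option linter.all false
open scoped Cfsg.Agent.FastGrp

/-!
# S5932: the basic facts for all odd primes (helper9)

* `Kf.nt_del_DD` : the Lie algebra acts by derivations on `DD`;
* `Sit.nofix`, `Sit.nofixV`, `Sit.ann`, `Sit.expoV`, `Sit.irr` : all from `p ≠ 2` and `SSC`.
-/

set_option autoImplicit false
set_option maxRecDepth 100000

namespace Cfsg.Agent.E7P

open Cfsg Cfsg.Lie Matrix Module
open Cfsg.Agent.H943.E7V.Block (D1 rho)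
open Cfsg.Agent.R2.T1 Cfsg.Agent.E7P.Kf
open Cfsg.Agent.R2.PX (del DD dd DD_add_left DD_add_right DD_smul_left DD_smul_right DD_zero_left DD_zero_right)

universe u v

namespace Kf

variable {K : Type u} [Field K]

/-- **`DD` is invariant under the Lie algebra** -/
theorem nt_del_DD (z : chevE7.Idx → K) (x y : D1 → K) :
    del K z * DD K x y - DD K x y * del K z = DD K (del K z *ᵥ x) y + DD K x (del K z *ᵥ y) := by
  let T : Submodule K (Matrix D1 D1 K) :=
    { carrier := {Z | ∀ x y, Z * DD K x y - DD K x y * Z = DD K (Z *ᵥ x) y + DD K x (Z *ᵥ y)}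
      zero_mem' := fun x y => by rw [zero_mulVec, zero_mulVec, DD_zero_left, DD_zero_right, zero_mul, mul_zero, sub_zero, add_zero]
      add_mem' := fun {A B} hA hB x y => by
        rw [add_mulVec, add_mulVec, DD_add_left, DD_add_right, add_add_add_comm, ← hA, ← hB]
        noncomm_ring
      smul_mem' := fun t A hA x y => by
        rw [smul_mulVec, smul_mulVec, DD_smul_left, DD_smul_right, ← smul_add, ← hA, smul_mul_assoc, mul_smul_comm, smul_sub] }
  have hN : ∀ r < 126, NM K r ∈ T := fun r hr x y => by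
    rw [← (Mu.field_ident hr x y).1, add_sub_cancel_right]
  have hb : ∀ A ∈ T, ∀ B ∈ T, A * B - B * A ∈ T := fun A hA B hB x y => by
    have h1 : (A * B - B * A) * DD K x y - DD K x y * (A * B - B * A) =
        (A * (B * DD K x y - DD K x y * B) - (B * DD K x y - DD K x y * B) * A) -
          (B * (A * DD K x y - DD K x y * A) - (A * DD K x y - DD K x y * A) * B) := by noncomm_ring
    have h2 : ∀ A B C : Matrix D1 D1 K, A * (B + C) - (B + C) * A = (A * B - B * A) + (A * C - C * A) := fun A B C => by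
      noncomm_ring
    rw [h1, hA, hB, h2, h2, hA, hA, hB, hB, sub_mulVec, sub_mulVec, ← mulVec_mulVec, ← mulVec_mulVec, ← mulVec_mulVec,
      ← mulVec_mulVec, sub_eq_add_neg (A *ᵥ _), sub_eq_add_neg (A *ᵥ _), DD_add_left, DD_add_right, R2.PX.DD_neg_left,
      R2.PX.DD_neg_right]
    abel
  have hH : ∀ i : Fin 7, R2.PX.Hi K i ∈ T := fun i => by
    have h1 := simple_lt7 i i.2
    rw [← neg_mem_iff, ← Lb.Hd_neg, ← R2.PX.NM_comm_neg (by omega)]
    exact hb _ (hN _ (by omega)) _ (hN _ (by omega))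
  have h : del K z ∈ T := by
    rw [R2.PX.del_apply]
    exact add_mem (Submodule.sum_mem _ fun i _ => T.smul_mem _ (hH i)) (Submodule.sum_mem _ fun r _ => T.smul_mem _ (hN r r.2))
  exact h x y

/-- the span of the elements `dd x y` -/
def nt_dd (W : Submodule K (D1 → K)) : Submodule K (chevE7.Idx → K) := Submodule.span K {z | ∃ x ∈ W, ∃ y ∈ W, z = dd x y}

theorem nt_dd_mem {W : Submodule K (D1 → K)} {x y : D1 → K} (hx : x ∈ W) (hy : y ∈ W) : dd x y ∈ nt_dd W :=
  Submodule.subset_span ⟨x, hx, y, hy, rfl⟩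

theorem nt_ann_le (W : Submodule K (D1 → K)) : nt_ann W ≤ nt_cen (nt_dd W) := by
  intro z hz w hw
  refine nt_cm_symm ((show nt_dd W ≤ nt_cen (Submodule.span K {z}) from Submodule.span_le.2 ?_) hw z
    (Submodule.mem_span_singleton_self z))
  rintro _ ⟨x, hx, y, hy, rfl⟩ w hw
  obtain ⟨t, rfl⟩ := Submodule.mem_span_singleton.1 hw
  have h1 := nt_del_DD (t • z) x y
  rw [(nt_ann W).smul_mem t hz x hx, (nt_ann W).smul_mem t hz y hy, DD_zero_left, DD_zero_right, add_zero, sub_eq_zero,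
    ← R2.PX.del_dd] at h1
  exact h1.symm

end Kf

namespace Sit

variable {p a b : ℕ} {F : Type u} {K : Type v} {k : Type u} [Field F] [Fintype F] [Field K] [Fintype K] [Field k]
  (S : Sit p a b F K k)

theorem nt_sv_dd (x y : D1 → k) : S.sv (dd x y) = dd (S.sv x) (S.sv y) := Mu.del_injective (by
  rw [S.nt_del_sv, R2.PX.del_dd, R2.PX.del_dd]
  exact (Mu.DD_emb S.s x y).symm)

theorem nt_stb_dd (hp : p ≠ 2) {W : Submodule k (D1 → k)} (hW : S.Stb (rho k) W) : S.Stb (adM k) (nt_dd W) := by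
  refine ⟨fun m hm z hz => ?_, fun z hz => ?_⟩
  · refine (show nt_dd W ≤ (nt_dd W).comap (toLin' (adM k m)) from Submodule.span_le.2 ?_) hz
    rintro _ ⟨x, hx, y, hy, rfl⟩
    show adM k m *ᵥ dd x y ∈ nt_dd W
    rw [Mu.dd_equi (S.nt_two hp)]
    exact nt_dd_mem (hW.1 m hm x hx) (hW.1 m hm y hy)
  · induction hz using Submodule.span_induction with
    | mem z hz =>
      obtain ⟨x, hx, y, hy, rfl⟩ := hz
      rw [S.nt_sv_dd]
      exact nt_dd_mem (hW.2 x hx) (hW.2 y hy)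
    | zero => rw [S.nt_sv_zero]; exact zero_mem _
    | add x y _ _ hx hy =>
      rw [show S.sv (x + y) = S.sv x + S.sv y from funext fun _ => map_add _ _ _]
      exact add_mem hx hy
    | smul t x _ hx =>
      rw [show S.sv (t • x) = S.s t • S.sv x from funext fun _ => map_mul _ _ _]
      exact Submodule.smul_mem _ _ hx

theorem nt_dd_ne (hp : p ≠ 2) {W : Submodule k (D1 → k)} (hW : S.Stb (rho k) W) (h0 : W ≠ ⊥) : nt_dd W ≠ ⊥ := fun h =>
  h0 (S.nt_white hp hW fun x hx y hy => (Mu.dd_eq_zero_iff x y).1 ((Submodule.eq_bot_iff _).1 h _ (nt_dd_mem hx hy)))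

theorem nt_jvNFT (hp : p ≠ 2) (hs : S.SSC) : S.JvNFT := fun _ h1 h2 h3 h4 =>
  S.nf_tor hp hs h1 h2 (fun x hx s z h => (h3 x hx s z h).2) h4

include S in
theorem nt_cases (hp : p ≠ 2) : p = 3 ∨ 5 ≤ p := by
  have h1 := S.prime
  have h2 := h1.two_le
  by_cases h4 : p = 4
  · rw [h4] at h1
    exact absurd h1 (by norm_num)
  omega

/-- **NoFix** -/
theorem nofix (hp : p ≠ 2) (hs : S.SSC) : S.NoFix :=
  (S.nt_cases hp).elim (fun h => S.jv_nofix h (S.ck hs) (S.nt_jvNFT hp hs)) fun h => S.nt_nf5 h hs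

/-- **NoFixV** -/
theorem nofixV (hp : p ≠ 2) (hs : S.SSC) : S.NoFixV := S.nt_nofixV hp (S.nofix hp hs)

/-- **ANN** : the annihilator of a non-zero stable subspace of `V` vanishes -/
theorem ann (hp : p ≠ 2) (hs : S.SSC) {W : Submodule k (D1 → k)} (hW : S.Stb (rho k) W) (h0 : W ≠ ⊥) : nt_ann W = ⊥ := by
  rcases S.nt_cases hp with h | h
  · exact (Submodule.eq_bot_iff _).2 fun z hz =>
      S.jv_ann3 h (S.ck hs) (S.pt hs wrep_V) (S.nt_jvNFT hp hs) hW h0 hz
  · exact eq_bot_iff.2 ((nt_ann_le W).trans (S.nt_nk h hs (S.nt_stb_dd hp hW) (S.nt_dd_ne hp hW h0)).le)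

/-- **EXPO** for every non-zero stable subspace of `V` -/
theorem expoV (hp : p ≠ 2) (hs : S.SSC) {W : Submodule k (D1 → k)} (hW : S.Stb (rho k) W) (h0 : W ≠ ⊥) :
    ∃ N : ℕ, (N : k) ≠ 0 ∧ ∀ x, (∀ y ∈ W, rho k x *ᵥ y = y) → x ^ N = 1 :=
  S.nt_expoV hp hs (S.nofix hp hs) hW h0 (S.ann hp hs hW h0)

theorem ptL (hp : p ≠ 2) (hs : S.SSC) {W : Submodule k (chevE7.Idx → k)} (hW : S.Stb (adM k) W) (h0 : W ≠ ⊥) {c : Gh k}
    (hc : ∀ y ∈ W, adM k c *ᵥ y = y) (h : c ^ p = 1) : c = 1 := by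
  obtain ⟨y, hy, h4⟩ := (Submodule.ne_bot_iff W).1 h0
  obtain ⟨x, hx⟩ := not_forall.1 fun h => h4 (S.nofix hp hs y h)
  exact S.pt hs wrep_L W hW ⟨x, y, hy, hx⟩ c hc h

/-- **IRR** : `A` lies in no proper parabolic subgroup -/
theorem irr (hp : p ≠ 2) (hs : S.SSC) {g : Gh k} {β : E} (hg : ∀ x, g⁻¹ * S.ψ x * g ∈ Pl k β) : β = 0 := by
  by_contra h0
  obtain ⟨l, hl⟩ := exists_dom β
  refine S.irr_odd hp (S.nofix hp hs) (g := g * (nL k l)⁻¹) (wL_ne h0) hl fun x => ?_
  have h1 := nL_conj_Pl l (hg x)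
  rwa [show nL k l * (g⁻¹ * S.ψ x * g) * (nL k l)⁻¹ = (g * (nL k l)⁻¹)⁻¹ * S.ψ x * (g * (nL k l)⁻¹) by group] at h1

end Sit

end Cfsg.Agent.E7P
end

-- part: E7P/Ex/Irl_mg
section
prune_inst 0x3460190077e2020000000514d2001e3222000400100b8800a8a00f060f896c268542a660ba30050208829084083001481110000042c000000e1c0000011901a0904002040140e119600099000888410000008040000000000000000000000000000000000
set_option linter.all false
open scoped Cfsg.Agent.FastGrp

-- part: E7P/Ex/Irl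
section
/-!
# S5932, task EXACT: irreducibility for subspaces of the Lie algebra (helper4)

* `Kf.ex_br_tv` : the bracket with a toral element;
* `Sit.ex_irrl` : a stable subspace of `g` with trivial centraliser lies in no proper parabolic subalgebra.
-/

set_option autoImplicit false
set_option maxRecDepth 100000

namespace Cfsg.Agent.E7P

open Cfsg Cfsg.Lie Matrix Module
open Cfsg.Agent.ChevalleyStructure.RootVec
open Cfsg.Agent.H943.E7V.Block (D1 rho)
open Cfsg.Agent.R2.T1 Cfsg.Agent.E7P.Kf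
open Cfsg.Agent.R2.PX (del)
open Cfsg.Agent.E7P.Br (br del_br br_eq_zero br_anti adM_br br_Ge del_map)

universe u v

namespace Kf

variable {K : Type u} [Field K]

/-- the values of the weights of the adjoint module on a toral element -/
def exVal (l : Fin 7 → K) : chevE7.Idx → K := Sum.elim (fun _ => 0) fun r : Fin chevE7.nroots => rval r (tv l)

theorem exVal_inl (l : Fin 7 → K) (i : Fin chevE7.rank) : exVal l (Sum.inl i) = 0 := rfl

theorem exVal_inr (l : Fin 7 → K) (r : Fin chevE7.nroots) : exVal l (Sum.inr r) = rval r (tv l) := rfl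

theorem ex_cv_inr (r : Fin chevE7.nroots) : cv (ac (Sum.inr r)) = rv r := by rw [ac_inr, rv]

theorem ex_br_single (l : Fin 7 → K) (a : chevE7.Idx) :
    br K (tv l) (Pi.single a 1) = exVal l a • (Pi.single a 1 : chevE7.Idx → K) := by
  rcases a with i | r
  · have h1 : (Pi.single (Sum.inl i) 1 : chevE7.Idx → K) = tv (Pi.single i 1) := by
      funext j
      rcases j with j | s
      · rw [tv_inl]
        by_cases h : j = i
        · subst h
          rw [Pi.single_eq_same]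
          exact (Pi.single_eq_same (M := fun _ : Fin 7 => K) j 1).symm
        · rw [Pi.single_eq_of_ne fun e => h (Sum.inl_injective e)]
          exact (Pi.single_eq_of_ne (M := fun _ : Fin 7 => K) h 1).symm
      · rw [tv_inr, Pi.single_eq_of_ne Sum.inr_ne_inl]
    rw [exVal_inl, zero_smul, br_eq_zero, h1, Cm, La.del_tv, La.del_tv,
      diagonal_mul_diagonal, diagonal_mul_diagonal]
    simp only [mul_comm]
  · refine Mu.del_injective ?_
    rw [del_br, map_smul, R2.PX.del_inr, La.tv_NM l r.2, exVal_inr]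

/-- the bracket with a toral element -/
theorem ex_br_tv (l : Fin 7 → K) (y : chevE7.Idx → K) (a : chevE7.Idx) : br K (tv l) y a = exVal l a * y a := by
  conv_lhs => rw [pi_eq_sum_univ' y, map_sum, Finset.sum_apply]
  rw [Finset.sum_eq_single a]
  · rw [map_smul, ex_br_single, Pi.smul_apply, Pi.smul_apply, Pi.single_eq_same, smul_eq_mul, smul_eq_mul, mul_one,
      mul_comm]
  · intro c _ hc
    rw [map_smul, ex_br_single, Pi.smul_apply, Pi.smul_apply, Pi.single_eq_of_ne hc.symm, smul_zero, smul_zero]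
  · intro h
    exact absurd (Finset.mem_univ _) h

theorem ex_jump {m : Fin 7 → ℤ} {l : Fin 7 → K} (hl : ∀ r < 126, pc r m = 0 → rval r (tv l) = 0) {y : chevE7.Idx → K}
    (hy : y ∈ Ge K ac (cv m) 0) : br K y (tv l) ∈ Ge K ac (cv m) 1 := by
  rw [br_anti]
  refine neg_mem fun a ha => ?_
  rw [ex_br_tv] at ha
  rcases a with i | r
  · rw [exVal_inl, zero_mul] at ha
    exact absurd rfl ha
  · have h1 := hy _ (right_ne_zero_of_mul ha)
    rw [exVal_inr] at ha
    have h2 : pc r m ≠ 0 := fun h => left_ne_zero_of_mul ha (hl r r.2 h)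
    rw [ex_cv_inr, bf_cv_rv m r.2] at h1 ⊢
    have h3 : (0 : ℤ) ≤ pc r m := by exact_mod_cast h1
    exact_mod_cast (by omega : (1 : ℤ) ≤ pc r m)

theorem ex_span {I : Type*} [Fintype I] [DecidableEq I] {x0 : I → K} {j0 : I} (hj0 : x0 j0 ≠ 0) (v : I → K) :
    v ∈ Submodule.span K (Set.range fun i => if i = j0 then x0 else Pi.single i 1) := by
  have h4 : x0 ∈ Submodule.span K (Set.range fun i => if i = j0 then x0 else (Pi.single i 1 : I → K)) :=
    Submodule.subset_span ⟨j0, if_pos rfl⟩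
  have h5 : v - (v j0 / x0 j0) • x0 ∈
      Submodule.span K (Set.range fun i => if i = j0 then x0 else (Pi.single i 1 : I → K)) := by
    rw [pi_eq_sum_univ' (v - (v j0 / x0 j0) • x0)]
    refine Submodule.sum_mem _ fun j _ => ?_
    by_cases hj : j = j0
    · rw [hj, Pi.sub_apply, Pi.smul_apply, smul_eq_mul, div_mul_cancel₀ _ hj0, sub_self, zero_smul]
      exact zero_mem _
    · exact Submodule.smul_mem _ _ (Submodule.subset_span ⟨j, if_neg hj⟩)
  have h6 := add_mem h5 (Submodule.smul_mem _ (v j0 / x0 j0) h4)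
  rwa [sub_add_cancel] at h6

/-- the minors of the adjoint maps are unstable -/
theorem ex_unst (h2 : (2 : K) ≠ 0) {W : Submodule K (chevE7.Idx → K)} (hC : ∀ y, (∀ x ∈ W, Cm x y) → y = 0) {g : Gh K}
    {m : Fin 7 → ℤ} {l : Fin 7 → K} (hl : ∀ r < 126, pc r m = 0 → rval r (tv l) = 0) (hl1 : l ≠ 0)
    (hg : ∀ x ∈ W, adM K g⁻¹ *ᵥ x ∈ Ge K ac (cv m) 0) :
    Unst (fun i : chevE7.Idx → chevE7.Idx => ∑ t, ac (i t)) (powR _ (adM K))
      (PX chevE7.Idx fun x : W => br K (x : chevE7.Idx → K)) := by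
  obtain ⟨j0, hj, hj0⟩ : ∃ j0 : chevE7.Idx, tv l j0 ≠ 0 ∧ ac j0 = 0 := by
    obtain ⟨j, hj⟩ := Function.ne_iff.1 hl1
    exact ⟨Sum.inl j, hj, rfl⟩
  refine unst_PX ?_ g (cv m) fun b x i hd => ?_
  · let B := Module.finBasis K W
    obtain ⟨_, ⟨b, x, rfl⟩, hv⟩ := PX_ne (τ := chevE7.Idx) (φ := fun s => br K (B s : chevE7.Idx → K)) ⊤
      (by rw [finrank_top, finrank_fintype_fun_eq_card]) fun y _ h0 => hC y fun x hx => by
        rw [← br_eq_zero, show x = ((⟨x, hx⟩ : W) : chevE7.Idx → K) from rfl, ← B.sum_repr ⟨x, hx⟩, Submodule.coe_sum,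
          map_sum, LinearMap.sum_apply]
        exact Finset.sum_eq_zero fun s _ => by rw [Submodule.coe_smul, map_smul, LinearMap.smul_apply, h0 s, smul_zero]
    exact ⟨_, ⟨b, fun t => B (x t), rfl⟩, hv⟩
  let b0 : chevE7.Idx → chevE7.Idx → K := fun s => if s = j0 then tv l else Pi.single s 1
  let n : chevE7.Idx → ℝ := fun s => bf (cv m) (cv (ac s)) + if s = j0 then 1 else 0
  let f : chevE7.Idx → (chevE7.Idx → K) →ₗ[K] K := fun t =>
    LinearMap.proj (i t) ∘ₗ toLin' (adM K g⁻¹) ∘ₗ br K (x t : chevE7.Idx → K)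
  have hf : ∀ t y, f t (adM K g *ᵥ y) = br K (adM K g⁻¹ *ᵥ (x t : chevE7.Idx → K)) y (i t) := by
    intro t y
    show (adM K g⁻¹ *ᵥ br K (x t : chevE7.Idx → K) (adM K g *ᵥ y)) (i t) = _
    rw [adM_br h2, mulVec_inv]
  have h1 := sum_le_of_det f b (fun s => adM K g *ᵥ b0 s) ⊥ (fun t y hy => by rw [hy, map_zero]) (fun y => ?_) n
    (fun t => bf (cv m) (cv (ac (i t)))) (fun t s hts => ?_) hd
  · refine lt_of_lt_of_le ?_ h1
    have h3 := congrArg (bf (cv m)) sum_ac
    rw [map_sum, map_zero] at h3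
    rw [Finset.sum_add_distrib, h3, Finset.sum_ite_eq', if_pos (Finset.mem_univ _), zero_add]
    exact one_pos
  · refine Submodule.mem_sup_left ?_
    have h5 := Submodule.mem_map_of_mem (f := toLin' (adM K g)) (ex_span (x0 := tv l) (j0 := j0) hj
      (adM K g⁻¹ *ᵥ y))
    rw [Submodule.map_span, ← Set.range_comp, toLin'_apply, mulVec_inv'] at h5
    exact h5
  · rw [hf] at hts
    by_cases hs : s = j0
    · have e1 : b0 s = tv l := if_pos hs
      have e2 : n s = 1 := by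
        show bf (cv m) (cv (ac s)) + (if s = j0 then 1 else 0) = _
        rw [if_pos hs, hs, hj0, cv_zero, map_zero, zero_add]
      rw [e1] at hts
      rw [e2]
      exact ex_jump hl (hg _ (x t).2) _ hts
    · have e1 : b0 s = Pi.single s 1 := if_neg hs
      have e2 : n s = 0 + bf (cv m) (cv (ac s)) := by
        show bf (cv m) (cv (ac s)) + (if s = j0 then 1 else 0) = _
        rw [if_neg hs, add_zero, zero_add]
      rw [e1] at hts
      rw [e2]
      refine br_Ge (hg _ (x t).2) (fun a ha => ?_) _ hts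
      rw [show a = s from by_contra fun h => ha (Pi.single_eq_of_ne h _)]

theorem ex_Ge_nL [Infinite K] {I : Type*} [Fintype I] [DecidableEq I] {c : I → Fin 7 → ℤ} {R : Gh K →* Matrix I I K}
    (hR : WRep c R) (l : List (Fin 7)) {β : E} {d : ℝ} {x : I → K} (hx : x ∈ Ge K c β d) :
    R (nL K l) *ᵥ x ∈ Ge K c (wL l β) d := by
  intro i hi
  obtain ⟨j, h1, h2⟩ := exists_col hi
  rw [hR.mon_nL l i j h1, wL_iso]
  exact hx j h2

theorem ex_Ge_face {β : E} (hβ : Dom β) {i : Fin 7} (hi : β i ≠ 0) :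
    Ge K ac β 0 ≤ Ge K ac (cv (Pi.single i 1)) 0 := by
  intro x hx a ha
  rcases a with j | r
  · rw [ac_inl, cv_zero, map_zero]
  · have h0 := hx _ ha
    rw [ex_cv_inr] at h0 ⊢
    have h1 : xs K r 1 ∈ Pl K (cv (Pi.single i 1)) := by
      refine Pl_le_of_supp hβ (fun j => ?_) (fun j hj => ?_) (xs_mem_Pl r.2 h0 1)
      · show (0 : ℝ) ≤ (((Pi.single i 1 : Fin 7 → ℤ) j : ℤ) : ℝ)
        rw [Pi.single_apply]
        split_ifs <;> simp
      · show (((Pi.single i 1 : Fin 7 → ℤ) j : ℤ) : ℝ) = 0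
        rw [Pi.single_eq_of_ne (fun e : j = i => hi (by rw [← e]; exact hj)), Int.cast_zero]
    exact nonneg_of_xs_mem r.2 one_ne_zero h1

theorem ex_rval_iC (i : Fin 7) {r : ℕ} (hr : r < 126) :
    rval r (tv fun j : Fin 7 => ((iC i j : ℤ) : K)) = 2 * (rt chevE7 r i : K) := by
  have h1 := chk_iC r hr i i.2
  rw [sum7] at h1
  have h3 := congrArg (Int.cast : ℤ → K) h1
  push_cast at h3
  rw [← h3]
  exact Finset.sum_congr rfl fun j _ => mul_comm _ _

theorem ex_map_br {K' : Type u} [Field K'] (f : K →+* K') (x y : chevE7.Idx → K) :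
    (fun i => f (br K x y i)) = br K' (fun i => f (x i)) fun i => f (y i) := Mu.del_injective (by
  rw [← del_map, del_br, del_br, ← del_map, ← del_map, Matrix.map_sub _ (map_sub f), Matrix.map_mul, Matrix.map_mul])

end Kf

namespace Sit

variable {p a b : ℕ} {F : Type u} {K : Type v} {k : Type u} [Field F] [Fintype F] [Field K] [Fintype K] [Field k]
  (S : Sit p a b F K k)

include S in
theorem ex_two (hp : p ≠ 2) : (2 : k) ≠ 0 := fun h =>
  have := S.chark
  hp ((Nat.prime_dvd_prime_iff_eq S.prime Nat.prime_two).1 ((CharP.cast_eq_zero_iff k p 2).1 (by exact_mod_cast h)))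

/-- **IRRL** -/
theorem ex_irrl (hp : p ≠ 2) {W : Submodule k (chevE7.Idx → k)} (hW : S.Stb (adM k) W)
    (hC : ∀ y, (∀ x ∈ W, Cm x y) → y = 0) {g : Gh k} {ν : E} (hg : ∀ x ∈ W, adM k g⁻¹ *ᵥ x ∈ Ge k ac ν 0) : ν = 0 := by
  have := S.closed
  have h2 := S.ex_two hp
  by_contra h0
  obtain ⟨l, hl⟩ := exists_dom ν
  obtain ⟨i, hi⟩ := Function.ne_iff.1 (wL_ne (l := l) h0)
  have hU := ex_unst h2 hC (g := g * (nL k l)⁻¹) (m := Pi.single i 1) (l := fun j : Fin 7 => ((iC i j : ℤ) : k))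
    (fun r hr h => by
      rw [pc, Finset.sum_eq_single i (fun j _ hj => by rw [Pi.single_eq_of_ne hj, mul_zero])
        (fun h => absurd (Finset.mem_univ _) h), Pi.single_eq_same, mul_one] at h
      rw [ex_rval_iC i hr, h, Int.cast_zero, mul_zero])
    (fun h => by
      have h3 := ex_rval_iC (K := k) i (simple_lt7 i i.2)
      rw [h, rt_simple i i.2 i i.2, if_pos rfl, Int.cast_one, mul_one] at h3
      apply h2
      rw [← h3]
      exact Finset.sum_eq_zero fun j _ => mul_zero _)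
    (fun x hx => by
      rw [_root_.mul_inv_rev, inv_inv, mulVec_mul]
      exact ex_Ge_face hl hi (ex_Ge_nL wrep_L l (hg x hx)))
  refine S.kill_unst (wrep_L.pow _) hU (fun y hy => ?_) ?_
  · exact PX_stab (fun z => adM k y *ᵥ z) (fun x : W => ⟨adM k y *ᵥ x, hW.1 y hy x x.2⟩) fun x z => adM_br h2 y x z
  · rintro _ ⟨z, x, rfl⟩
    refine ⟨fun s i => S.s (z s i), fun t => ⟨S.sv (x t), hW.2 _ (x t).2⟩, ?_⟩
    rw [map_mnr]
    congr 1
    funext t s
    exact ex_map_br S.s _ _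

end Sit

end Cfsg.Agent.E7P
end

-- part: E7P/Ns/Dfs
section
/-!
# S5932, NONSPLIT: the search for composition factors (helper88)

Vectors of multiplicities are packed into natural numbers (base `512`, one guard bit in every digit).
`dfs_ok` : if the search succeeds, then every decomposition of the vector passes the final test.
-/

set_option autoImplicit false

namespace Cfsg.Agent.E7P.Ns

/-- lists of pairs -/
inductive IL
  | nil
  | cons (v u : ℕ) (t : IL)

/-- lists of groups -/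
inductive GrL
  | nil
  | cons (K : ℕ) (l : IL) (t : GrL)

/-- the list -/
noncomputable def IL.tl (l : IL) : List (ℕ × ℕ) := IL.rec [] (fun v u _ r => (v, u) :: r) l

/-- the list -/
noncomputable def GrL.tl (l : GrL) : List (ℕ × ℕ) := GrL.rec [] (fun _ l _ r => l.tl ++ r) l

/-- evaluation -/
noncomputable def frc (x : ℕ) (k : ℕ → Bool) : Bool := Nat.rec (k 0) (fun n _ => k (Nat.succ n)) x

theorem frc_eq (x : ℕ) (k : ℕ → Bool) : frc x k = k x := by cases x <;> rfl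

/-- the sum of the digits -/
noncomputable def dm (m : ℕ) : ℕ → ℕ := Nat.rec (fun _ => 0) (fun _ r v => v % 512 + r (v / 512)) m

/-- the guard bits -/
noncomputable def msk (m : ℕ) : ℕ := Nat.rec 0 (fun _ r => 256 + 512 * r) m

/-- `t` has `m` digits with sum at most `d` -/
def Good (m : ℕ) : ℕ → ℕ → Prop :=
  Nat.rec (fun t _ => t = 0) (fun _ r t d => ∃ a t' d', t = a + 512 * t' ∧ a + d' ≤ d ∧ r t' d') m

theorem good_zero (m : ℕ) : ∀ d, Good m 0 d := by
  induction m with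
  | zero => exact fun _ => rfl
  | succ m ih => exact fun d => ⟨0, 0, 0, rfl, Nat.zero_le _, ih 0⟩

theorem Good.add {m : ℕ} : ∀ {t d s e : ℕ}, Good m t d → Good m s e → Good m (t + s) (d + e) := by
  induction m with
  | zero =>
    intro t d s e h1 h2
    have h3 : t = 0 := h1
    have h4 : s = 0 := h2
    show t + s = 0
    omega
  | succ m ih =>
    rintro t d s e ⟨a, t', d', h1, h2, h3⟩ ⟨b, s', e', h4, h5, h6⟩
    exact ⟨a + b, t' + s', d' + e', by omega, by omega, ih h3 h6⟩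

theorem good_dm (m : ℕ) : ∀ v, v < 512 ^ m → Good m v (dm m v) := by
  induction m with
  | zero =>
    intro v h
    show v = 0
    omega
  | succ m ih =>
    intro v h
    refine ⟨v % 512, v / 512, dm m (v / 512), by omega, le_rfl, ih _ ?_⟩
    rw [pow_succ] at h
    omega

theorem land_low : ∀ a < 256, (256 + a) &&& 256 = 256 := by decide +kernel

theorem Good.land {m : ℕ} : ∀ {t d : ℕ}, Good m t d → d < 256 → Nat.land (msk m + t) (msk m) = msk m := by
  induction m with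
  | zero => exact fun _ _ => Nat.and_zero _
  | succ m ih =>
    rintro t d ⟨a, t', d', h1, h2, h3⟩ hd
    have h4 : (msk m + t') &&& msk m = msk m := ih h3 (by omega)
    have h5 : msk (m + 1) = 256 + 512 * msk m := rfl
    show (msk (m + 1) + t) &&& msk (m + 1) = msk (m + 1)
    have h6 := @Nat.and_mod_two_pow (msk (m + 1) + t) (msk (m + 1)) 9
    have h7 := @Nat.and_div_two_pow (msk (m + 1) + t) (msk (m + 1)) 9
    rw [show (msk (m + 1) + t) % 2 ^ 9 = 256 + a by omega, show msk (m + 1) % 2 ^ 9 = 256 by omega,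
      land_low a (by omega)] at h6
    rw [show (msk (m + 1) + t) / 2 ^ 9 = msk m + t' by omega, show msk (m + 1) / 2 ^ 9 = msk m by omega, h4] at h7
    omega

/-- the search in one group -/
noncomputable def grp (M : ℕ) (k : ℕ → ℕ → Bool) (K : ℕ) (fuel : ℕ) : IL → ℕ → ℕ → Bool :=
  Nat.rec (fun _ _ _ => false) (fun _ ih l T U => Bool.rec
    (IL.rec true (fun v u l' r => Bool.rec r (Bool.rec false r (frc (Nat.sub T v) fun T' => ih (IL.cons v u l') T' (Nat.add U u)))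
      (Nat.beq (Nat.land (Nat.sub T v) M) M)) l)
    (k T U) (Nat.ble T K)) fuel

/-- the search -/
noncomputable def dfs (M : ℕ) (fin : ℕ → ℕ → Bool) (gs : GrL) : ℕ → ℕ → Bool :=
  GrL.rec fin (fun K l _ ih => grp M ih K (nat_lit 50) l) gs

/-- the sums -/
def sV (S : Multiset (ℕ × ℕ)) : ℕ := (S.map Prod.fst).sum

/-- the sums -/
def sU (S : Multiset (ℕ × ℕ)) : ℕ := (S.map Prod.snd).sum

/-- the sums -/
noncomputable def sD (m : ℕ) (S : Multiset (ℕ × ℕ)) : ℕ := (S.map fun x => dm m x.1).sum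

theorem sV_cons (x : ℕ × ℕ) (S : Multiset (ℕ × ℕ)) : sV (x ::ₘ S) = x.1 + sV S := by
  rw [sV, Multiset.map_cons, Multiset.sum_cons, sV]

theorem sU_cons (x : ℕ × ℕ) (S : Multiset (ℕ × ℕ)) : sU (x ::ₘ S) = x.2 + sU S := by
  rw [sU, Multiset.map_cons, Multiset.sum_cons, sU]

theorem sD_cons (m : ℕ) (x : ℕ × ℕ) (S : Multiset (ℕ × ℕ)) : sD m (x ::ₘ S) = dm m x.1 + sD m S := by
  rw [sD, Multiset.map_cons, Multiset.sum_cons, sD]

theorem good_sV {m : ℕ} (S : Multiset (ℕ × ℕ)) : (∀ x ∈ S, x.1 < 512 ^ m) → Good m (sV S) (sD m S) := by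
  induction S using Multiset.induction_on with
  | empty => exact fun _ => good_zero m _
  | cons x S ih =>
    intro h
    rw [sV_cons, sD_cons]
    exact (good_dm m _ (h x (Multiset.mem_cons_self x S))).add (ih fun y hy => h y (Multiset.mem_cons_of_mem hy))

theorem sV_le {m E : ℕ} (S : Multiset (ℕ × ℕ)) : (∀ x ∈ S, x.1 * 256 ≤ dm m x.1 * E) → sV S * 256 ≤ sD m S * E := by
  induction S using Multiset.induction_on with
  | empty => exact fun _ => Nat.zero_le _
  | cons x S ih =>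
    intro h
    rw [sV_cons, sD_cons, add_mul, add_mul]
    exact add_le_add (h x (Multiset.mem_cons_self x S)) (ih fun y hy => h y (Multiset.mem_cons_of_mem hy))

theorem test_ok {m n0 : ℕ} {S : Multiset (ℕ × ℕ)} (hS : ∀ x ∈ S, x.1 < 512 ^ (m + 1)) (hd : n0 + sD (m + 1) S < 256) :
    Nat.beq (Nat.land (msk (m + 1) + n0 + sV S) (msk (m + 1))) (msk (m + 1)) = true := by
  have h1 : Good (m + 1) n0 n0 := ⟨n0, 0, 0, rfl, le_rfl, good_zero m 0⟩
  rw [Nat.beq_eq, add_assoc]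
  exact (h1.add (good_sV S hS)).land hd

theorem grp_ok {m K E n0 : ℕ} {k : ℕ → ℕ → Bool} {rest : List (ℕ × ℕ)} {P : ℕ → Prop}
    (hk : ∀ (S : Multiset (ℕ × ℕ)) (U : ℕ), (∀ x ∈ S, x ∈ rest) → n0 + sD (m + 1) S < 256 →
      k (msk (m + 1) + n0 + sV S) U = true → P (U + sU S))
    (hK : K + 1 = msk (m + 1) + E) (hE : 256 ≤ E) (hr : ∀ x ∈ rest, x.1 * 256 ≤ dm (m + 1) x.1 * E ∧ x.1 < 512 ^ (m + 1))
    (fuel : ℕ) : ∀ l : IL, (∀ x ∈ l.tl, E ≤ x.1 ∧ x.1 < 512 ^ (m + 1)) → ∀ (S : Multiset (ℕ × ℕ)) (U : ℕ),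
      (∀ x ∈ S, x ∈ l.tl ∨ x ∈ rest) → n0 + sD (m + 1) S < 256 →
      grp (msk (m + 1)) k K fuel l (msk (m + 1) + n0 + sV S) U = true → P (U + sU S) := by
  induction fuel with
  | zero => exact fun _ _ _ _ _ _ h => absurd h Bool.false_ne_true
  | succ fuel ih =>
    intro l hl S U hS hd h
    obtain ⟨T, hT⟩ : ∃ T, T = msk (m + 1) + n0 + sV S := ⟨_, rfl⟩
    have h1 : (Bool.rec (IL.rec true (fun v u l' r => Bool.rec r (Bool.rec false r (frc (Nat.sub T v) fun T' =>
        grp (msk (m + 1)) k K fuel (IL.cons v u l') T' (Nat.add U u)))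
        (Nat.beq (Nat.land (Nat.sub T v) (msk (m + 1))) (msk (m + 1)))) l) (k T U) (Nat.ble T K) : Bool) = true := by
      rw [hT]
      exact h
    cases hb : Nat.ble T K
    · rw [hb] at h1
      have hb' : K < T := by
        by_contra h2
        rw [Nat.ble_eq_true_of_le (Nat.le_of_not_lt h2)] at hb
        exact Bool.noConfusion hb
      clear h hb
      induction l with
      | nil =>
        exfalso
        have h2 := sV_le (m := m + 1) (E := E) S fun x hx => (hr x ((hS x hx).resolve_left List.not_mem_nil)).1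
        have h3 : n0 * 256 ≤ n0 * E := Nat.mul_le_mul_left _ hE
        have h4 : (n0 + sD (m + 1) S) * E ≤ 255 * E := Nat.mul_le_mul_right _ (by omega)
        rw [add_mul] at h4
        omega
      | cons v u l' ih' =>
        have h2 : (Bool.rec (IL.rec true (fun v u l' r => Bool.rec r (Bool.rec false r (frc (Nat.sub T v) fun T' =>
          grp (msk (m + 1)) k K fuel (IL.cons v u l') T' (Nat.add U u)))
          (Nat.beq (Nat.land (Nat.sub T v) (msk (m + 1))) (msk (m + 1)))) l') (Bool.rec false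
          (IL.rec true (fun v u l' r => Bool.rec r (Bool.rec false r (frc (Nat.sub T v) fun T' =>
          grp (msk (m + 1)) k K fuel (IL.cons v u l') T' (Nat.add U u)))
          (Nat.beq (Nat.land (Nat.sub T v) (msk (m + 1))) (msk (m + 1)))) l') (frc (Nat.sub T v) fun T' =>
          grp (msk (m + 1)) k K fuel (IL.cons v u l') T' (Nat.add U u)))
          (Nat.beq (Nat.land (Nat.sub T v) (msk (m + 1))) (msk (m + 1))) : Bool) = true := h1
        have e : (IL.cons v u l').tl = (v, u) :: l'.tl := rfl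
        by_cases hx : (v, u) ∈ S
        · obtain ⟨S', rfl⟩ := Multiset.exists_cons_of_mem hx
          have h3 : Nat.sub T v = msk (m + 1) + n0 + sV S' := by
            rw [hT, sV_cons]
            show _ - v = _
            omega
          have h4 : n0 + sD (m + 1) S' < 256 := by
            rw [sD_cons] at hd
            omega
          have h5 : ∀ x ∈ S', x ∈ (IL.cons v u l').tl ∨ x ∈ rest := fun x hx => hS x (Multiset.mem_cons_of_mem hx)
          rw [h3, test_ok (fun x hx => (h5 x hx).elim (fun h => (hl x h).2) fun h => (hr x h).2) h4, frc_eq] at h2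
          cases h6 : grp (msk (m + 1)) k K fuel (IL.cons v u l') (msk (m + 1) + n0 + sV S') (Nat.add U u)
          · rw [h6] at h2
            exact Bool.noConfusion h2
          · have h7 := ih _ hl S' _ h5 h4 h6
            rw [sU_cons, ← add_assoc]
            exact h7
        · refine ih' (fun x hx => hl x (by rw [e]; exact List.mem_cons_of_mem _ hx)) (fun x hx' => ?_) ?_
          · refine (hS x hx').imp_left fun h => ?_
            rw [e] at h
            exact (List.mem_cons.1 h).resolve_left fun h => hx (h ▸ hx')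
          · revert h2
            cases Nat.beq (Nat.land (Nat.sub T v) (msk (m + 1))) (msk (m + 1))
            · exact id
            · cases frc (Nat.sub T v) fun T' => grp (msk (m + 1)) k K fuel (IL.cons v u l') T' (Nat.add U u)
              · exact fun h => Bool.noConfusion h
              · exact id
    · rw [hb, hT] at h1
      refine hk S U (fun x hx => (hS x hx).resolve_left fun h2 => ?_) hd h1
      obtain ⟨S', rfl⟩ := Multiset.exists_cons_of_mem hx
      have h3 := (hl x h2).1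
      have h4 := Nat.le_of_ble_eq_true hb
      rw [sV_cons] at hT
      omega

/-- the test of the groups -/
noncomputable def okG (m : ℕ) (gs : GrL) : Bool :=
  GrL.rec true (fun K l t r => r && (Nat.ble (msk m + 255) K &&
    (l.tl.all (fun x => Nat.ble (K + 1 - msk m) x.1 && Nat.blt x.1 (512 ^ m)) &&
      t.tl.all fun x => Nat.ble (x.1 * 256) (dm m x.1 * (K + 1 - msk m)) && Nat.blt x.1 (512 ^ m)))) gs

/-- **the search** -/
theorem dfs_ok {m n0 : ℕ} {fin : ℕ → ℕ → Bool} (gs : GrL) : okG (m + 1) gs = true → ∀ (S : Multiset (ℕ × ℕ)) (U : ℕ),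
    (∀ x ∈ S, x ∈ gs.tl) → n0 + sD (m + 1) S < 256 → dfs (msk (m + 1)) fin gs (msk (m + 1) + n0 + sV S) U = true →
    fin (msk (m + 1) + n0) (U + sU S) = true := by
  induction gs with
  | nil =>
    intro _ S U hS _ h
    obtain rfl : S = 0 := Multiset.eq_zero_of_forall_notMem fun x hx => List.not_mem_nil (hS x hx)
    exact h
  | cons K l t ih =>
    intro hok S U hS hd h
    have h1 : (okG (m + 1) t && (Nat.ble (msk (m + 1) + 255) K &&
      (l.tl.all (fun x => Nat.ble (K + 1 - msk (m + 1)) x.1 && Nat.blt x.1 (512 ^ (m + 1))) &&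
      t.tl.all fun x => Nat.ble (x.1 * 256) (dm (m + 1) x.1 * (K + 1 - msk (m + 1))) &&
        Nat.blt x.1 (512 ^ (m + 1))))) = true := hok
    simp only [Bool.and_eq_true, List.all_eq_true, Nat.ble_eq, Nat.blt_eq] at h1
    obtain ⟨h2, h3, h4, h5⟩ := h1
    exact grp_ok (K := K) (E := K + 1 - msk (m + 1)) (P := fun U => fin (msk (m + 1) + n0) U = true) (ih h2) (by omega)
      (by omega) h5 50 l h4 S U (fun x hx => List.mem_append.1 (hS x hx)) hd h

end Cfsg.Agent.E7P.Ns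
end

-- part: E7P/Ns/Alc
section
/-!
# S5932, NONSPLIT: the points of the alcove (helper88)

The multiplicities of the eigenvalues on the adjoint module are the coefficients of the generating function
`∑ q ^ r(y) + q ^ (N - r(y))` (sum over the positive roots), which is evaluated at `q = 512` coordinate by coordinate.
`cls_ok` : the test `go` holds for all classes.
-/

set_option autoImplicit false
set_option maxRecDepth 100000

namespace Cfsg.Agent.E7P.Ns

open Cfsg.Agent.R2.T1 (RL dt cL cnt cnt_eq RL_len)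
open Cfsg.Agent.H944.Tab (dotN)
open Cfsg.Agent.H944.E7Two (th7)

/-- the scalar product with the digits in base `8` -/
noncomputable def d8 (ys : List ℕ) : ℕ → ℕ := List.rec (fun _ => 0) (fun y _ r c => y * (c % 8) + r (c / 8)) ys

/-- the value of a polynomial -/
noncomputable def val (l : IL) (ys : List ℕ) : ℕ := IL.rec 0 (fun c a _ r => a * 512 ^ d8 ys c + r) l

theorem val_cons (c a : ℕ) (l : IL) (ys : List ℕ) : val (.cons c a l) ys = a * 512 ^ d8 ys c + val l ys := rfl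

/-- loops -/
noncomputable def loop (n : ℕ) (f : ℕ → Bool) : Bool := Nat.rec true (fun x r => Bool.rec false r (f x)) n

theorem loop_ok {f : ℕ → Bool} (n : ℕ) : loop n f = true → ∀ x < n, f x = true := by
  induction n with
  | zero => exact fun _ x hx => absurd hx (Nat.not_lt_zero x)
  | succ n ih =>
    intro h x hx
    have h1 : (Bool.rec false (loop n f) (f n) : Bool) = true := h
    cases h2 : f n
    · rw [h2] at h1
      exact Bool.noConfusion h1
    · rw [h2] at h1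
      rcases Nat.lt_succ_iff_lt_or_eq.1 hx with h3 | rfl
      · exact ih h1 x h3
      · exact h2

/-- substitution of the first variable -/
noncomputable def step (x : ℕ) (l : IL) : (IL → Bool) → Bool :=
  IL.rec (fun k => k IL.nil) (fun c y _ ih k => ih fun r => frc (Nat.div c (nat_lit 8)) fun s =>
    IL.rec (frc (Nat.shiftLeft y (Nat.mul x (Nat.mod c (nat_lit 8)))) fun a => k (IL.cons s a IL.nil))
      (fun s' b l' _ => Bool.rec
        (frc (Nat.shiftLeft y (Nat.mul x (Nat.mod c (nat_lit 8)))) fun a => k (IL.cons s a (IL.cons s' b l')))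
        (frc (Nat.add b (Nat.shiftLeft y (Nat.mul x (Nat.mod c (nat_lit 8))))) fun a => k (IL.cons s a l'))
        (Nat.beq s s')) r) l

theorem shift_eq (a x : ℕ) : Nat.shiftLeft a (Nat.mul 9 x) = a * 512 ^ x := by
  show a <<< (9 * x) = _
  rw [Nat.shiftLeft_eq, pow_mul]
  rfl

theorem step_ok (x : ℕ) (l : IL) : ∀ k, step (Nat.mul 9 x) l k = true →
    ∃ l', k l' = true ∧ ∀ ys, val l' ys = val l (x :: ys) := by
  induction l with
  | nil => exact fun k h => ⟨.nil, h, fun _ => rfl⟩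
  | cons c y t ih =>
    intro k h
    obtain ⟨r, h1, h2⟩ := ih _ h
    have e : Nat.shiftLeft y (Nat.mul (Nat.mul 9 x) (Nat.mod c 8)) = y * 512 ^ (x * (c % 8)) := by
      rw [← shift_eq]
      exact congrArg _ (mul_assoc 9 x (c % 8))
    have e2 : ∀ ys, val (.cons c y t) (x :: ys) = y * 512 ^ (x * (c % 8)) * 512 ^ d8 ys (c / 8) + val r ys := by
      intro ys
      rw [val_cons, h2, mul_assoc, ← pow_add]
      rfl
    rw [frc_eq] at h1
    cases r with
    | nil =>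
      have h3 : (frc (Nat.shiftLeft y (Nat.mul (Nat.mul 9 x) (Nat.mod c 8))) fun a =>
        k (IL.cons (c / 8) a IL.nil)) = true := h1
      rw [frc_eq, e] at h3
      exact ⟨_, h3, fun ys => by rw [e2, val_cons]⟩
    | cons s' b l' =>
      have h3 : (Bool.rec (frc (Nat.shiftLeft y (Nat.mul (Nat.mul 9 x) (Nat.mod c 8))) fun a =>
        k (IL.cons (c / 8) a (IL.cons s' b l')))
        (frc (Nat.add b (Nat.shiftLeft y (Nat.mul (Nat.mul 9 x) (Nat.mod c 8)))) fun a => k (IL.cons (c / 8) a l'))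
        (Nat.beq (c / 8) s') : Bool) = true := h1
      rw [frc_eq, frc_eq, e] at h3
      cases h4 : Nat.beq (c / 8) s'
      · rw [h4] at h3
        exact ⟨_, h3, fun ys => by rw [e2, val_cons]⟩
      · rw [h4] at h3
        refine ⟨_, h3, fun ys => ?_⟩
        rw [e2, val_cons, val_cons, ← Nat.eq_of_beq_eq_true h4, Nat.add_eq]
        ring

/-- the enumeration -/
noncomputable def enum (leaf : IL → ℕ → Bool) (ts : List ℕ) : IL → ℕ → Bool :=
  List.rec leaf (fun t _ ih st R => loop (Nat.succ (Nat.div R t)) fun x => step (Nat.mul (nat_lit 9) x) st fun st' =>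
    frc (Nat.sub R (Nat.mul t x)) fun R' => ih st' R') ts

theorem enum_ok {leaf : IL → ℕ → Bool} (ts : List ℕ) : (∀ t ∈ ts, 0 < t) → ∀ st R, enum leaf ts st R = true →
    ∀ y : List ℕ, y.length = ts.length → dotN ts y ≤ R →
      ∃ st', leaf st' (R - dotN ts y) = true ∧ ∀ zs, val st' zs = val st (y ++ zs) := by
  induction ts with
  | nil =>
    intro _ st R h y hy _
    obtain rfl : y = [] := List.length_eq_zero_iff.1 hy
    exact ⟨st, h, fun _ => rfl⟩
  | cons t ts ih =>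
    intro h0 st R h y hy hR
    cases y with
    | nil => exact absurd hy (Nat.succ_ne_zero _).symm
    | cons x y =>
      have e : dotN (t :: ts) (x :: y) = t * x + dotN ts y := rfl
      rw [e] at hR ⊢
      have h1 : x < R / t + 1 := Nat.lt_succ_of_le ((Nat.le_div_iff_mul_le (h0 t List.mem_cons_self)).2 (by
        rw [mul_comm]; omega))
      have h' : loop (R / t + 1) (fun x => step (Nat.mul 9 x) st fun st' =>
        frc (Nat.sub R (Nat.mul t x)) fun R' => enum leaf ts st' R') = true := h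
      obtain ⟨st', h2, h3⟩ := step_ok x st _ (loop_ok _ h' x h1)
      rw [frc_eq] at h2
      obtain ⟨st'', h4, h5⟩ := ih (fun s hs => h0 s (List.mem_cons_of_mem _ hs)) st' (R - t * x) h2 y
        (Nat.succ_injective hy) (by omega)
      exact ⟨st'', by rw [← Nat.sub_sub]; exact h4, fun zs => by rw [h5, h3]; rfl⟩

/-- the last two variables -/
noncomputable def leaf (P : ℕ) (go : ℕ → Bool) (st : IL) (R : ℕ) : Bool :=
  IL.rec false (fun s0 a st _ => IL.rec false (fun s1 b st _ => IL.rec false (fun s2 c st _ =>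
    IL.rec false (fun s3 d st _ => IL.rec (Bool.rec false
      (frc (Nat.add a (Nat.shiftLeft d (Nat.mul (nat_lit 9) R))) fun a' => loop (Nat.succ R) fun x =>
        frc (Nat.mod (Nat.add a' (Nat.add (Nat.shiftLeft b (Nat.mul (nat_lit 9) x))
          (Nat.shiftLeft c (Nat.mul (nat_lit 9) (Nat.sub R x))))) P) fun G => go (Nat.add G (Nat.mod G (nat_lit 512))))
      (Nat.beq s0 (nat_lit 0) && (Nat.beq s1 (nat_lit 1) && (Nat.beq s2 (nat_lit 8) && Nat.beq s3 (nat_lit 9)))))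
      (fun _ _ _ _ => false) st) st) st) st) st

theorem leaf_ok {P : ℕ} {go : ℕ → Bool} {st : IL} {R : ℕ} (h : leaf P go st R = true) {x : ℕ} (hx : x ≤ R) :
    go (val st [x, R - x] % P + val st [x, R - x] % P % 512) = true := by
  rcases st with _ | ⟨s0, a, _ | ⟨s1, b, _ | ⟨s2, c, _ | ⟨s3, d, _ | _⟩⟩⟩⟩ <;> try exact Bool.noConfusion h
  have h1 : (Bool.rec false (frc (Nat.add a (Nat.shiftLeft d (Nat.mul 9 R))) fun a' => loop (Nat.succ R) fun x =>
        frc (Nat.mod (Nat.add a' (Nat.add (Nat.shiftLeft b (Nat.mul 9 x))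
          (Nat.shiftLeft c (Nat.mul 9 (Nat.sub R x))))) P) fun G => go (Nat.add G (Nat.mod G 512)))
      (Nat.beq s0 0 && (Nat.beq s1 1 && (Nat.beq s2 8 && Nat.beq s3 9))) : Bool) = true := h
  cases h2 : (Nat.beq s0 0 && (Nat.beq s1 1 && (Nat.beq s2 8 && Nat.beq s3 9)))
  · rw [h2] at h1
    exact Bool.noConfusion h1
  rw [h2, frc_eq] at h1
  simp only [Bool.and_eq_true, Nat.beq_eq] at h2
  obtain ⟨rfl, rfl, rfl, rfl⟩ := h2
  have h3 := loop_ok _ h1 x (Nat.lt_succ_of_le hx)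
  rw [frc_eq, shift_eq, shift_eq, shift_eq] at h3
  have e : val (.cons 0 a (.cons 1 b (.cons 8 c (.cons 9 d .nil)))) [x, R - x] =
      Nat.add (Nat.add a (d * 512 ^ R)) (Nat.add (b * 512 ^ x) (c * 512 ^ Nat.sub R x)) := by
    show a * 512 ^ (x * 0 + ((R - x) * 0 + 0)) + (b * 512 ^ (x * 1 + ((R - x) * 0 + 0)) +
      (c * 512 ^ (x * 0 + ((R - x) * 1 + 0)) + (d * 512 ^ (x * 1 + ((R - x) * 1 + 0)) + 0))) =
      a + d * 512 ^ R + (b * 512 ^ x + c * 512 ^ (R - x))
    simp only [mul_zero, mul_one, add_zero, zero_add, pow_zero, Nat.add_sub_cancel' hx]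
    ring
  rw [e]
  exact h3

/-- the exponents of the generating function -/
def codes : List ℕ :=
  [1, 8, 64, 65, 512, 520, 576, 577, 584, 585, 4096, 4608, 4616, 4672, 4673, 4680, 4681, 5192, 5193, 5257,
   32768, 36864, 37376, 37384, 37440, 37441, 37448, 37449, 37960, 37961, 38025, 42056, 42057, 42121, 42633,
   42641, 262144, 294912, 299008, 299520, 299528, 299584, 299585, 299592, 299593, 300104, 300105, 300169,
   304200, 304201, 304265, 304777, 304785, 336968, 336969, 337033, 337545, 337553, 341641, 341649, 342161,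
   342225, 342226, 2097152, 2097153, 2097217, 2097729, 2097737, 2101825, 2101833, 2102345, 2102409, 2102410,
   2134593, 2134601, 2135113, 2135177, 2135178, 2139209, 2139273, 2139274, 2139785, 2139786, 2139793,
   2139794, 2139850, 2139858, 2140370, 2144466, 2177234, 2396737, 2396745, 2397257, 2397321, 2397322,
   2401353, 2401417, 2401418, 2401929, 2401930, 2401937, 2401938, 2401994, 2402002, 2402514, 2406610,
   2434121, 2434185, 2434186, 2434697, 2434698, 2434705, 2434706, 2434762, 2434770, 2435282, 2438793,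
   2438794, 2438801, 2438802, 2438858, 2438866, 2439313, 2439314, 2439370, 2439377]

/-- the generating function -/
noncomputable def ofL (l : List ℕ) : IL := List.rec IL.nil (fun c _ r => IL.cons c 1 r) l

theorem val_ofL (l ys : List ℕ) : val (ofL l) ys = (l.map fun c => 512 ^ d8 ys c).sum := by
  induction l with
  | nil => rfl
  | cons c l ih =>
    rw [List.map_cons, List.sum_cons, ← ih]
    exact congrArg (· + _) (one_mul _)

/-- the code of a vector -/
noncomputable def cd (l : List ℕ) : ℕ := List.rec 0 (fun a _ r => a + 8 * r) l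

theorem d8_zero (ys : List ℕ) : d8 ys 0 = 0 := by
  induction ys with
  | nil => rfl
  | cons y ys ih => exact (zero_add _).trans ih

theorem d8_cd (l : List ℕ) : ∀ ys zs : List ℕ, (∀ a ∈ l, a < 8) → l.length = ys.length → ∀ c,
    d8 (ys ++ zs) (cd l + 8 ^ l.length * c) = dt l ys + d8 zs c := by
  induction l with
  | nil =>
    intro ys zs _ h c
    obtain rfl : ys = [] := List.length_eq_zero_iff.1 h.symm
    show d8 zs (0 + 8 ^ 0 * c) = 0 + _
    rw [pow_zero, one_mul, zero_add, zero_add]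
  | cons a l ih =>
    intro ys zs h hl c
    cases ys with
    | nil => exact absurd hl (Nat.succ_ne_zero _)
    | cons y ys =>
      have h1 := h a List.mem_cons_self
      show y * ((a + 8 * cd l + 8 ^ (l.length + 1) * c) % 8) + d8 (ys ++ zs) ((a + 8 * cd l + 8 ^ (l.length + 1) * c) / 8) =
        a * y + dt l ys + d8 zs c
      rw [pow_succ', mul_assoc, show (a + 8 * cd l + 8 * (8 ^ l.length * c)) % 8 = a by omega,
        show (a + 8 * cd l + 8 * (8 ^ l.length * c)) / 8 = cd l + 8 ^ l.length * c by omega,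
        ih ys zs (fun b hb => h b (List.mem_cons_of_mem _ hb)) (Nat.succ_injective hl), mul_comm, add_assoc]

theorem dt_sub (t : List ℕ) : ∀ w y : List ℕ, List.Forall₂ (· ≤ ·) w t →
    dt (List.zipWith (· - ·) t w) y + dt w y = dotN t y := by
  induction t with
  | nil =>
    intro w y h
    cases h
    rfl
  | cons a t ih =>
    intro w y h
    cases h with
    | @cons b _ w _ h1 h2 =>
      cases y with
      | nil => rfl
      | cons x y =>
        show (a - b) * x + dt (List.zipWith (· - ·) t w) y + (b * x + dt w y) = a * x + dotN t y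
        rw [← ih w y h2, add_add_add_comm, ← add_mul, Nat.sub_add_cancel h1]

theorem codes_perm : codes.Perm (RL.map (fun w => cd w.2 + 8 ^ 7 * 0) ++
    RL.map fun w => cd (List.zipWith (· - ·) th7 w.2) + 8 ^ 7 * 1) := by decide +kernel

theorem RL_le : ∀ w ∈ RL, List.Forall₂ (· ≤ ·) w.2 th7 ∧ (∀ a ∈ w.2, a < 8) ∧
    (∀ a ∈ List.zipWith (· - ·) th7 w.2, a < 8) ∧ (List.zipWith (· - ·) th7 w.2).length = 7 := by decide +kernel

theorem dt_le {w : ℕ × List ℕ} (hw : w ∈ RL) (y : List ℕ) : dt w.2 y ≤ dotN th7 y := by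
  rw [← dt_sub th7 w.2 y (RL_le w hw).1]
  exact Nat.le_add_left _ _

theorem val_codes {N : ℕ} {y : List ℕ} (hy : y.length = 7) (hN : dotN th7 y ≤ N) :
    val (ofL codes) (y ++ [N - dotN th7 y]) = (RL.map fun w => 512 ^ dt w.2 y + 512 ^ (N - dt w.2 y)).sum := by
  rw [val_ofL, (codes_perm.map _).sum_eq, List.map_append, List.sum_append, List.map_map, List.map_map, List.sum_map_add]
  refine congrArg₂ (· + ·) (congrArg _ (List.map_congr_left fun w hw => ?_)) (congrArg _ (List.map_congr_left fun w hw => ?_))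
  · have h1 := d8_cd w.2 y [N - dotN th7 y] (RL_le w hw).2.1 ((RL_len w hw).trans hy.symm) 0
    rw [RL_len w hw, d8_zero, add_zero] at h1
    exact congrArg _ h1
  · have h1 := d8_cd _ y [N - dotN th7 y] (RL_le w hw).2.2.1 ((RL_le w hw).2.2.2.trans hy.symm) 1
    rw [(RL_le w hw).2.2.2] at h1
    have h2 := dt_sub th7 w.2 y (RL_le w hw).1
    have h3 : d8 [N - dotN th7 y] 1 = (N - dotN th7 y) * 1 + 0 := rfl
    exact congrArg _ (h1.trans (by omega))

/-- a part of the enumeration -/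
noncomputable def ch (P : ℕ) (go : ℕ → Bool) (N j : ℕ) : Bool :=
  Nat.blt N (2 * (j / 16) + 2 * (j % 16)) || step (Nat.mul 9 (j / 16)) (ofL codes) fun st =>
    step (Nat.mul 9 (j % 16)) st fun st => enum (leaf P go) [3, 4, 3, 2] st (N - (2 * (j / 16) + 2 * (j % 16)))

/-- a part of the enumeration -/
noncomputable def chR (P : ℕ) (go : ℕ → Bool) (N lo n : ℕ) : Bool := loop n fun i => ch P go N (lo + i)

theorem chR_ok {P : ℕ} {go : ℕ → Bool} {N lo n : ℕ} (h : chR P go N lo n = true) {j : ℕ} (h1 : lo ≤ j) (h2 : j < lo + n) :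
    ch P go N j = true := by
  have h3 := loop_ok _ h (j - lo) (by omega)
  rwa [Nat.add_sub_cancel' h1] at h3

theorem ch_ok {P : ℕ} {go : ℕ → Bool} {N : ℕ} (hN : N ≤ 31) (h : ∀ j < 256, ch P go N j = true) {y : List ℕ}
    (hy : y.length = 7) (hy' : dotN th7 y ≤ N) : ∃ G, G = (RL.map fun w => 512 ^ dt w.2 y + 512 ^ (N - dt w.2 y)).sum ∧
      go (G % P + G % P % 512) = true := by
  refine ⟨_, rfl, ?_⟩
  rw [← val_codes hy hy']
  rcases y with _ | ⟨y1, _ | ⟨y2, _ | ⟨y3, _ | ⟨y4, _ | ⟨y5, _ | ⟨y6, _ | ⟨y7, _ | _⟩⟩⟩⟩⟩⟩⟩ <;> try simp at hy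
  have e : dotN th7 [y1, y2, y3, y4, y5, y6, y7] =
    2 * y1 + (2 * y2 + (3 * y3 + (4 * y4 + (3 * y5 + (2 * y6 + (1 * y7 + 0)))))) := rfl
  have e' : dotN [3, 4, 3, 2] [y3, y4, y5, y6] = 3 * y3 + (4 * y4 + (3 * y5 + (2 * y6 + 0))) := rfl
  have h1 := h (16 * y1 + y2) (by omega)
  rw [ch, show (16 * y1 + y2) / 16 = y1 by omega, show (16 * y1 + y2) % 16 = y2 by omega, Bool.or_eq_true,
    Nat.blt_eq] at h1
  obtain ⟨s1, h2, h3⟩ := step_ok _ _ _ (h1.resolve_left (by omega))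
  obtain ⟨s2, h4, h5⟩ := step_ok _ _ _ h2
  obtain ⟨s3, h6, h7⟩ := enum_ok _ (by decide) _ _ h4 [y3, y4, y5, y6] rfl (by omega)
  have h8 := leaf_ok h6 (x := y7) (by omega)
  rw [h7, h5, h3, show N - (2 * y1 + 2 * y2) - dotN [3, 4, 3, 2] [y3, y4, y5, y6] - y7 =
    N - dotN th7 [y1, y2, y3, y4, y5, y6, y7] by omega] at h8
  exact h8

/-- the place of the eigenvalue `z ^ s` -/
def pl (N s : ℕ) : ℕ := 512 ^ s % 512 ^ (N / 2 + 1)

/-- the classes -/
def Cls (N X : ℕ) : Prop := ∃ y : List ℕ, y.length = 7 ∧ dotN th7 y ≤ N ∧ X = ∑ s ∈ Finset.range N, cL N y s * pl N s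

/-- the test of the places -/
def okE (N : ℕ) : Bool := (List.range (N + 1)).all fun v =>
  Nat.beq (((List.range N).map fun s => ((if v % N == s then 1 else 0) + (if (v + s) % N == 0 then 1 else 0)) * pl N s).sum)
    ((512 ^ v + 512 ^ (N - v)) % 512 ^ (N / 2 + 1) + (512 ^ v + 512 ^ (N - v)) % 512) &&
  (Nat.ble ((512 ^ v + 512 ^ (N - v)) % 512 ^ (N / 2 + 1) * 64) (512 ^ (N / 2 + 1)) &&
    Nat.ble ((512 ^ v + 512 ^ (N - v)) % 512 * 64) 512)

theorem sum_mod {α : Type} (g : α → ℕ) {P : ℕ} (hP : 0 < P) (l : List α) (hl : l.length < 64)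
    (h : ∀ w ∈ l, g w % P * 64 ≤ P) : (l.map g).sum % P = (l.map fun w => g w % P).sum := by
  have h1 : ∀ l : List α, (∀ w ∈ l, g w % P * 64 ≤ P) → (l.map fun w => g w % P).sum * 64 ≤ l.length * P ∧
      (l.map g).sum % P = (l.map fun w => g w % P).sum % P := by
    intro l
    induction l with
    | nil => exact fun _ => ⟨Nat.zero_le _, rfl⟩
    | cons a l ih =>
      intro h
      obtain ⟨h2, h3⟩ := ih fun w hw => h w (List.mem_cons_of_mem _ hw)
      have h4 := h a List.mem_cons_self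
      rw [List.map_cons, List.sum_cons, List.map_cons, List.sum_cons, List.length_cons, add_mul, add_mul, one_mul]
      exact ⟨by omega, by rw [Nat.add_mod, h3, Nat.add_mod_mod]⟩
  obtain ⟨h2, h3⟩ := h1 l h
  have h4 : l.length * P ≤ 63 * P := Nat.mul_le_mul_right _ (by omega)
  rw [h3, Nat.mod_eq_of_lt (by omega)]

theorem sum_cnt {α : Type} (N : ℕ) (p q : α → ℕ → Bool) (e : ℕ → ℕ) (l : List α) :
    ∑ s ∈ Finset.range N, (cnt (fun w => p w s) l + cnt (fun w => q w s) l) * e s =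
      (l.map fun w => ((List.range N).map fun s => ((if p w s then 1 else 0) + (if q w s then 1 else 0)) * e s).sum).sum := by
  induction l with
  | nil => exact Finset.sum_eq_zero fun s _ => zero_mul _
  | cons a l ih =>
    rw [List.map_cons, List.sum_cons, ← ih, R2.T1.list_sum_range, ← Finset.sum_add_distrib]
    refine Finset.sum_congr rfl fun s _ => ?_
    rw [← add_mul, add_add_add_comm]
    rfl

/-- **the test holds for all classes** -/
theorem cls_ok {go : ℕ → Bool} {N : ℕ} (hN0 : 0 < N) (hN : N ≤ 31) (hE : okE N = true)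
    (h : ∀ j < 256, ch (512 ^ (N / 2 + 1)) go N j = true) {X : ℕ} (hX : Cls N X) : ∃ Y, X = 7 + Y ∧ go Y = true := by
  obtain ⟨y, hy, hy', rfl⟩ := hX
  obtain ⟨G, hG, h1⟩ := ch_ok hN h hy hy'
  refine ⟨_, ?_, h1⟩
  simp only [okE, List.all_eq_true, List.mem_range, Bool.and_eq_true, Nat.beq_eq, Nat.ble_eq] at hE
  have h2 : ∀ w ∈ RL, dt w.2 y < N + 1 := fun w hw => Nat.lt_succ_of_le ((dt_le hw y).trans hy')
  have hl : RL.length < 64 := by decide
  rw [Nat.mod_mod_of_dvd _ (dvd_pow_self 512 (Nat.succ_ne_zero _)), hG,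
    sum_mod _ (Nat.pow_pos (by norm_num)) RL hl fun w hw => (hE _ (h2 w hw)).2.1,
    sum_mod _ (by norm_num) RL hl fun w hw => (hE _ (h2 w hw)).2.2, ← List.sum_map_add,
    ← List.map_congr_left fun w hw => (hE _ (h2 w hw)).1, ← sum_cnt]
  simp only [cL, add_mul (ite _ _ _)]
  rw [Finset.sum_add_distrib, Finset.sum_eq_single_of_mem 0 (Finset.mem_range.2 hN0) fun s _ hs => by
    rw [if_neg hs, zero_mul], if_pos rfl, pl, pow_zero, Nat.mod_eq_of_lt (Nat.one_lt_pow (Nat.succ_ne_zero _) (by norm_num))]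

end Cfsg.Agent.E7P.Ns
end

-- part: E7P/Ns/Num
section
/-!
# S5932, NONSPLIT: the arithmetic (helper88)

`num_ok` : the tests `okG`, `okL`, `go` exclude the multiplicity functions with the forced factors and the pressure inequality.
-/

set_option autoImplicit false

namespace Cfsg.Agent.E7P.Ns

open Cfsg.Agent.R2.H28.SL2 (hb)
open Finset

/-- the digits of `m` are bounded by the digits of `b` -/
def inB (p b m : ℕ) : Bool :=
  Nat.ble (m % p) (b % p) && (Nat.ble (m / p % p) (b / p % p) && Nat.ble (m / p / p % p) (b / p / p % p))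

/-- sums over the weights -/
def sB (p b : ℕ) (f : ℕ → ℕ) : ℕ := ((List.range (b + 1)).map fun m => if inB p b m then f m else 0).sum

/-- the dimension -/
def dimN (p b : ℕ) : ℕ := sB p b fun _ => 1

/-- the multiplicities of the eigenvalues -/
def vec (N p b : ℕ) : ℕ := sB p b fun m => pl N ((m + N * b - b / 2) % N)

/-- the label of `J₁(j)` -/
def wl (p a j : ℕ) : ℕ := p ^ j + (p - 2) * p ^ ((j + a - 1) % a)

/-- the forced factors -/
def fo (p a b : ℕ) : ℕ := if ∃ j < a, b = 2 * p ^ j then 1 else if ∃ j < a, b = wl p a j then 2 else 0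

/-- the additional data -/
def ud (p a : ℕ) (sm : ℕ → ℕ) (b : ℕ) : ℕ := hb p a b + 512 * sm b

/-- sums over the forced factors -/
def sF (p a : ℕ) (g : ℕ → ℕ) : ℕ := ((List.range (p ^ a)).map fun b => if fo p a b = 0 then 0 else fo p a b * g b).sum

theorem sF_eq (p a : ℕ) (g : ℕ → ℕ) : sF p a g = ∑ b ∈ range (p ^ a), fo p a b * g b := by
  rw [sF, R2.T1.list_sum_range]
  refine sum_congr rfl fun b _ => ?_
  split_ifs with h
  · rw [h, zero_mul]
  · rfl

/-- membership -/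
noncomputable def mem (x : ℕ) (l : List ℕ) : Bool := List.rec false (fun y _ r => Bool.rec r true (Nat.beq x y)) l

theorem mem_ok {x : ℕ} {l : List ℕ} : mem x l = true ↔ x ∈ l := by
  induction l with
  | nil => exact ⟨fun h => Bool.noConfusion h, fun h => absurd h List.not_mem_nil⟩
  | cons y l ih =>
    have e : mem x (y :: l) = Bool.rec (mem x l) true (Nat.beq x y) := rfl
    rw [e, List.mem_cons, ← ih, ← Nat.beq_eq]
    cases Nat.beq x y <;> simp

/-- the final test -/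
noncomputable def fin (M a U0 : ℕ) (cs : List ℕ) (T U : ℕ) : Bool :=
  Bool.rec true (Bool.rec true false (mem (Nat.div (Nat.add U (Nat.mul (Nat.sub T M) U0)) 512) cs))
    (Nat.ble (Nat.add (Nat.sub T M) a) (Nat.mod (Nat.add U (Nat.mul (Nat.sub T M) U0)) 512))

/-- the test of a class -/
noncomputable def go (M C a U0 UF : ℕ) (cs : List ℕ) (gs : GrL) (X : ℕ) : Bool :=
  frc (Nat.add C X) fun T => Bool.rec true (dfs M (fin M a U0 cs) gs T UF) (Nat.beq (Nat.land T M) M)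

/-- the test of the labels -/
noncomputable def okL (p a N m : ℕ) (sm : ℕ → ℕ) (gs : GrL) (M C U0 UF : ℕ) : Bool :=
  okG m gs && (Nat.beq M (msk m) && (Nat.beq (C + sF p a (vec N p)) (M + 7) && (Nat.beq UF (sF p a (ud p a sm)) &&
    (Nat.beq U0 (ud p a sm 0) && (Nat.beq (fo p a 0) 0 && (Nat.beq (vec N p 0) 1 && (Nat.beq (dimN p 0) 1 &&
    frc (sF p a (dimN p)) fun fd => (List.range (p ^ a)).all fun b => Nat.beq (b % 2) 1 || frc (dimN p b) fun d =>
      Nat.ble (hb p a b) d && (Nat.beq b 0 || Nat.blt 133 (d + fd) || frc (vec N p b) fun v => frc (ud p a sm b) fun u =>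
        gs.tl.any (fun x => Nat.beq x.1 v && Nat.beq x.2 u) && (Nat.ble (dm m v) d && Nat.blt v (512 ^ m))))))))))

theorem msum (s : Finset ℕ) (n : ℕ → ℕ) (x : ℕ → ℕ × ℕ) (g : ℕ × ℕ → ℕ) :
    ((∑ b ∈ s, Multiset.replicate (n b) (x b)).map g).sum = ∑ b ∈ s, n b * g (x b) := by
  induction s using Finset.induction_on with
  | empty => rfl
  | insert b s hb ih =>
    rw [sum_insert hb, sum_insert hb, Multiset.map_add, Multiset.sum_add, ih, Multiset.map_replicate,
      Multiset.sum_replicate, smul_eq_mul]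

/-- **the arithmetic** -/
theorem num_ok {p a N m M C U0 UF : ℕ} {sm : ℕ → ℕ} {cs : List ℕ} {gs : GrL} (hp0 : 0 < p)
    (hL : okL p a N (m + 1) sm gs M C U0 UF = true) {n : ℕ → ℕ} (hdim : ∑ b ∈ range (p ^ a), n b * dimN p b = 133)
    (hev : ∀ b, n b ≠ 0 → Even b) (hf : ∀ b, fo p a b ≤ n b) (hp : n 0 + a ≤ ∑ b ∈ range (p ^ a), n b * hb p a b)
    (hs : ∑ b ∈ range (p ^ a), n b * sm b ∈ cs) {Y : ℕ} (hY : ∑ b ∈ range (p ^ a), n b * vec N p b = 7 + Y)
    (hgo : go M C a U0 UF cs gs Y = true) : False := by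
  simp only [okL, frc_eq, Bool.and_eq_true, Bool.or_eq_true, List.all_eq_true, List.any_eq_true, List.mem_range,
    Nat.beq_eq, Nat.ble_eq, Nat.blt_eq, sF_eq] at hL
  obtain ⟨hG, rfl, hC, rfl, rfl, f0, v0, d0, hl⟩ := hL
  have hl' := fun b (hb : b ∈ range (p ^ a)) (h : n b ≠ 0) => (hl b (mem_range.1 hb)).resolve_left
    (by have := Nat.even_iff.1 (hev b h); omega)
  have key : ∀ g : ℕ → ℕ, ∑ b ∈ range (p ^ a), n b * g b = n 0 * g 0 + ∑ b ∈ range (p ^ a), fo p a b * g b +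
      ∑ b ∈ (range (p ^ a)).erase 0, (n b - fo p a b) * g b := by
    intro g
    have h1 := add_sum_erase (range (p ^ a)) (fun b => (n b - fo p a b) * g b) (mem_range.2 (Nat.pow_pos hp0))
    simp only [f0, Nat.sub_zero] at h1
    rw [add_right_comm, h1, ← sum_add_distrib]
    exact sum_congr rfl fun b _ => by rw [← add_mul, Nat.sub_add_cancel (hf b)]
  obtain ⟨S, hS⟩ : ∃ S, S = ∑ b ∈ (range (p ^ a)).erase 0,
    Multiset.replicate (n b - fo p a b) (vec N p b, ud p a sm b) := ⟨_, rfl⟩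
  have h1 := key (dimN p)
  rw [hdim, d0] at h1
  have h2 : ∀ b ∈ (range (p ^ a)).erase 0, n b - fo p a b ≠ 0 → (vec N p b, ud p a sm b) ∈ gs.tl ∧
      dm (m + 1) (vec N p b) ≤ dimN p b ∧ vec N p b < 512 ^ (m + 1) := by
    intro b hb h
    have h3 := single_le_sum (f := fun b => (n b - fo p a b) * dimN p b) (fun _ _ => Nat.zero_le _) hb
    have h4 : 1 * dimN p b ≤ (n b - fo p a b) * dimN p b := Nat.mul_le_mul_right _ (by omega)
    obtain ⟨⟨x, hx, h5, h6⟩, h7⟩ := (hl' b (mem_of_mem_erase hb) (by omega)).2.resolve_left (by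
      have := ne_of_mem_erase hb
      omega)
    exact ⟨by rw [← h5, ← h6]; exact hx, h7⟩
  have h3 : ∀ x ∈ S, x ∈ gs.tl ∧ x.1 < 512 ^ (m + 1) := by
    intro x hx
    rw [hS, Multiset.mem_sum] at hx
    obtain ⟨b, hb, hx⟩ := hx
    obtain ⟨h4, rfl⟩ := Multiset.mem_replicate.1 hx
    exact ⟨(h2 b hb h4).1, (h2 b hb h4).2.2⟩
  have h4 : sD (m + 1) S ≤ ∑ b ∈ (range (p ^ a)).erase 0, (n b - fo p a b) * dimN p b := by
    rw [sD, hS, msum]
    refine sum_le_sum fun b hb => ?_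
    by_cases h : n b - fo p a b = 0
    · rw [h, zero_mul, zero_mul]
    · exact Nat.mul_le_mul_left _ (h2 b hb h).2.1
  have h5 : Nat.add C Y = msk (m + 1) + n 0 + sV S := by
    have h6 := key (vec N p)
    rw [hY, v0] at h6
    rw [sV, hS, msum, Nat.add_eq]
    simp only
    omega
  have h6 : n 0 + sD (m + 1) S < 256 := by omega
  rw [go, frc_eq, h5, test_ok (fun x hx => (h3 x hx).2) h6] at hgo
  have h7 := dfs_ok gs hG S _ (fun x hx => (h3 x hx).1) h6 hgo
  have h8 : ∑ b ∈ range (p ^ a), n b * hb p a b ≤ 133 := by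
    rw [← hdim]
    refine sum_le_sum fun b hb => ?_
    by_cases h : n b = 0
    · rw [h, zero_mul, zero_mul]
    · exact Nat.mul_le_mul_left _ (hl' b hb h).1
  have h9 : Nat.add (∑ b ∈ range (p ^ a), fo p a b * ud p a sm b + sU S)
      (Nat.mul (Nat.sub (msk (m + 1) + n 0) (msk (m + 1))) (ud p a sm 0)) =
      ∑ b ∈ range (p ^ a), n b * hb p a b + 512 * ∑ b ∈ range (p ^ a), n b * sm b := by
    have h10 := key (ud p a sm)
    rw [sU, hS, msum, Nat.add_eq, Nat.mul_eq, Nat.sub_eq, Nat.add_sub_cancel_left, mul_sum, ← sum_add_distrib,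
      sum_congr rfl fun b _ => (show n b * hb p a b + 512 * (n b * sm b) = n b * ud p a sm b by rw [ud]; ring), h10]
    simp only
    omega
  rw [fin, h9, Nat.ble_eq_true_of_le (by
    show _ - _ + a ≤ _ % 512
    omega), mem_ok.2 (by
    show _ / 512 ∈ cs
    rw [show (∑ b ∈ range (p ^ a), n b * hb p a b + 512 * ∑ b ∈ range (p ^ a), n b * sm b) / 512 =
      ∑ b ∈ range (p ^ a), n b * sm b by omega]
    exact hs)] at h7
  exact Bool.noConfusion h7

end Cfsg.Agent.E7P.Ns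
end

-- part: E7P/Ns/D125
section
/-!
# S5932, NONSPLIT: the field with 125 elements, data (helper88)
-/

set_option autoImplicit false
set_option maxRecDepth 100000
set_option Elab.async false

namespace Cfsg.Agent.E7P.Ns

/-- the classes of order 7 -/
def tab7 : List ℕ :=
  [126, 13896, 278588, 1852970, 2637866, 7077960, 138425384, 142606396, 272383008, 675036186, 809514014, 944777758,
  948699178, 1212428314, 1346380328, 1350565930, 1481125908, 1614557718, 1615865878, 2017209366, 2019040790,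
  2019825686, 2021131296, 2021132826, 2151686174, 2151689234, 2151945256, 2151950356, 2152474640, 2153259026,
  2154299944, 2154302494, 2284331048, 2286166552, 2286430734, 2286952468, 2287997466, 2420909582, 2421432846,
  2422216212, 2554865166, 2555126798, 2555127308, 2555387920, 2687510550, 2688557588, 2688558608, 2689603606,
  2689863198, 2820417566, 2823037966, 2956729878, 2956992530, 3223593498, 3224118292, 3358596630, 3489931304,
  3491242014, 3623878728, 4027063840, 4027850266, 4294967868, 4294972458, 4697624106]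

/-- the classes of order 3 -/
def tab3 : List ℕ := [126, 13896, 16956, 21546, 23076]

/-- the multiplicities for the orders 7 and 3 -/
def sm125 (b : ℕ) : ℕ := vec 7 5 b + 512 ^ 4 * vec 3 5 b

/-- the pairs of classes -/
def cs125 : List ℕ := tab7.flatMap fun x => tab3.map fun y => 7 + x + 512 ^ 4 * (7 + y)

theorem okE7 : okE 7 = true := by decide +kernel

theorem okE3 : okE 3 = true := by decide +kernel

theorem c7 : chR (512 ^ (7 / 2 + 1)) (fun x => mem x tab7) 7 0 256 = true := by decide +kernel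

theorem c3 : chR (512 ^ (3 / 2 + 1)) (fun x => mem x tab3) 3 0 256 = true := by decide +kernel

/-- the labels -/
def gs125 : GrL :=
  (.cons (nat_lit 11215749432249323419278583726263948416254207)
  (.cons (nat_lit 130838903039042087313115928635877792155139) (nat_lit 451240329432536576)
  (.cons (nat_lit 87282926550544927522570641934663620756995) (nat_lit 451240329298580992)
  (.cons (nat_lit 87282760072526900749650578803657064318467) (nat_lit 451240260713321984)
  (.cons (nat_lit 130838736560390235235350124885166004634114) (nat_lit 288793808082832384)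
  (.cons (nat_lit 43726783584663563841358526116922359284226) (nat_lit 288793808082832384)
  (.cons (nat_lit 43641380035629627497294394760488150631426) (nat_lit 288793808082832384)
  (.cons (nat_lit 87197356849279163819084168835376039068675) (nat_lit 270744156347567616)
  (.cons (nat_lit 43641546514915300030007855043549333816323) (nat_lit 270744156481523200)
  (.cons (nat_lit 87282760072526900744918952849447093010432) (nat_lit 234680174822034432)
  (.cons (nat_lit 87282593594508873976730479573278182866944) (nat_lit 234680106236775424)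
  (.cons (nat_lit 87197522677626260402323776423186213110272) (nat_lit 234680174955990016)
  (.cons (nat_lit 43726617106011714186185192836879639380480) (nat_lit 234680174955990016)
  (.cons (nat_lit 43726617106010473828294268227346525323776) (nat_lit 234680106236775424)
  (.cons (nat_lit 43726450627993687413265111726658945548800) (nat_lit 234680174822034432)
  (.cons (nat_lit 43641213882763977255618800918250349920769) (nat_lit 144432122706265600)
  (.cons (nat_lit 87197356849279163819074927378503076675584) (nat_lit 144396869748656128)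
  (.cons (nat_lit 87197356524126787283108073592328323858432) (nat_lit 144396869614700544)
  (.cons (nat_lit 43726617106010473823562678372371036897280) (nat_lit 144396869748656128)
  (.cons (nat_lit 87282593593873808313993832358438347210752) (nat_lit 126312102360777728)
  (.cons (nat_lit 43641213557611600719642723724854504456192) (nat_lit 126312102360777728)
  (.cons (nat_lit 43641213558245423597182832748658964824576) (nat_lit 90283236622074880)
  (.cons (nat_lit 43556142966515186563465367881941182841345) (nat_lit 90248052115768832)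
  (.cons (nat_lit 87197356524125546920494782464672204324864) (nat_lit 72198469233935360)
  (.cons (nat_lit 43556142966515186563465349867473953882112) (nat_lit 54113633126842369)
  (.cons (nat_lit 43556142965881363681202874360868299079680) (nat_lit 54113633126581248)
  (.cons (nat_lit 43556142965881361263351235131541230190592) (nat_lit 18084835973398528)
  .nil)))))))))))))))))))))))))) (.cons (nat_lit 11172278359875173530571137620164540027240703)
  (.cons (nat_lit 85237070383324633661691396477849698817) (nat_lit 144432054121006592)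
  (.cons (nat_lit 85403548400113466542469112025269404160) (nat_lit 144396938333915136)
  (.cons (nat_lit 85236745229710157655552194843960148480) (nat_lit 144396938333915136)
  (.cons (nat_lit 85403223247736930566391953813661810688) (nat_lit 126312102360777728)
  (.cons (nat_lit 85237070382086693622406016134230835200) (nat_lit 90283305207333888)
  (.cons (nat_lit 85070916882613574415926557382050578945) (nat_lit 90248052116029952)
  (.cons (nat_lit 85403223247734507992386241685532704768) (nat_lit 72198469099979776)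
  (.cons (nat_lit 85237070382086688890798111644849274880) (nat_lit 54113633126581248) .nil))))))))
  (.cons (nat_lit 11172193455436942769069755889488564620230911)
  (.cons (nat_lit 166478653092435656728395566981580291) (nat_lit 270744225066782208)
  (.cons (nat_lit 166478651852073034195881406643569153) (nat_lit 90248052115768832)
  (.cons (nat_lit 166478018026772920081145473919877120) (nat_lit 54113633260797953)
  (.cons (nat_lit 166478018026772910839759038555619328) (nat_lit 18084767388139520) .nil))))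
  (.cons (nat_lit 11172193289607961849613698503295838105764095)
  (.cons (nat_lit 325153616898589386335450608960515) (nat_lit 162446521349965312)
  (.cons (nat_lit 325153619321163373997995856232961) (nat_lit 144432122840221184)
  (.cons (nat_lit 324518553658426744797554530058241) (nat_lit 36064050110792192) .nil)))
  (.cons (nat_lit 11172193289284077121255385891213430436790527)
  (.cons (nat_lit 635065658005057359933201187329) (nat_lit 90248120835244544)
  (.cons (nat_lit 633825300114132750331233174017) (nat_lit 54148817632887296) .nil))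
  (.cons (nat_lit 11172193289283444533895311061892956984312063)
  (.cons (nat_lit 1240362622514499761828528640) (nat_lit 144396869614700544)
  (.cons (nat_lit 1237940039285415459271213057) (nat_lit 36064050244747776) .nil))
  (.cons (nat_lit 11172193289283443298373123415741940434600191)
  (.cons (nat_lit 2422583247098632212840960) (nat_lit 90283236488119296)
  (.cons (nat_lit 2422574005712196982800384) (nat_lit 72198400514720768) .nil))
  (.cons (nat_lit 11172193289283443295959994142995551730401535)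
  (.cons (nat_lit 4731607904558101299713) (nat_lit 90248052249985536)
  (.cons (nat_lit 4731589854906634469376) (nat_lit 54113633126581248) .nil))
  (.cons (nat_lit 11172193289283443295955280999884718939963647)
  (.cons (nat_lit 9241421688590303745) (nat_lit 90248052115768832)
  (.cons (nat_lit 9241421619736347137) (nat_lit 54148886218146304) .nil))
  (.cons (nat_lit 11172193289283443295955271794527080594669823)
  (.cons (nat_lit 18049651601048065) (nat_lit 54148817498931712)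
  (.cons (nat_lit 18014398509481985) (nat_lit 18049651601048064) .nil))
  (.cons (nat_lit 11172193289283443295955271776547866457276671)
  (.cons (nat_lit 35184372088833) (nat_lit 18049583015789056) .nil)
  (.cons (nat_lit 11172193289283443295955271776512750804664575)
  (.cons (nat_lit 68853957120) (nat_lit 54113701846056961) .nil)
  (.cons (nat_lit 11172193289283443295955271776512682219405567)
  (.cons (nat_lit 134479872) (nat_lit 18084836107354112) .nil)
  (.cons (nat_lit 11172193289283443295955271776512682085449983) (.cons (nat_lit 262657) (nat_lit 36063981525533184)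
  .nil) (.cons (nat_lit 11172193289283443295955271776512682085188351)
  (.cons (nat_lit 513) (nat_lit 18049582881833472) .nil) .nil)))))))))))))))

theorem okL125 : okL 5 3 31 (15 + 1) (sm125) gs125 11172193289283443295955271776512682085187840
    11085080670394376869282500896437065748183812
    35184372089344 378830753966065158 = true := by decide +kernel

theorem okE125 : okE 31 = true := by decide +kernel

end Cfsg.Agent.E7P.Ns
end

-- part: E7P/A1/Iface
section
/-!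
# S5932, task A1: the finite check (statement) (helper13)

`a / m` are the labels of the optimal coweight, `P0`, `P1` the indices of level `0`, `1` and weight `0`, `2`.
-/

set_option autoImplicit false

namespace Cfsg.Agent.E7P.A1

open Cfsg Cfsg.Lie Cfsg.Agent.E7P.Kf
open Cfsg.Agent.ChevalleyStructure.RootVec (rt)

/-- the value of the root `r` on the labels `a` -/
def pz (r : ℕ) (a : Fin 7 → ℤ) : ℤ := ∑ j : Fin 7, rt chevE7 r j * a j

/-- the level of an index -/
def il (a : Fin 7 → ℕ) : chevE7.Idx → ℤ := Sum.elim (fun _ => 0) fun r : Fin chevE7.nroots => pz r fun j => a j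

/-- the number of indices with a property -/
noncomputable def cnt (P : chevE7.Idx → Prop) : ℕ := Nat.card {i // P i}

/-- the highest level -/
def top (a : Fin 7 → ℕ) : ℕ := 2 * a 0 + 2 * a 1 + 3 * a 2 + 4 * a 3 + 3 * a 4 + 2 * a 5 + a 6

/-- twice the norm -/
def nrm (a : Fin 7 → ℕ) : ℤ := ∑ i : Fin 7, ∑ j : Fin 7, a i * iC i j * a j

/-- **the finite check** -/
def FIN : Prop := ∀ (p m : ℕ) (a : Fin 7 → ℕ) (P0 P1 : chevE7.Idx → Prop), (p = 11 ∨ p = 13 ∨ p = 17) →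
  (m = 3 ∨ m = 4) → (∀ j, a j ≤ m) → (p - 2) * m ≤ top a → top a ≤ (p - 1) * m →
  (∀ z : ℤ, z < 0 → cnt (fun i => il a i = z) ≤ cnt fun i => il a i = z + m) →
  (∀ i, P1 i → il a i = m) → (∀ i, P0 (Sum.inl i)) →
  (∀ r s t, ac r = ac s + ac t → P1 r → P1 s → P0 t) →
  cnt P0 ≤ cnt P1 + cnt (fun i => il a i = -(((p - 1) * m : ℕ) : ℤ)) → 7 ≤ cnt P1 →
  (∀ ζ : Fin 7 → ℤ, (∀ r : Fin chevE7.nroots, P1 (Sum.inr r) → pz r ζ = 0) → ζ = 0) →
  top a = (p - 2) * m ∧ ¬ (p : ℤ) ∣ nrm a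

end Cfsg.Agent.E7P.A1
end

private theorem dce_3aa2f0f2dbcd : _root_.True := by
  try have : _root_.True := by simp only [_root_.Cfsg.Agent.E7P.Ns.sF.eq_1]
  try have : _root_.True := by simp only [_root_.Cfsg.Agent.E7P.Kf.Cm.eq_1]
  try have : _root_.True := by simp only [_root_.Cfsg.Agent.E7P.Ns.okE.eq_1]
  try have : _root_.True := by simp only [_root_.Cfsg.Agent.E7P.Ns.ch.eq_1]
  try have : _root_.True := by simp only [_root_.Cfsg.Agent.E7P.Ns.sV.eq_1]
  try have : _root_.True := by simp only [_root_.Cfsg.Agent.E7P.Ns.go.eq_1]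
  try have : _root_.True := by simp only [_root_.Cfsg.Agent.E7P.Ns.sD.eq_1]
  try have : _root_.True := by simp only [_root_.Cfsg.Agent.E7P.Ns.fin.eq_1]
  try have : _root_.True := by simp only [_root_.Cfsg.Agent.E7P.Ns.pl.eq_1]
  try have : _root_.True := by simp only [_root_.Cfsg.Agent.E7P.Ns.okL.eq_1]
  try have : _root_.True := by simp only [_root_.Cfsg.Agent.E7P.Ns.sU.eq_1]
  try have : _root_.True := by simp only [_root_.Cfsg.Agent.E7P.Ns.ud.eq_1]
  exact _root_.True.intro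
end

-- part: E7P/Ns/Main_mg
section
prune_inst 0x1140090056a2000000000004920018102a000400100300000000000004890800844006600000010008000000000001000000000040c000000e1c0000000000000040000000404019000090000008010000008040000000000000000000000000000000000
set_option linter.all false
open scoped Cfsg.Agent.FastGrp

-- part: E7P/Ns/Rep
section
/-!
# S5932, NONSPLIT: the classes of the semisimple elements of `SL₂(K)` (helper88)

`cls` : the multiplicities of the eigenvalues of an element of order `2 N` on the adjoint module belong to a point of the alcove.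
-/

set_option autoImplicit false
set_option maxRecDepth 100000

namespace Cfsg.Agent.E7P.Ns

open Cfsg Cfsg.Lie Module Finset
open Cfsg.Agent.ChevalleyStructure.CoxeterGeom Cfsg.Agent.Tits.Roots
open Cfsg.Agent.ChevalleyStructure Cfsg.Agent.ChevalleyStructure.Elts
open Cfsg.Agent.ChevalleyStructure.StBasic Cfsg.Agent.H129.StCover
open Cfsg.Agent.H944.RootVals Cfsg.Agent.H944.Kac Cfsg.Agent.H944.Tab Cfsg.Agent.H944.E7Two
open Cfsg.Agent.R2.T1 Cfsg.Agent.R2.T1.Five
open Cfsg.Agent.H952.F4 (ev)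
open Cfsg.Agent.R2.H28.SL2 (IsMult mf choose_ne_iff dg_zero_of_le pow_eq_one_of_isSS)
open Cfsg.Agent.H943.SL2Mod (Bf)
open Cfsg.Agent.H943.RepAdd (eig)
open Cfsg.Agent.H179.SLC (IsSS exists_isSS isSS_h)
open Cfsg.Agent.BpExc.TorAll (HAlg)

universe u v

/-- representatives in the alcove, for the order in the adjoint group -/
theorem alc_ad {K : Type u} [Field K] {N : ℕ} (hN : 0 < N) {z : Kˣ} (hz : IsPrimitiveRoot z N) {x g : Gh K}
    {c : Fin chevE7.rank → Kˣ} (h1 : Phi K c = g * x * g⁻¹) (h2 : ∀ j : Fin 7, rtv (chevE7.simple j) c ^ N = 1) :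
    ∃ y : List ℕ, y.length = 7 ∧ dotN th7 y ≤ N ∧ ∀ s < N, ev (L K x) ((z : K) ^ s) = cL N y s := by
  have : NeZero N := ⟨hN.ne'⟩
  have hzN := hz.pow_eq_one
  let P : (Fin 7 → ZMod N) → Prop := fun v => ∃ (g : Gh K) (c : Fin chevE7.rank → Kˣ), Phi K c = g * x * g⁻¹ ∧
    ∀ i : Fin 7, rtv (chevE7.simple i) c = z ^ (v i).val
  have hP : ∀ v j, P v → P (srefl chevE7 7 j v) := by
    rintro v j ⟨g, c, h1, h3⟩
    let j' : Fin chevE7.rank := j
    refine ⟨stn chevE7 (chevE7.simple j') (1 : K) * g, sAct chevE7 K j' c, ?_, fun i => ?_⟩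
    · rw [← conj_n_phi e7T.inList isPhi, h1]
      group
    · refine (rtv_sAct j' _ c).trans ?_
      rw [h3 i]
      have h4 : rtv (chevE7.simple j') c = z ^ (v j).val := h3 j
      rw [h4, ← val_sub_mul hzN]
      rfl
  have hex : ∀ j : Fin 7, ∃ a : ℕ, z ^ a = rtv (chevE7.simple j) c := by
    intro j
    have hz' : IsPrimitiveRoot (z : K) N := IsPrimitiveRoot.coe_units_iff.2 hz
    have h5 : ((rtv (chevE7.simple j) c : Kˣ) : K) ^ N = 1 := by rw [← Units.val_pow_eq_pow_val, h2, Units.val_one]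
    obtain ⟨a, -, ha⟩ := hz'.eq_pow_of_pow_eq_one h5
    exact ⟨a, Units.ext (by rw [Units.val_pow_eq_pow_val, ha])⟩
  choose a ha using hex
  have h0 : P fun i => ((a i : ℕ) : ZMod N) := ⟨g, c, h1, fun i => by rw [← ha i]; exact pow_val hzN _⟩
  obtain ⟨y, ⟨g', c', h3, h5⟩, hθ⟩ := exists_alcove e7T (N := N) hN _ _ 36 (by norm_num) theta7
    (by decide) _ pos7 P hP h0
  have hget : ∀ j : Fin 7, (List.ofFn y).getD j 0 = y j := fun j => by
    rw [List.getD_eq_getElem _ _ (by rw [List.length_ofFn]; exact j.2), List.getElem_ofFn]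
  refine ⟨List.ofFn y, List.length_ofFn, ?_, fun s hs => ?_⟩
  · rw [dotN_eq 7 th7 _ (by decide), Finset.sum_congr rfl fun i _ => by rw [hget i]]
    simp only [Fin.sum_univ_seven, Matrix.cons_val] at hθ ⊢
    simp only [th7, List.getD_cons_zero, List.getD_cons_succ, Fin.val_zero, Fin.val_one, Fin.val_two] at hθ ⊢
    norm_num only [_root_.one_mul, _root_.Fin.coe_ofNat_eq_mod, _root_.List.getD_eq_getElem?_getD, _root_.List.length_cons, _root_.List.length_nil, _root_.zero_add, _root_.getElem?_pos, _root_.List.getElem_cons_succ, _root_.List.getElem_cons_zero, _root_.Option.getD_some, _root_.Nat.lt_add_one] at hθ ⊢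
    omega
  · rw [ev_L_of_conj h3]
    refine ev_L_core List.length_ofFn (fun j hj => ?_) hz hs
    have h6 := h5 ⟨j, hj⟩
    rw [← pow_val hzN, ← hget] at h6
    exact h6

variable {k : Type u} [Field k] [DecidableEq k] (p : ℕ) [Fact p.Prime] [CharP k p]

theorem sum_Bf {b : ℕ} (hb : b < p ^ 3) (f : ℕ → ℕ) : ∑ m ∈ _root_.Cfsg.Agent.H943.SL2Mod.Bf k b, f m = sB p b f := by
  show ∑ m ∈ (range (b + 1)).filter (fun m => (b.choose m : k) ≠ 0), f m = _
  rw [sum_filter, sB, list_sum_range]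
  refine sum_congr rfl fun m hm => if_congr ?_ rfl rfl
  have e : ∀ x : ℕ, x / p / p = x / p ^ 2 := fun x => by rw [Nat.div_div_eq_div_mul, pow_two]
  simp only [choose_ne_iff p, inB, Bool.and_eq_true, Nat.ble_eq, e]
  refine ⟨fun h => ⟨by simpa only [_root_.pow_zero, _root_.Nat.div_one] using h 0, by simpa using h 1, h 2⟩, fun h i => ?_⟩
  rcases i with _ | _ | _ | i
  · simpa only [_root_.pow_zero, _root_.Nat.div_one] using h.1
  · simpa using h.2.1
  · exact h.2.2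
  · rw [dg_zero_of_le (Fact.out : p.Prime).pos ((Nat.le_of_lt_succ (mem_range.1 hm)).trans_lt hb) (by omega)]
    exact Nat.zero_le _

theorem card_Bf {b : ℕ} (hb : b < p ^ 3) : (_root_.Cfsg.Agent.H943.SL2Mod.Bf k b).card = dimN p b := by
  rw [card_eq_sum_ones, sum_Bf p hb, dimN]

omit [DecidableEq k] in
theorem wt_even {ζ : k} {N b m : ℕ} (hN : 0 < N) (hζ : ζ ^ (2 * N) = 1) (hb : Even b) (hm : m ≤ b) :
    ζ ^ m * ζ⁻¹ ^ (b - m) = (ζ ^ 2) ^ (m + N * b - b / 2) := by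
  have h0 : ζ ≠ 0 := by
    rintro rfl
    rw [zero_pow (by omega)] at hζ
    exact zero_ne_one hζ
  have h1 := Nat.even_iff.1 hb
  have h2 : 1 * b ≤ N * b := Nat.mul_le_mul_right _ hN
  rw [inv_pow, mul_inv_eq_iff_eq_mul₀ (pow_ne_zero _ h0), ← pow_mul, ← pow_add,
    show 2 * (m + N * b - b / 2) + (b - m) = m + 2 * (N * b) by omega, pow_add, ← mul_assoc, pow_mul, hζ, one_pow, mul_one]

theorem sum_mf {ζ : k} {N b : ℕ} (hN : 0 < N) (hζ : IsPrimitiveRoot (ζ ^ 2) N) (hb : Even b) (hb' : b < p ^ 3) :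
    ∑ s ∈ range N, mf b ζ ((ζ ^ 2) ^ s) * pl N s = vec N p b := by
  have e : ∀ s, mf b ζ ((ζ ^ 2) ^ s) * pl N s =
      ∑ m ∈ _root_.Cfsg.Agent.H943.SL2Mod.Bf k b, (if ζ ^ m * ζ⁻¹ ^ (b - m) = (ζ ^ 2) ^ s then 1 else 0) * pl N s := fun s => by
    rw [← sum_mul, ← card_filter]
    rfl
  rw [sum_congr rfl fun s _ => e s, sum_comm, vec, ← sum_Bf (k := k) p hb']
  refine sum_congr rfl fun m hm => ?_
  rw [wt_even hN (by rw [pow_mul, hζ.pow_eq_one]) hb (Nat.le_of_lt_succ (mem_range.1 (mem_filter.1 hm).1)),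
    pow_mod_eq hζ, sum_eq_single_of_mem _ (mem_range.2 (Nat.mod_lt _ hN)) fun s hs h => by
      rw [if_neg fun h1 => h (hζ.pow_inj (Nat.mod_lt _ hN) (mem_range.1 hs) h1).symm, zero_mul], if_pos rfl, one_mul]

/-- **the classes** -/
theorem cls {K : Type v} [Field K] [Fintype K] [CharP K p] [IsAlgClosed k] (ι : K →+* k) (hk : HAlg p k)
    (ψ : Matrix.SpecialLinearGroup (Fin 2) K →* Gh k) {a : ℕ} (hF : Fintype.card K = p ^ a) (ha : a ≤ 3) {n : ℕ → ℕ}
    (hn : IsMult ι p a (MonoidHom.comp (L k) ψ) n) (hev : ∀ b, n b ≠ 0 → Even b) {N : ℕ} (hN : 1 < N)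
    (hc : (2 * N).Coprime p) (hd : 2 * N ∣ p ^ a - 1 ∨ 2 * N ∣ p ^ a + 1) :
    Cls N (∑ b ∈ range (p ^ a), n b * vec N p b) := by
  classical
  have hp : p.Prime := Fact.out
  have h0 : ((2 * N : ℕ) : k) ≠ 0 := fun h => (hp.coprime_iff_not_dvd.1 hc.symm) ((CharP.cast_eq_zero_iff k p _).1 h)
  have : NeZero ((2 * N : ℕ) : k) := ⟨h0⟩
  obtain ⟨ζ, hζ⟩ : ∃ ζ : k, IsPrimitiveRoot ζ (2 * N) := HasEnoughRootsOfUnity.exists_primitiveRoot k (2 * N)
  have hζ0 : ζ ≠ 0 := hζ.ne_zero (by omega)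
  have hζ2 : IsPrimitiveRoot (ζ ^ 2) N := hζ.pow (by omega) rfl
  obtain ⟨g, hg⟩ : ∃ g, IsSS ι g ζ := by
    rcases hd with hd | hd
    · obtain ⟨t, ht⟩ := exists_of_pow_eq ι (t := ζ) (by
        rw [Nat.card_eq_fintype_card, hF, ← Nat.sub_add_cancel (Nat.pow_pos hp.pos : 1 ≤ p ^ a), pow_succ,
          (hζ.pow_eq_one_iff_dvd _).2 hd, one_mul])
      have ht0 : t ≠ 0 := by
        rintro rfl
        exact hζ0 (by rw [← ht, map_zero])
      exact ⟨_, ht ▸ isSS_h ι (Units.mk0 t ht0)⟩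
    · refine exists_isSS ι ι.injective p (by rw [hF]; exact (hζ.pow_eq_one_iff_dvd _).2 hd) fun h => ?_
      refine hζ.pow_ne_one_of_pos_of_lt two_ne_zero (by omega : 2 < 2 * N) ?_
      rw [pow_two]
      nth_rewrite 1 [h]
      exact inv_mul_cancel₀ hζ0
  have he : ∀ ν : k, ν ^ (2 * N) = 1 → ev (L k (ψ g)) ν = ∑ b ∈ range (p ^ a), n b * mf b ζ ν := by
    intro ν hν
    rw [← hn.eigen g ζ (2 * N) hg hζ.pow_eq_one h0 ν hν]
    exact congrArg (fun W : Submodule k (chevE7.Idx → k) => finrank k W) Module.End.eigenspace_def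
  obtain ⟨g', c, h1, h2⟩ := frameK p hk (y := ψ g) (N := 2 * N) (by omega) hc
    (by rw [← map_pow, pow_eq_one_of_isSS ι hg hζ.pow_eq_one, map_one])
  obtain ⟨y, h3, h4, h5⟩ := alc_ad (z := Units.mk0 (ζ ^ 2) (pow_ne_zero _ hζ0)) (by omega : 0 < N)
    (IsPrimitiveRoot.coe_units_iff.1 hζ2) h1 fun j => by
      have h3 : rtv (chevE7.simple j) c ^ (2 * N) = 1 := by
        unfold rtv
        rw [← Finset.prod_pow]
        refine Finset.prod_eq_one fun i _ => ?_
        rw [← zpow_natCast, ← zpow_mul, mul_comm, zpow_mul, zpow_natCast]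
        have h4 : c i ^ (2 * N) = 1 := congrFun h2 i
        rw [h4, one_zpow]
      have h4 := he (rtv (chevE7.simple j) c : kˣ) (by rw [← Units.val_pow_eq_pow_val, h3, Units.val_one])
      have h5 : ∀ j : Fin 7, chevE7.simple j < chevE7.nroots := by decide +kernel
      have h6 : ∑ b ∈ range (p ^ a), n b * mf b ζ (rtv (chevE7.simple j) c : kˣ) ≠ 0 := by
        rw [← h4, ev_L_of_conj h1, ev_L_Phi]
        refine Nat.ne_of_gt (Nat.add_pos_right _ (card_pos.2 ⟨⟨_, h5 j⟩, ?_⟩))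
        simp only [mem_filter, mem_univ, and_self]
      obtain ⟨b, -, h7⟩ := exists_ne_zero_of_sum_ne_zero h6
      obtain ⟨m, hm⟩ := card_ne_zero.1 (right_ne_zero_of_mul h7)
      obtain ⟨h8, h9⟩ := mem_filter.1 hm
      rw [wt_even (by omega : 0 < N) hζ.pow_eq_one (hev b (left_ne_zero_of_mul h7))
        (Nat.le_of_lt_succ (mem_range.1 (mem_filter.1 h8).1))] at h9
      apply Units.ext
      rw [Units.val_pow_eq_pow_val, ← h9, ← pow_mul, mul_comm, pow_mul, hζ2.pow_eq_one, one_pow, Units.val_one]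
  refine ⟨y, h3, h4, ?_⟩
  have h6 : ∀ s ∈ range N, cL N y s * pl N s = ∑ b ∈ range (p ^ a), n b * (mf b ζ ((ζ ^ 2) ^ s) * pl N s) := by
    intro s hs
    rw [← h5 s (mem_range.1 hs), Units.val_mk0, he _ (by
      rw [← pow_mul, ← pow_mul]
      exact (hζ.pow_eq_one_iff_dvd _).2 ((dvd_mul_left _ _).mul_left _)), sum_mul]
    exact sum_congr rfl fun b _ => mul_assoc _ _ _
  rw [sum_congr rfl h6, sum_comm]
  refine sum_congr rfl fun b hb => ?_
  by_cases h : n b = 0
  · rw [h, zero_mul]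
    exact (sum_eq_zero fun _ _ => zero_mul _).symm
  · rw [← mul_sum, sum_mf p (by omega) hζ2 (hev b h) ((mem_range.1 hb).trans_le (Nat.pow_le_pow_right hp.pos ha))]

end Cfsg.Agent.E7P.Ns
end

-- part: E7P/Ns/Fast
section
/-!
# S5932, NONSPLIT: a faster enumeration (symmetry of the alcove, linear functionals)
-/

set_option autoImplicit false
set_option maxRecDepth 100000

namespace Cfsg.Agent.E7P.Ns

open Cfsg.Agent.R2.T1 (RL dt cL cnt cnt_eq RL_len)
open Cfsg.Agent.H944.Tab (dotN)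
open Cfsg.Agent.H944.E7Two (th7)
open Cfsg.Agent.R2.H28.SL2 (hb)
open Finset

private noncomputable def lf (P : ℕ) (go : ℕ → Bool) (a b c d R : ℕ) : Bool :=
  frc (Nat.add a (Nat.shiftLeft d (Nat.mul (nat_lit 9) R))) fun a' => loop (Nat.succ R) fun x =>
    frc (Nat.mod (Nat.add a' (Nat.add (Nat.shiftLeft b (Nat.mul (nat_lit 9) x))
      (Nat.shiftLeft c (Nat.mul (nat_lit 9) (Nat.sub R x))))) P) fun G => go (Nat.add G (Nat.mod G (nat_lit 512)))

private noncomputable def md (P : ℕ) (go : ℕ → Bool) (a0 a1 b0 b1 b2 c0 c1 c2 d1 d2 R : ℕ) : Bool :=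
  loop (Nat.succ (Nat.div R (nat_lit 2))) fun z => frc (Nat.mul (nat_lit 9) z) fun s =>
    frc (Nat.sub R (Nat.mul (nat_lit 2) z)) fun R' =>
    frc (Nat.add b0 (Nat.shiftLeft (Nat.add b1 (Nat.shiftLeft b2 s)) s)) fun b =>
    frc (Nat.add c0 (Nat.shiftLeft (Nat.add c1 (Nat.shiftLeft c2 s)) s)) fun c =>
    lf P go (Nat.add a0 (Nat.shiftLeft a1 s)) b c (Nat.shiftLeft (Nat.add d1 (Nat.shiftLeft d2 s)) s) R'

private theorem md_ok {P : ℕ} {go : ℕ → Bool} {a0 a1 b0 b1 b2 c0 c1 c2 d1 d2 R : ℕ}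
    (h : md P go a0 a1 b0 b1 b2 c0 c1 c2 d1 d2 R = true) {z x w : ℕ} (hx : 2 * z + x + w = R) {V : ℕ}
    (hV : V = a0 + a1 * 512 ^ z + (b0 + (b1 + b2 * 512 ^ z) * 512 ^ z) * 512 ^ x +
      (c0 + (c1 + c2 * 512 ^ z) * 512 ^ z) * 512 ^ w + (d1 + d2 * 512 ^ z) * 512 ^ z * (512 ^ x * 512 ^ w)) :
    go (V % P + V % P % 512) = true := by
  have h1 : (frc (Nat.mul 9 z) fun s => frc (Nat.sub R (Nat.mul 2 z)) fun R' =>
      frc (Nat.add b0 (Nat.shiftLeft (Nat.add b1 (Nat.shiftLeft b2 s)) s)) fun b =>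
      frc (Nat.add c0 (Nat.shiftLeft (Nat.add c1 (Nat.shiftLeft c2 s)) s)) fun c =>
      leaf P go (.cons 0 (Nat.add a0 (Nat.shiftLeft a1 s)) (.cons 1 b (.cons 8 c
        (.cons 9 (Nat.shiftLeft (Nat.add d1 (Nat.shiftLeft d2 s)) s) .nil)))) R') = true :=
    loop_ok (R / 2 + 1) h z (by omega)
  simp only [frc_eq, shift_eq, Nat.add_eq, Nat.sub_eq] at h1
  have e : R - Nat.mul 2 z = x + w := by
    rw [Nat.mul_eq]
    omega
  rw [e] at h1
  have h2 := leaf_ok h1 (Nat.le_add_right x w)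
  rw [Nat.add_sub_cancel_left] at h2
  have e2 : val (.cons 0 (a0 + a1 * 512 ^ z) (.cons 1 (b0 + (b1 + b2 * 512 ^ z) * 512 ^ z)
      (.cons 8 (c0 + (c1 + c2 * 512 ^ z) * 512 ^ z) (.cons 9 ((d1 + d2 * 512 ^ z) * 512 ^ z) .nil)))) [x, w] = V := by
    rw [hV]
    show _ * 512 ^ (x * 0 + (w * 0 + 0)) + (_ * 512 ^ (x * 1 + (w * 0 + 0)) +
      (_ * 512 ^ (x * 0 + (w * 1 + 0)) + (_ * 512 ^ (x * 1 + (w * 1 + 0)) + 0))) = _
    simp only [mul_zero, mul_one, add_zero, zero_add, pow_zero, pow_add, add_assoc]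
  rw [e2] at h2
  exact h2

private noncomputable def mt (c : ℕ) (st : IL) (k : ℕ → IL → Bool) : Bool :=
  IL.rec false (fun s a t _ => Bool.rec false (k a t) (Nat.beq s c)) st

private theorem mt_ok {c : ℕ} {st : IL} {k : ℕ → IL → Bool} (h : mt c st k = true) :
    ∃ a t, st = .cons c a t ∧ k a t = true := by
  rcases st with _ | ⟨s, a, t⟩
  · exact Bool.noConfusion h
  have h1 : (Bool.rec false (k a t) (Nat.beq s c) : Bool) = true := h
  cases h2 : Nat.beq s c
  · rw [h2] at h1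
    exact Bool.noConfusion h1
  · rw [h2] at h1
    exact ⟨a, t, by rw [Nat.eq_of_beq_eq_true h2], h1⟩

private noncomputable def mq (P : ℕ) (go : ℕ → Bool) (y e0 e1 e8 e9 e10 e64 e72 e73 e74 e82 e83 e512 e513 e521 e522 e523 e531 e585 e586 e587 e594 e595 R : ℕ) : Bool :=
  loop (Nat.succ (Nat.div R (nat_lit 3))) fun i => frc (Nat.mul (nat_lit 9) (Nat.add y i)) fun s =>
    frc (Nat.sub R (Nat.mul (nat_lit 3) i)) fun R' =>
    frc (Nat.add e0 (Nat.shiftLeft e1 s)) fun a0 =>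
    frc (Nat.add e8 (Nat.shiftLeft (Nat.add e9 (Nat.shiftLeft e10 s)) s)) fun a1 =>
    frc (Nat.add e72 (Nat.shiftLeft (Nat.add e73 (Nat.shiftLeft e74 s)) s)) fun b1 =>
    frc (Nat.shiftLeft (Nat.shiftLeft (Nat.add e82 (Nat.shiftLeft e83 s)) s) s) fun b2 =>
    frc (Nat.add e512 (Nat.shiftLeft e513 s)) fun c0 =>
    frc (Nat.shiftLeft (Nat.add e521 (Nat.shiftLeft (Nat.add e522 (Nat.shiftLeft e523 s)) s)) s) fun c1 =>
    frc (Nat.shiftLeft (Nat.shiftLeft (Nat.shiftLeft e531 s) s) s) fun c2 =>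
    frc (Nat.shiftLeft (Nat.add e585 (Nat.shiftLeft (Nat.add e586 (Nat.shiftLeft e587 s)) s)) s) fun d1 =>
    frc (Nat.shiftLeft (Nat.shiftLeft (Nat.add e594 (Nat.shiftLeft e595 s)) s) s) fun d2 =>
    md P go a0 a1 e64 b1 b2 c0 c1 c2 d1 d2 R'

private noncomputable def mid (P : ℕ) (go : ℕ → Bool) (y : ℕ) (st : IL) (R : ℕ) : Bool :=
  mt (nat_lit 0) st fun e0 st =>
  mt (nat_lit 1) st fun e1 st =>
  mt (nat_lit 8) st fun e8 st =>
  mt (nat_lit 9) st fun e9 st =>
  mt (nat_lit 10) st fun e10 st =>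
  mt (nat_lit 64) st fun e64 st =>
  mt (nat_lit 72) st fun e72 st =>
  mt (nat_lit 73) st fun e73 st =>
  mt (nat_lit 74) st fun e74 st =>
  mt (nat_lit 82) st fun e82 st =>
  mt (nat_lit 83) st fun e83 st =>
  mt (nat_lit 512) st fun e512 st =>
  mt (nat_lit 513) st fun e513 st =>
  mt (nat_lit 521) st fun e521 st =>
  mt (nat_lit 522) st fun e522 st =>
  mt (nat_lit 523) st fun e523 st =>
  mt (nat_lit 531) st fun e531 st =>
  mt (nat_lit 585) st fun e585 st =>
  mt (nat_lit 586) st fun e586 st =>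
  mt (nat_lit 587) st fun e587 st =>
  mt (nat_lit 594) st fun e594 st =>
  mt (nat_lit 595) st fun e595 st =>
  IL.rec (mq P go y e0 e1 e8 e9 e10 e64 e72 e73 e74 e82 e83 e512 e513 e521 e522 e523 e531 e585 e586 e587 e594 e595 R) (fun _ _ _ _ => false) st

private theorem mid_ok {P : ℕ} {go : ℕ → Bool} {y : ℕ} {st : IL} {R : ℕ} (h : mid P go y st R = true) {i z x w : ℕ}
    (e : 3 * i + 2 * z + x + w = R) :
    go (val st [y + i, z, x, w] % P + val st [y + i, z, x, w] % P % 512) = true := by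
  obtain ⟨e0, t0, rfl, k0⟩ := mt_ok h
  clear h
  obtain ⟨e1, t1, rfl, k1⟩ := mt_ok k0
  clear k0
  obtain ⟨e8, t8, rfl, k8⟩ := mt_ok k1
  clear k1
  obtain ⟨e9, t9, rfl, k9⟩ := mt_ok k8
  clear k8
  obtain ⟨e10, t10, rfl, k10⟩ := mt_ok k9
  clear k9
  obtain ⟨e64, t64, rfl, k64⟩ := mt_ok k10
  clear k10
  obtain ⟨e72, t72, rfl, k72⟩ := mt_ok k64
  clear k64
  obtain ⟨e73, t73, rfl, k73⟩ := mt_ok k72
  clear k72
  obtain ⟨e74, t74, rfl, k74⟩ := mt_ok k73
  clear k73
  obtain ⟨e82, t82, rfl, k82⟩ := mt_ok k74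
  clear k74
  obtain ⟨e83, t83, rfl, k83⟩ := mt_ok k82
  clear k82
  obtain ⟨e512, t512, rfl, k512⟩ := mt_ok k83
  clear k83
  obtain ⟨e513, t513, rfl, k513⟩ := mt_ok k512
  clear k512
  obtain ⟨e521, t521, rfl, k521⟩ := mt_ok k513
  clear k513
  obtain ⟨e522, t522, rfl, k522⟩ := mt_ok k521
  clear k521
  obtain ⟨e523, t523, rfl, k523⟩ := mt_ok k522
  clear k522
  obtain ⟨e531, t531, rfl, k531⟩ := mt_ok k523
  clear k523
  obtain ⟨e585, t585, rfl, k585⟩ := mt_ok k531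
  clear k531
  obtain ⟨e586, t586, rfl, k586⟩ := mt_ok k585
  clear k585
  obtain ⟨e587, t587, rfl, k587⟩ := mt_ok k586
  clear k586
  obtain ⟨e594, t594, rfl, k594⟩ := mt_ok k587
  clear k587
  obtain ⟨e595, t595, rfl, k595⟩ := mt_ok k594
  clear k594
  rcases t595 with _ | _
  swap
  · exact Bool.noConfusion k595
  have h1 : (frc (Nat.mul 9 (y + i)) fun s => frc (R - 3 * i) fun R' =>
    frc (Nat.add e0 (Nat.shiftLeft e1 s)) fun a0 =>
    frc (Nat.add e8 (Nat.shiftLeft (Nat.add e9 (Nat.shiftLeft e10 s)) s)) fun a1 =>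
    frc (Nat.add e72 (Nat.shiftLeft (Nat.add e73 (Nat.shiftLeft e74 s)) s)) fun b1 =>
    frc (Nat.shiftLeft (Nat.shiftLeft (Nat.add e82 (Nat.shiftLeft e83 s)) s) s) fun b2 =>
    frc (Nat.add e512 (Nat.shiftLeft e513 s)) fun c0 =>
    frc (Nat.shiftLeft (Nat.add e521 (Nat.shiftLeft (Nat.add e522 (Nat.shiftLeft e523 s)) s)) s) fun c1 =>
    frc (Nat.shiftLeft (Nat.shiftLeft (Nat.shiftLeft e531 s) s) s) fun c2 =>
    frc (Nat.shiftLeft (Nat.add e585 (Nat.shiftLeft (Nat.add e586 (Nat.shiftLeft e587 s)) s)) s) fun d1 =>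
    frc (Nat.shiftLeft (Nat.shiftLeft (Nat.add e594 (Nat.shiftLeft e595 s)) s) s) fun d2 =>
    md P go a0 a1 e64 b1 b2 c0 c1 c2 d1 d2 R') = true := loop_ok (R / 3 + 1) k595 i (by omega)
  simp only [frc_eq, shift_eq, Nat.add_eq] at h1
  refine md_ok h1 (z := z) (x := x) (w := w) (by omega) ?_
  generalize y + i = u
  show e0 * 512 ^ (u * 0 + (z * 0 + (x * 0 + (w * 0 + 0)))) + (e1 * 512 ^ (u * 1 + (z * 0 + (x * 0 + (w * 0 + 0)))) + (e8 * 512 ^ (u * 0 + (z * 1 + (x * 0 + (w * 0 + 0)))) + (e9 * 512 ^ (u * 1 + (z * 1 + (x * 0 + (w * 0 + 0)))) + (e10 * 512 ^ (u * 2 + (z * 1 + (x * 0 + (w * 0 + 0)))) + (e64 * 512 ^ (u * 0 + (z * 0 + (x * 1 + (w * 0 + 0)))) + (e72 * 512 ^ (u * 0 + (z * 1 + (x * 1 + (w * 0 + 0)))) + (e73 * 512 ^ (u * 1 + (z * 1 + (x * 1 + (w * 0 + 0)))) + (e74 * 512 ^ (u * 2 + (z * 1 + (x * 1 + (w * 0 + 0)))) + (e82 * 512 ^ (u * 2 + (z * 2 + (x * 1 + (w * 0 + 0)))) + (e83 * 512 ^ (u * 3 + (z * 2 + (x * 1 + (w * 0 + 0))))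 + (e512 * 512 ^ (u * 0 + (z * 0 + (x * 0 + (w * 1 + 0)))) + (e513 * 512 ^ (u * 1 + (z * 0 + (x * 0 + (w * 1 + 0)))) + (e521 * 512 ^ (u * 1 + (z * 1 + (x * 0 + (w * 1 + 0)))) + (e522 * 512 ^ (u * 2 + (z * 1 + (x * 0 + (w * 1 + 0)))) + (e523 * 512 ^ (u * 3 + (z * 1 + (x * 0 + (w * 1 + 0)))) + (e531 * 512 ^ (u * 3 + (z * 2 + (x * 0 + (w * 1 + 0)))) + (e585 * 512 ^ (u * 1 + (z * 1 + (x * 1 + (w * 1 + 0)))) + (e586 * 512 ^ (u * 2 + (z * 1 + (x * 1 + (w * 1 + 0)))) + (e587 * 512 ^ (u * 3 + (z * 1 + (x * 1 + (w * 1 + 0)))) + (e594 * 512 ^ (u * 2 + (z * 2 + (x * 1 + (w * 1 + 0)))) + (e595 * 512 ^ (u * 3 + (z * 2 + (x * 1 + (w * 1 + 0)))) + 0))))))))))))))))))))) = _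
  simp only [mul_zero, mul_one, add_zero, zero_add, pow_zero, pow_add, pow_mul]
  generalize 512 ^ u = a
  generalize 512 ^ z = b
  generalize 512 ^ x = c
  generalize 512 ^ w = d
  ring

private def fl (c : ℕ) : ℕ := c / 32768 % 8 + 8 * (c / 8 % 8) + 64 * (c / 4096 % 8) + 512 * (c / 512 % 8) +
  4096 * (c / 64 % 8) + 32768 * (c % 8) + 262144 * (c / 2097152 % 8) + 2097152 * (c / 262144 % 8)

private theorem fl_perm : (codes.map fl).Perm codes := by decide +kernel

private theorem fl_dg : ∀ c ∈ codes, fl c % 8 = c / 8 / 8 / 8 / 8 / 8 % 8 ∧ fl c / 8 % 8 = c / 8 % 8 ∧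
    fl c / 8 / 8 % 8 = c / 8 / 8 / 8 / 8 % 8 ∧ fl c / 8 / 8 / 8 % 8 = c / 8 / 8 / 8 % 8 ∧
    fl c / 8 / 8 / 8 / 8 % 8 = c / 8 / 8 % 8 ∧ fl c / 8 / 8 / 8 / 8 / 8 % 8 = c % 8 ∧
    fl c / 8 / 8 / 8 / 8 / 8 / 8 % 8 = c / 8 / 8 / 8 / 8 / 8 / 8 / 8 % 8 ∧
    fl c / 8 / 8 / 8 / 8 / 8 / 8 / 8 % 8 = c / 8 / 8 / 8 / 8 / 8 / 8 % 8 := by decide +kernel

private theorem val_fl (y1 y2 y3 y4 y5 y6 y7 y0 : ℕ) :
    val (ofL codes) [y1, y2, y3, y4, y5, y6, y7, y0] = val (ofL codes) [y6, y2, y5, y4, y3, y1, y0, y7] := by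
  rw [val_ofL, val_ofL, ← (fl_perm.map _).sum_eq, List.map_map]
  refine congrArg _ (List.map_congr_left fun c hc => congrArg (512 ^ ·) ?_)
  obtain ⟨e1, e2, e3, e4, e5, e6, e7, e8⟩ := fl_dg c hc
  show y1 * (fl c % 8) + (y2 * (fl c / 8 % 8) + (y3 * (fl c / 8 / 8 % 8) + (y4 * (fl c / 8 / 8 / 8 % 8) +
    (y5 * (fl c / 8 / 8 / 8 / 8 % 8) + (y6 * (fl c / 8 / 8 / 8 / 8 / 8 % 8) + (y7 * (fl c / 8 / 8 / 8 / 8 / 8 / 8 % 8) +
    (y0 * (fl c / 8 / 8 / 8 / 8 / 8 / 8 / 8 % 8) + 0))))))) =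
    y6 * (c % 8) + (y2 * (c / 8 % 8) + (y5 * (c / 8 / 8 % 8) + (y4 * (c / 8 / 8 / 8 % 8) +
    (y3 * (c / 8 / 8 / 8 / 8 % 8) + (y1 * (c / 8 / 8 / 8 / 8 / 8 % 8) + (y0 * (c / 8 / 8 / 8 / 8 / 8 / 8 % 8) +
    (y7 * (c / 8 / 8 / 8 / 8 / 8 / 8 / 8 % 8) + 0)))))))
  rw [e1, e2, e3, e4, e5, e6, e7, e8]
  ac_rfl

private noncomputable def ch2 (P : ℕ) (go : ℕ → Bool) (N y1 : ℕ) : Bool :=
  step (Nat.mul (nat_lit 9) y1) (ofL codes) fun st => frc (Nat.sub N (Nat.mul (nat_lit 2) y1)) fun R =>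
    enum (fun st R => loop (Nat.succ (Nat.div R (nat_lit 6))) fun y3 => step (Nat.mul (nat_lit 9) y3) st fun st =>
      frc (Nat.sub R (Nat.mul (nat_lit 6) y3)) fun R => enum (mid P go y3) [nat_lit 4] st R) [nat_lit 2] st R

private theorem ch2_core {P : ℕ} {go : ℕ → Bool} {N y1 : ℕ} (h : ch2 P go N y1 = true) {y2 y3 y4 i y6 y7 y0 : ℕ}
    (e : 2 * y1 + 2 * y2 + 6 * y3 + 4 * y4 + 3 * i + 2 * y6 + y7 + y0 = N) :
    go (val (ofL codes) [y1, y2, y3, y4, y3 + i, y6, y7, y0] % P +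
      val (ofL codes) [y1, y2, y3, y4, y3 + i, y6, y7, y0] % P % 512) = true := by
  obtain ⟨s1, h2, h3⟩ := step_ok y1 _ _ h
  rw [frc_eq] at h2
  have e2 : dotN [nat_lit 2] [y2] = 2 * y2 + 0 := rfl
  have e4 : dotN [nat_lit 4] [y4] = 4 * y4 + 0 := rfl
  have e1 : Nat.sub N (Nat.mul (nat_lit 2) y1) = N - 2 * y1 := rfl
  obtain ⟨s2, h4, h5⟩ := enum_ok _ (by decide) _ _ h2 [y2] rfl (by rw [e2, e1]; omega)
  rw [e2, e1] at h4
  obtain ⟨s3, h6, h7⟩ := step_ok y3 _ _ (loop_ok ((N - 2 * y1 - (2 * y2 + 0)) / 6 + 1) h4 y3 (by omega))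
  rw [frc_eq] at h6
  have e3 : Nat.sub (N - 2 * y1 - (2 * y2 + 0)) (Nat.mul (nat_lit 6) y3) = N - 2 * y1 - (2 * y2 + 0) - 6 * y3 := rfl
  obtain ⟨s4, h8, h9⟩ := enum_ok _ (by decide) _ _ h6 [y4] rfl (by rw [e4, e3]; omega)
  rw [e4, e3] at h8
  have h10 := mid_ok h8 (i := i) (z := y6) (x := y7) (w := y0) (by omega)
  rw [h9, h7, h5, h3] at h10
  exact h10

private theorem cls2_ok {go : ℕ → Bool} {N : ℕ} (hN0 : 0 < N) (hE : okE N = true)
    (h : ∀ j ≤ N / 2, ch2 (512 ^ (N / 2 + 1)) go N j = true) {X : ℕ} (hX : Cls N X) : ∃ Y, X = 7 + Y ∧ go Y = true := by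
  obtain ⟨y, hy, hy', rfl⟩ := hX
  obtain ⟨G, hG, h1⟩ : ∃ G, G = (RL.map fun w => 512 ^ dt w.2 y + 512 ^ (N - dt w.2 y)).sum ∧
      go (G % 512 ^ (N / 2 + 1) + G % 512 ^ (N / 2 + 1) % 512) = true := by
    refine ⟨_, rfl, ?_⟩
    rw [← val_codes hy hy']
    rcases y with _ | ⟨y1, _ | ⟨y2, _ | ⟨y3, _ | ⟨y4, _ | ⟨y5, _ | ⟨y6, _ | ⟨y7, _ | _⟩⟩⟩⟩⟩⟩⟩ <;> try simp at hy
    have e : dotN th7 [y1, y2, y3, y4, y5, y6, y7] =
      2 * y1 + (2 * y2 + (3 * y3 + (4 * y4 + (3 * y5 + (2 * y6 + (1 * y7 + 0)))))) := rfl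
    obtain ⟨y0, e0⟩ : ∃ y0, y0 = N - dotN th7 [y1, y2, y3, y4, y5, y6, y7] := ⟨_, rfl⟩
    rw [← e0]
    rw [e] at e0 hy'
    show go (val (ofL codes) [y1, y2, y3, y4, y5, y6, y7, y0] % _ +
      val (ofL codes) [y1, y2, y3, y4, y5, y6, y7, y0] % _ % 512) = true
    rcases le_total y3 y5 with h3 | h3
    · obtain ⟨i, rfl⟩ := Nat.exists_eq_add_of_le h3
      exact ch2_core (h y1 (by (clear * - hy'; omega))) (by (clear * - hy' e0; omega))
    · obtain ⟨i, rfl⟩ := Nat.exists_eq_add_of_le h3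
      rw [val_fl]
      exact ch2_core (h y6 (by (clear * - hy'; omega))) (by (clear * - hy' e0; omega))
  refine ⟨_, ?_, h1⟩
  simp only [okE, List.all_eq_true, List.mem_range, Bool.and_eq_true, Nat.beq_eq, Nat.ble_eq] at hE
  have h2 : ∀ w ∈ RL, dt w.2 y < N + 1 := fun w hw => Nat.lt_succ_of_le ((dt_le hw y).trans hy')
  have hl : RL.length < 64 := by decide
  rw [Nat.mod_mod_of_dvd _ (dvd_pow_self 512 (Nat.succ_ne_zero _)), hG,
    sum_mod _ (Nat.pow_pos (by norm_num)) RL hl fun w hw => (hE _ (h2 w hw)).2.1,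
    sum_mod _ (by norm_num) RL hl fun w hw => (hE _ (h2 w hw)).2.2, ← List.sum_map_add,
    ← List.map_congr_left fun w hw => (hE _ (h2 w hw)).1, ← sum_cnt]
  simp only [cL, add_mul (ite _ _ _)]
  rw [Finset.sum_add_distrib, Finset.sum_eq_single_of_mem 0 (Finset.mem_range.2 hN0) fun s _ hs => by
    rw [if_neg hs, zero_mul], if_pos rfl, pl, pow_zero, Nat.mod_eq_of_lt (Nat.one_lt_pow (Nat.succ_ne_zero _) (by norm_num))]

private noncomputable def ph (s F D : ℕ) : ℕ := Nat.mod (Nat.shiftRight (Nat.mul D F) s) (nat_lit 512)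

private noncomputable def kill (s D g : ℕ) (k : Bool) (fs : IL) : Bool :=
  IL.rec k (fun F t _ r => Bool.rec true r (Nat.ble g (Nat.add (ph s F D) t))) fs

private noncomputable def go2 (M C a U0 UF : ℕ) (cs : List ℕ) (gs : GrL) (s G : ℕ) (fs : IL) (X : ℕ) : Bool :=
  frc (Nat.add C X) fun T => Bool.rec true (frc (Nat.sub T M) fun D => frc (ph s G D) fun g =>
    kill s D g (dfs M (fin M a U0 cs) gs T UF) fs) (Nat.beq (Nat.land T M) M)

private theorem kill_ok {s D g : ℕ} {k : Bool} (fs : IL) : (∀ f ∈ fs.tl, g ≤ ph s f.1 D + f.2) →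
    kill s D g k fs = k := by
  induction fs with
  | nil => exact fun _ => rfl
  | cons F t l ih =>
    intro h
    show (Bool.rec true (kill s D g k l) (Nat.ble g (ph s F D + t)) : Bool) = k
    rw [Nat.ble_eq_true_of_le (h (F, t) List.mem_cons_self)]
    exact ih fun f hf => h f (List.mem_cons_of_mem _ hf)

private noncomputable def bnd (s F v d : ℕ) : Bool :=
  Nat.ble (v * F % 2 ^ s * 80) (d * 2 ^ s) && Nat.ble (ph s F v * 80) (d * 512)

private noncomputable def okF (p a m s G h0 : ℕ) (gs : GrL) (fs : IL) : Bool :=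
  Nat.ble 54 (sF p a (dimN p)) && (Nat.ble (sF p a (hb p a)) (a + h0) && (Nat.beq (hb p a 0) 0 &&
  (bnd s G 1 1 && (fs.tl.all (fun f => bnd s f.1 1 1 && Nat.ble (ph s G 1) (ph s f.1 1 + f.2 / h0)) &&
    gs.tl.all fun x => frc (dm m x.1) fun d => bnd s G x.1 d && fs.tl.all fun f => bnd s f.1 x.1 d &&
      Nat.ble (ph s G x.1 + f.2 / h0 * (x.2 % 512)) (ph s f.1 x.1)))))

private def Ad (s u d p : ℕ) : Prop := u % 2 ^ s * 80 ≤ d * 2 ^ s ∧ p * 80 ≤ d * 512 ∧ u / 2 ^ s % 512 = p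

private theorem Ad.add {s u d p v e q : ℕ} (h : Ad s u d p) (k : Ad s v e q) (hd : d + e < 80) :
    Ad s (u + v) (d + e) (p + q) := by
  obtain ⟨h1, h2, h3⟩ := h
  obtain ⟨k1, k2, k3⟩ := k
  have h4 : 0 < 2 ^ s := Nat.pow_pos (by decide)
  have h5 : (d + e) * 2 ^ s ≤ 79 * 2 ^ s := Nat.mul_le_mul_right _ (by omega)
  rw [add_mul] at h5
  have h6 : u % 2 ^ s + v % 2 ^ s < 2 ^ s := by omega
  refine ⟨?_, by (clear * - h2 k2; omega), ?_⟩
  · rw [Nat.add_mod_of_add_mod_lt h6, add_mul, add_mul]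
    (clear * - h1 k1; omega)
  · rw [Nat.add_div_eq_of_add_mod_lt h6, Nat.add_mod_of_add_mod_lt (by omega), h3, k3]

private theorem ph_eq (s F D : ℕ) : ph s F D = D * F / 2 ^ s % 512 := by
  show (D * F) >>> s % 512 = _
  rw [Nat.shiftRight_eq_div_pow]

private theorem bnd_ad {s F v d : ℕ} (h : bnd s F v d = true) : Ad s (v * F) d (ph s F v) := by
  simp only [bnd, Bool.and_eq_true, Nat.ble_eq] at h
  exact ⟨h.1, h.2, (ph_eq s F v).symm⟩

private theorem ph_sum {m s F n0 : ℕ} (h0 : bnd s F 1 1 = true) (S : Multiset (ℕ × ℕ)) :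
    (∀ x ∈ S, bnd s F x.1 (dm m x.1) = true) → n0 + sD m S < 80 →
      Ad s ((n0 + sV S) * F) (n0 + sD m S) (n0 * ph s F 1 + (S.map fun x => ph s F x.1).sum) := by
  induction S using Multiset.induction_on with
  | empty =>
    intro _ h
    show Ad s (n0 * F) n0 (n0 * ph s F 1)
    replace h : n0 < 80 := h
    induction n0 with
    | zero => exact ⟨by simp, by simp, by simp⟩
    | succ n ih =>
      rw [add_mul, add_mul, one_mul (ph s F 1)]
      exact (ih (by omega)).add (bnd_ad h0) h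
  | cons x S ih =>
    intro h hd
    rw [sD_cons] at hd
    rw [sV_cons, sD_cons, Multiset.map_cons, Multiset.sum_cons, add_left_comm n0, add_left_comm n0,
      add_left_comm (n0 * _), add_mul x.1]
    exact (bnd_ad (h x (Multiset.mem_cons_self x S))).add
      (ih (fun y hy => h y (Multiset.mem_cons_of_mem hy)) (by omega)) (by omega)

private theorem num2_ok {p a N m M C U0 UF s G h0 : ℕ} {sm : ℕ → ℕ} {cs : List ℕ} {gs : GrL} {fs : IL} (hp0 : 0 < p)
    (hL : okL p a N (m + 1) sm gs M C U0 UF = true) (hF : okF p a (m + 1) s G h0 gs fs = true) {n : ℕ → ℕ}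
    (hdim : ∑ b ∈ range (p ^ a), n b * dimN p b = 133)
    (hev : ∀ b, n b ≠ 0 → Even b) (hf : ∀ b, fo p a b ≤ n b) (hp : n 0 + a ≤ ∑ b ∈ range (p ^ a), n b * hb p a b)
    (hs : ∑ b ∈ range (p ^ a), n b * sm b ∈ cs) {Y : ℕ} (hY : ∑ b ∈ range (p ^ a), n b * vec N p b = 7 + Y)
    (hgo : go2 M C a U0 UF cs gs s G fs Y = true) : False := by
  refine num_ok hp0 hL hdim hev hf hp hs hY ?_
  simp only [okL, frc_eq, Bool.and_eq_true, Bool.or_eq_true, List.all_eq_true, List.any_eq_true, List.mem_range,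
    Nat.beq_eq, Nat.ble_eq, Nat.blt_eq, sF_eq] at hL
  simp only [okF, frc_eq, Bool.and_eq_true, List.all_eq_true, Nat.beq_eq, Nat.ble_eq, sF_eq] at hF
  obtain ⟨g1, g2, g3, g4, g5, g6⟩ := hF
  obtain ⟨hG, rfl, hC, rfl, rfl, f0, v0, d0, hl⟩ := hL
  have hl' := fun b (hb : b ∈ range (p ^ a)) (h : n b ≠ 0) => (hl b (mem_range.1 hb)).resolve_left
    (by have := Nat.even_iff.1 (hev b h); omega)
  have key : ∀ g : ℕ → ℕ, ∑ b ∈ range (p ^ a), n b * g b = n 0 * g 0 + ∑ b ∈ range (p ^ a), fo p a b * g b +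
      ∑ b ∈ (range (p ^ a)).erase 0, (n b - fo p a b) * g b := by
    intro g
    have h1 := add_sum_erase (range (p ^ a)) (fun b => (n b - fo p a b) * g b) (mem_range.2 (Nat.pow_pos hp0))
    simp only [f0, Nat.sub_zero] at h1
    rw [add_right_comm, h1, ← sum_add_distrib]
    exact sum_congr rfl fun b _ => by rw [← add_mul, Nat.sub_add_cancel (hf b)]
  obtain ⟨S, hS⟩ : ∃ S, S = ∑ b ∈ (range (p ^ a)).erase 0,
    Multiset.replicate (n b - fo p a b) (vec N p b, ud p a sm b) := ⟨_, rfl⟩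
  have h1 := key (dimN p)
  rw [hdim, d0] at h1
  have h2 : ∀ b ∈ (range (p ^ a)).erase 0, n b - fo p a b ≠ 0 → ((vec N p b, ud p a sm b) ∈ gs.tl ∧
      dm (m + 1) (vec N p b) ≤ dimN p b) ∧ hb p a b ≤ ud p a sm b % 512 := by
    intro b hb h
    have h3 := single_le_sum (f := fun b => (n b - fo p a b) * dimN p b) (fun _ _ => Nat.zero_le _) hb
    have h4 : 1 * dimN p b ≤ (n b - fo p a b) * dimN p b := Nat.mul_le_mul_right _ (by omega)
    obtain ⟨h8, h9⟩ := hl' b (mem_of_mem_erase hb) (by omega)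
    obtain ⟨⟨x, hx, h5, h6⟩, h7⟩ := h9.resolve_left (by
      have := ne_of_mem_erase hb
      omega)
    refine ⟨⟨by rw [← h5, ← h6]; exact hx, h7.1⟩, ?_⟩
    show _ ≤ (R2.H28.SL2.hb p a b + 512 * sm b) % 512
    omega
  have h3 : ∀ x ∈ S, x ∈ gs.tl := by
    intro x hx
    rw [hS, Multiset.mem_sum] at hx
    obtain ⟨b, hb, hx⟩ := hx
    obtain ⟨h4, rfl⟩ := Multiset.mem_replicate.1 hx
    exact (h2 b hb h4).1.1
  have h4 : sD (m + 1) S ≤ ∑ b ∈ (range (p ^ a)).erase 0, (n b - fo p a b) * dimN p b := by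
    rw [sD, hS, msum]
    refine sum_le_sum fun b hb => ?_
    by_cases h : n b - fo p a b = 0
    · rw [h, zero_mul, zero_mul]
    · exact Nat.mul_le_mul_left _ (h2 b hb h).1.2
  have h5 : Nat.add C Y = msk (m + 1) + (n 0 + sV S) := by
    have h6 := key (vec N p)
    rw [hY, v0] at h6
    rw [sV, hS, msum, Nat.add_eq]
    simp only
    omega
  have h6 : n 0 + sD (m + 1) S < 80 := by omega
  have h7 : n 0 ≤ h0 + (S.map fun x => x.2 % 512).sum := by
    have h8 := key (hb p a)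
    have h9 : ∑ b ∈ (range (p ^ a)).erase 0, (n b - fo p a b) * hb p a b ≤ (S.map fun x => x.2 % 512).sum := by
      rw [hS, msum]
      refine sum_le_sum fun b hb => ?_
      by_cases h : n b - fo p a b = 0
      · rw [h, zero_mul, zero_mul]
      · exact Nat.mul_le_mul_left _ (h2 b hb h).2
    rw [g3] at h8
    omega
  have h8 := (ph_sum g4 S (fun x hx => (g6 x (h3 x hx)).1) h6).2.2
  rw [go2, frc_eq, frc_eq, frc_eq, kill_ok] at hgo
  · rw [go, frc_eq]
    exact hgo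
  intro f hf
  have h9 := (ph_sum (g5 f hf).1 S (fun x hx => ((g6 x (h3 x hx)).2 f hf).1) h6).2.2
  rw [h5, Nat.sub_eq, Nat.add_sub_cancel_left, ph_eq s G, ph_eq s f.1, h8, h9]
  have h10 := Multiset.sum_map_le_sum_map _ _ fun x (hx : x ∈ S) => ((g6 x (h3 x hx)).2 f hf).2
  rw [Multiset.sum_map_add, Multiset.sum_map_mul_left] at h10
  have h11 := Nat.mul_le_mul_left (n 0) (g5 f hf).2
  have h12 := Nat.mul_le_mul_left (f.2 / h0) h7
  have h13 := Nat.div_mul_le_self f.2 h0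
  rw [mul_add] at h11 h12
  rw [mul_comm (n 0) (f.2 / h0)] at h11
  omega


end Cfsg.Agent.E7P.Ns
end

-- part: E7P/Ns/Two
section
/-!
# S5932, NONSPLIT: the fields with 169, 121, 49 elements (helper88)
-/

set_option autoImplicit false
set_option maxRecDepth 100000
set_option Elab.async false

namespace Cfsg.Agent.E7P.Ns

open Cfsg.Agent.R2.H28.SL2 (hb)
open Finset

/-- the labels -/
def gs169 : GrL :=
  (.cons (nat_lit 4638725242804633855) (.cons (nat_lit 72198537953411072) (nat_lit 0)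
  (.cons (nat_lit 36099303471055874) (nat_lit 1) (.cons (nat_lit 36099303471055360) (nat_lit 0)
  (.cons (nat_lit 72163284727365632) (nat_lit 0) (.cons (nat_lit 36099303470792704) (nat_lit 0)
  (.cons (nat_lit 36064050245009921) (nat_lit 0) (.cons (nat_lit 36099303336312832) (nat_lit 0)
  (.cons (nat_lit 36099234482618368) (nat_lit 0) (.cons (nat_lit 36063981391052800) (nat_lit 0) .nil)))))))))
  (.cons (nat_lit 4620746028667240703) (.cons (nat_lit 35322214483459) (nat_lit 0)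
  (.cons (nat_lit 35253226045953) (nat_lit 0) .nil)) (.cons (nat_lit 4620710913014628607)
  (.cons (nat_lit 68988700677) (nat_lit 0) (.cons (nat_lit 68988700163) (nat_lit 0)
  (.cons (nat_lit 68853957121) (nat_lit 0) .nil))) (.cons (nat_lit 4620710844429369599)
  (.cons (nat_lit 134743555) (nat_lit 0) (.cons (nat_lit 134480385) (nat_lit 0) .nil))
  (.cons (nat_lit 4620710844295414015) (.cons (nat_lit 263171) (nat_lit 0) (.cons (nat_lit 262657) (nat_lit 0)
  .nil)) (.cons (nat_lit 4620710844295152383) (.cons (nat_lit 513) (nat_lit 0) .nil) .nil))))))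

private noncomputable def _root_.Cfsg.Agent.LsF.f0f5dc7_0 : {f // @Cfsg.Agent.E7P.Ns.msk = f} := ⟨_, by first | (delta Cfsg.Agent.E7P.Ns.msk; rewrite [Cfsg.Agent.LsF.nadd_pat, Cfsg.Agent.LsF.nmul_pat]; exact rfl) | exact rfl⟩
private noncomputable def _root_.Cfsg.Agent.LsF.f0f5dc7_1 : {f // @Cfsg.Agent.E7P.Ns.GrL.tl = f} := ⟨_, by first | (delta Cfsg.Agent.E7P.Ns.GrL.tl; rewrite [Cfsg.Agent.LsF.lappend_pat]; exact rfl) | exact rfl⟩
private noncomputable def _root_.Cfsg.Agent.LsF.f0f5dc7_2 : {f // @Cfsg.Agent.E7P.Ns.dm = f} := ⟨_, by first | (delta Cfsg.Agent.E7P.Ns.dm; rewrite [Cfsg.Agent.LsF.nadd_pat, Cfsg.Agent.LsF.ndiv_pat, Cfsg.Agent.LsF.nmod_pat]; exact rfl) | exact rfl⟩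
private noncomputable def _root_.Cfsg.Agent.LsF.f0f5dc7_3 : {f // @Cfsg.Agent.E7P.Ns.okG = f} := ⟨_, by first | (delta Cfsg.Agent.E7P.Ns.okG; rewrite [Cfsg.Agent.LsF.f0f5dc7_0.2, Cfsg.Agent.LsF.f0f5dc7_1.2, Cfsg.Agent.LsF.f0f5dc7_2.2, Cfsg.Agent.LsF.nadd_pat, Cfsg.Agent.LsF.nmul_pat, Cfsg.Agent.LsF.nsub_pat, Cfsg.Agent.LsF.npow_pat, Cfsg.Agent.LsF.and_eq, Cfsg.Agent.LsF.all_eq]; exact rfl) | exact rfl⟩
private noncomputable def _root_.Cfsg.Agent.LsF.f0f5dc7_4 : {f // @Cfsg.Agent.E7P.Ns.wl = f} := ⟨_, by first | (delta Cfsg.Agent.E7P.Ns.wl; rewrite [Cfsg.Agent.LsF.nadd_pat, Cfsg.Agent.LsF.nmul_pat, Cfsg.Agent.LsF.nsub_pat, Cfsg.Agent.LsF.nmod_pat, Cfsg.Agent.LsF.npow_pat]; exact rfl) | exact rfl⟩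
private noncomputable def _root_.Cfsg.Agent.LsF.f0f5dc7_5 : {f // @Cfsg.Agent.E7P.Ns.fo = f} := ⟨_, by first | (delta Cfsg.Agent.E7P.Ns.fo; rewrite [Cfsg.Agent.LsF.f0f5dc7_4.2, Cfsg.Agent.LsF.nmul_pat, Cfsg.Agent.LsF.npow_pat, Cfsg.Agent.LsF.instDecEq_eq, Cfsg.Agent.LsF.dExistsLT_eq, Cfsg.Agent.LsF.ite_eq]; exact rfl) | exact rfl⟩
private noncomputable def _root_.Cfsg.Agent.LsF.f0f5dc7_6 : {f // @Cfsg.Agent.E7P.Ns.sF = f} := ⟨_, by first | (delta Cfsg.Agent.E7P.Ns.sF; rewrite [Cfsg.Agent.LsF.f0f5dc7_5.2, Cfsg.Agent.LsF.nmul_pat, Cfsg.Agent.LsF.npow_pat, Cfsg.Agent.LsF.instDecEq_eq, Cfsg.Agent.LsF.map_eq, Cfsg.Agent.LsF.range_eq, Cfsg.Agent.LsF.sum_eq, Cfsg.Agent.LsF.ite_eq]; exact rfl) | exact rfl⟩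
private noncomputable def _root_.Cfsg.Agent.LsF.f0f5dc7_7 : {f // @Cfsg.Agent.E7P.Ns.inB = f} := ⟨_, by first | (delta Cfsg.Agent.E7P.Ns.inB; rewrite [Cfsg.Agent.LsF.ndiv_pat, Cfsg.Agent.LsF.nmod_pat, Cfsg.Agent.LsF.and_eq]; exact rfl) | exact rfl⟩
private noncomputable def _root_.Cfsg.Agent.LsF.f0f5dc7_8 : {f // @Cfsg.Agent.E7P.Ns.sB = f} := ⟨_, by first | (delta Cfsg.Agent.E7P.Ns.sB; rewrite [Cfsg.Agent.LsF.f0f5dc7_7.2, Cfsg.Agent.LsF.nadd_pat, Cfsg.Agent.LsF.map_eq, Cfsg.Agent.LsF.range_eq, Cfsg.Agent.LsF.sum_eq, Cfsg.Agent.LsF.dBoolEq_eq, Cfsg.Agent.LsF.ite_eq]; exact rfl) | exact rfl⟩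
private noncomputable def _root_.Cfsg.Agent.LsF.f0f5dc7_9 : {f // @Cfsg.Agent.E7P.Ns.pl = f} := ⟨_, by first | (delta Cfsg.Agent.E7P.Ns.pl; rewrite [Cfsg.Agent.LsF.nadd_pat, Cfsg.Agent.LsF.ndiv_pat, Cfsg.Agent.LsF.nmod_pat, Cfsg.Agent.LsF.npow_pat]; exact rfl) | exact rfl⟩
private noncomputable def _root_.Cfsg.Agent.LsF.f0f5dc7_10 : {f // @Cfsg.Agent.E7P.Ns.vec = f} := ⟨_, by first | (delta Cfsg.Agent.E7P.Ns.vec; rewrite [Cfsg.Agent.LsF.f0f5dc7_8.2, Cfsg.Agent.LsF.f0f5dc7_9.2, Cfsg.Agent.LsF.nadd_pat, Cfsg.Agent.LsF.nmul_pat, Cfsg.Agent.LsF.nsub_pat, Cfsg.Agent.LsF.ndiv_pat, Cfsg.Agent.LsF.nmod_pat]; exact rfl) | exact rfl⟩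
private noncomputable def _root_.Cfsg.Agent.LsF.f0f5dc7_13 : {f // @Cfsg.Agent.E7P.Ns.ud = f} := ⟨_, by first | (delta Cfsg.Agent.E7P.Ns.ud; rewrite [Cfsg.Agent.LsF.nadd_pat, Cfsg.Agent.LsF.nmul_pat]; exact rfl) | exact rfl⟩
private noncomputable def _root_.Cfsg.Agent.LsF.f0f5dc7_14 : {f // @Cfsg.Agent.E7P.Ns.dimN = f} := ⟨_, by first | (delta Cfsg.Agent.E7P.Ns.dimN; rewrite [Cfsg.Agent.LsF.f0f5dc7_8.2]; exact rfl) | exact rfl⟩
private noncomputable def _root_.Cfsg.Agent.LsF.f0f5dc7_15 : {f // @Cfsg.Agent.E7P.Ns.okL = f} := ⟨_, by first | (delta Cfsg.Agent.E7P.Ns.okL; rewrite [Cfsg.Agent.LsF.f0f5dc7_3.2, Cfsg.Agent.LsF.f0f5dc7_0.2, Cfsg.Agent.LsF.f0f5dc7_6.2, Cfsg.Agent.LsF.f0f5dc7_10.2, Cfsg.Agent.LsF.f0f5dc7_13.2, Cfsg.Agent.LsF.f0f5dc7_5.2, Cfsg.Agent.LsF.f0f5dc7_14.2, Cfsg.Agent.LsF.f0f5dc7_1.2, Cfsg.Agent.LsF.f0f5dc7_2.2, Cfsg.Agent.LsF.nadd_pat, Cfsg.Agent.LsF.nmod_pat, Cfsg.Agent.LsF.npow_pat, Cfsg.Agent.LsF.and_eq, Cfsg.Agent.LsF.or_eq,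 Cfsg.Agent.LsF.all_eq, Cfsg.Agent.LsF.any_eq, Cfsg.Agent.LsF.range_eq]; exact rfl) | exact rfl⟩
theorem okL169 : okL 13 2 12 (6 + 1) (fun _ => 0) gs169 4620710844295151872
    4476313630410927357
    0 4 = true := by ((try (rewrite [Cfsg.Agent.LsF.f0f5dc7_15.2, Cfsg.Agent.LsF.nadd_pat])); decide +kernel)

theorem okE169 : okE 12 = true := by decide +kernel

private def fs169 : IL :=
  (.cons (nat_lit 18190664102316546) (nat_lit 4)
  (.cons (nat_lit 36204856989714946) (nat_lit 2)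
  (.cons (nat_lit 54149092377625092) (nat_lit 0)
  .nil)))

private noncomputable def gk169 : ℕ → Bool :=
  go2 (nat_lit 4620710844295151872)
    (nat_lit 4476313630410927357) (nat_lit 2)
    (nat_lit 0) (nat_lit 4) [0] gs169 (nat_lit 54) (nat_lit 54148955206583811) fs169

private theorem okF169 : okF 13 2 (6 + 1) 54 54148955206583811 2 gs169 fs169 = true := by decide +kernel

private theorem d169_0 : ch2 (nat_lit 9223372036854775808) gk169 12 0 = true := by decide +kernel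

private theorem d169_1 : ch2 (nat_lit 9223372036854775808) gk169 12 1 = true := by decide +kernel

private theorem d169_2 : ch2 (nat_lit 9223372036854775808) gk169 12 2 = true := by decide +kernel

private theorem d169_3 : ch2 (nat_lit 9223372036854775808) gk169 12 3 = true := by decide +kernel

private theorem d169_4 : ch2 (nat_lit 9223372036854775808) gk169 12 4 = true := by decide +kernel

private theorem d169_5 : ch2 (nat_lit 9223372036854775808) gk169 12 5 = true := by decide +kernel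

private theorem d169_6 : ch2 (nat_lit 9223372036854775808) gk169 12 6 = true := by decide +kernel

private theorem al169 : ∀ j ≤ 12 / 2, ch2 (512 ^ (12 / 2 + 1)) gk169 12 j = true := by
  intro j hj
  rw [show 512 ^ (12 / 2 + 1) = 9223372036854775808 by norm_num]
  replace hj : j ≤ 6 := hj
  interval_cases j
  exacts [d169_0, d169_1, d169_2, d169_3, d169_4, d169_5, d169_6]

theorem num169 {n : ℕ → ℕ} (hdim : ∑ b ∈ range (13 ^ 2), n b * dimN 13 b = 133) (hev : ∀ b, n b ≠ 0 → Even b)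
    (hf : ∀ b, fo 13 2 b ≤ n b) (hp : n 0 + 2 ≤ ∑ b ∈ range (13 ^ 2), n b * hb 13 2 b)
    (h : Cls 12 (∑ b ∈ range (13 ^ 2), n b * vec 12 13 b)) : False := by
  obtain ⟨Y, h1, h2⟩ := cls2_ok (by norm_num) okE169 al169 h
  exact num2_ok (by norm_num) okL169 okF169 hdim hev hf hp (List.mem_singleton.2 (sum_eq_zero fun _ _ => mul_zero _)) h1 h2

/-- the labels -/
def gs121 : GrL :=
  (.cons (nat_lit 318770771407608987694816952575) (.cons (nat_lit 2483143096704257441317782531) (nat_lit 0)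
  (.cons (nat_lit 2480725245065028182968370691) (nat_lit 0)
  (.cons (nat_lit 2483143096704257441317519874) (nat_lit 0)
  (.cons (nat_lit 2478307393425798924618696194) (nat_lit 0)
  (.cons (nat_lit 2478307393443848507500003840) (nat_lit 0)
  (.cons (nat_lit 2483143096686207789582255107) (nat_lit 0)
  (.cons (nat_lit 2480725235823606494512285187) (nat_lit 0)
  (.cons (nat_lit 2480725245065028182833627649) (nat_lit 0)
  (.cons (nat_lit 2478307384202426887763657729) (nat_lit 0)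
  (.cons (nat_lit 2480725245046978531232580097) (nat_lit 0)
  (.cons (nat_lit 2478307384184377236162610177) (nat_lit 0)
  (.cons (nat_lit 2480720513439074041851282435) (nat_lit 0)
  (.cons (nat_lit 2480725235823571241286238721) (nat_lit 0)
  (.cons (nat_lit 2478307384184341982936826881) (nat_lit 0)
  (.cons (nat_lit 2478302661817894366383178240) (nat_lit 1)
  (.cons (nat_lit 2480720513439073972997325313) (nat_lit 0)
  (.cons (nat_lit 2478302652576472677927355393) (nat_lit 0)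
  (.cons (nat_lit 2478302652576472677792875009) (nat_lit 0) .nil))))))))))))))))))
  (.cons (nat_lit 317535249219962836678267240703) (.cons (nat_lit 2422592488555505175233026) (nat_lit 0)
  (.cons (nat_lit 2422592488555505040752640) (nat_lit 0) (.cons (nat_lit 2422583247133816584929280) (nat_lit 0)
  (.cons (nat_lit 2417860862636548296015873) (nat_lit 0) (.cons (nat_lit 2417860862601363923927041) (nat_lit 0)
  (.cons (nat_lit 2417860862601295204450305) (nat_lit 0) (.cons (nat_lit 2417851639229258349674497) (nat_lit 0)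
  (.cons (nat_lit 2417851639229258349412353) (nat_lit 0) .nil))))))))
  (.cons (nat_lit 317532836090690090289563042047) (.cons (nat_lit 4731625954209970782720) (nat_lit 0)
  (.cons (nat_lit 4731607904558235517440) (nat_lit 0) (.cons (nat_lit 4731607904558235254784) (nat_lit 0) .nil)))
  (.cons (nat_lit 317532831377546979456772604159) (.cons (nat_lit 9241456941681868800) (nat_lit 0)
  (.cons (nat_lit 9241421688455823360) (nat_lit 0) .nil)) (.cons (nat_lit 317532831368341621818427310335)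
  (.cons (nat_lit 18049651735265280) (nat_lit 0) (.cons (nat_lit 18049582881570816) (nat_lit 0) .nil))
  (.cons (nat_lit 317532831368323642604289917183) (.cons (nat_lit 35253226045953) (nat_lit 0) .nil)
  (.cons (nat_lit 317532831368323607488637305087) (.cons (nat_lit 68853957121) (nat_lit 0) .nil)
  (.cons (nat_lit 317532831368323607420052046079) (.cons (nat_lit 134480385) (nat_lit 0) .nil)
  (.cons (nat_lit 317532831368323607419918090495) (.cons (nat_lit 262657) (nat_lit 0) .nil)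
  (.cons (nat_lit 317532831368323607419917828863) (.cons (nat_lit 513) (nat_lit 0) .nil) .nil))))))))))

theorem okL121 : okL 11 2 20 (10 + 1) (fun _ => 0) gs121 317532831368323607419917828352
    307617202869412800696035702533
    0 4 = true := by ((try (rewrite [Cfsg.Agent.LsF.f0f5dc7_15.2, Cfsg.Agent.LsF.nadd_pat])); decide +kernel)

theorem okE121 : okE 20 = true := by decide +kernel

private def fs121 : IL :=
  (.cons (nat_lit 1250043492305275357005351426) (nat_lit 4)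
  (.cons (nat_lit 2485565698380085817717557252) (nat_lit 2)
  (.cons (nat_lit 14521304659089430960671747) (nat_lit 6)
  .nil)))

private noncomputable def gk121 : ℕ → Bool :=
  go2 (nat_lit 317532831368323607419917828352)
    (nat_lit 307617202869412800696035702533) (nat_lit 2)
    (nat_lit 0) (nat_lit 4) [0] gs121 (nat_lit 90) (nat_lit 3721087867597542274452162051) fs121

private theorem okF121 : okF 11 2 (10 + 1) 90 3721087867597542274452162051 2 gs121 fs121 = true := by decide +kernel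

private theorem d121_0 : ch2 (nat_lit 633825300114114700748351602688) gk121 20 0 = true := by decide +kernel

private theorem d121_1 : ch2 (nat_lit 633825300114114700748351602688) gk121 20 1 = true := by decide +kernel

private theorem d121_2 : ch2 (nat_lit 633825300114114700748351602688) gk121 20 2 = true := by decide +kernel

private theorem d121_3 : ch2 (nat_lit 633825300114114700748351602688) gk121 20 3 = true := by decide +kernel

private theorem d121_4 : ch2 (nat_lit 633825300114114700748351602688) gk121 20 4 = true := by decide +kernel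

private theorem d121_5 : ch2 (nat_lit 633825300114114700748351602688) gk121 20 5 = true := by decide +kernel

private theorem d121_6 : ch2 (nat_lit 633825300114114700748351602688) gk121 20 6 = true := by decide +kernel

private theorem d121_7 : ch2 (nat_lit 633825300114114700748351602688) gk121 20 7 = true := by decide +kernel

private theorem d121_8 : ch2 (nat_lit 633825300114114700748351602688) gk121 20 8 = true := by decide +kernel

private theorem d121_9 : ch2 (nat_lit 633825300114114700748351602688) gk121 20 9 = true := by decide +kernel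

private theorem d121_10 : ch2 (nat_lit 633825300114114700748351602688) gk121 20 10 = true := by decide +kernel

private theorem al121 : ∀ j ≤ 20 / 2, ch2 (512 ^ (20 / 2 + 1)) gk121 20 j = true := by
  intro j hj
  rw [show 512 ^ (20 / 2 + 1) = 633825300114114700748351602688 by norm_num]
  replace hj : j ≤ 10 := hj
  interval_cases j
  exacts [d121_0, d121_1, d121_2, d121_3, d121_4, d121_5, d121_6, d121_7, d121_8, d121_9, d121_10]

theorem num121 {n : ℕ → ℕ} (hdim : ∑ b ∈ range (11 ^ 2), n b * dimN 11 b = 133) (hev : ∀ b, n b ≠ 0 → Even b)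
    (hf : ∀ b, fo 11 2 b ≤ n b) (hp : n 0 + 2 ≤ ∑ b ∈ range (11 ^ 2), n b * hb 11 2 b)
    (h : Cls 20 (∑ b ∈ range (11 ^ 2), n b * vec 20 11 b)) : False := by
  obtain ⟨Y, h1, h2⟩ := cls2_ok (by norm_num) okE121 al121 h
  exact num2_ok (by norm_num) okL121 okF121 hdim hev hf hp (List.mem_singleton.2 (sum_eq_zero fun _ _ => mul_zero _)) h1 h2

/-- the labels -/
def gs49 : GrL :=
  (.cons (nat_lit 83563845099876250470270095216214271)
  (.cons (nat_lit 650307238642326747995991712465923) (nat_lit 0)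
  (.cons (nat_lit 650306000702278239243679824085504) (nat_lit 0)
  (.cons (nat_lit 650307238642326729946339976937985) (nat_lit 0)
  (.cons (nat_lit 649672175402164106528464243786753) (nat_lit 0)
  (.cons (nat_lit 649672175402164106493211017740801) (nat_lit 0)
  (.cons (nat_lit 650305998279694992109863373636096) (nat_lit 0)
  (.cons (nat_lit 649672172979590100816336248897536) (nat_lit 0)
  (.cons (nat_lit 649672172974858492911846867337216) (nat_lit 0) .nil))))))))
  (.cons (nat_lit 83239960371517937858187687547240703) (.cons (nat_lit 635065662736647179655463567873) (nat_lit 0)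
  (.cons (nat_lit 635065662736647179586609611265) (nat_lit 0)
  (.cons (nat_lit 635063240162641467527468679168) (nat_lit 1)
  (.cons (nat_lit 635063240153400081092104421376) (nat_lit 0) .nil))))
  (.cons (nat_lit 83239327784157863028867214094762239) (.cons (nat_lit 1240362622532514091484054017) (nat_lit 0)
  (.cons (nat_lit 1237940048508752311888117761) (nat_lit 0)
  (.cons (nat_lit 1237940048508752311753900033) (nat_lit 0) .nil)))
  (.cons (nat_lit 83239326548635675382716197545050367) (.cons (nat_lit 2422583247133747731235329) (nat_lit 0) .nil)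
  (.cons (nat_lit 83239326546222546109969808840851711) (.cons (nat_lit 4731607869305009472001) (nat_lit 0) .nil)
  (.cons (nat_lit 83239326546217832966858976050413823) (.cons (nat_lit 9223372036854775809) (nat_lit 0) .nil)
  (.cons (nat_lit 83239326546217823761501337705119999) (.cons (nat_lit 18049651735527936) (nat_lit 1) .nil)
  (.cons (nat_lit 83239326546217823743522123567726847) (.cons (nat_lit 35253226045440) (nat_lit 0) .nil)
  (.cons (nat_lit 83239326546217823743487007915114751) (.cons (nat_lit 68853694464) (nat_lit 0) .nil)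
  (.cons (nat_lit 83239326546217823743486939329855743) (.cons (nat_lit 134480385) (nat_lit 0) .nil)
  (.cons (nat_lit 83239326546217823743486939195900159) (.cons (nat_lit 262657) (nat_lit 0) .nil)
  (.cons (nat_lit 83239326546217823743486939195638527) (.cons (nat_lit 513) (nat_lit 0) .nil) .nil))))))))))))

theorem okL49 : okL 7 2 24 (12 + 1) (fun _ => 0) gs49 83239326546217823743486939195638016
    83238056419737489201080543932447493
    0 4 = true := by ((try (rewrite [Cfsg.Agent.LsF.f0f5dc7_15.2, Cfsg.Agent.LsF.nadd_pat])); decide +kernel)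

theorem okE49 : okE 24 = true := by decide +kernel

private def fs49 : IL :=
  (.cons (nat_lit 327691401246864897899472121234948) (nat_lit 4)
  (.cons (nat_lit 975460857963490158022647417144834) (nat_lit 0)
  (.cons (nat_lit 3810379469282269710849051985410) (nat_lit 6)
  (.cons (nat_lit 327691406077836622531810619556869) (nat_lit 4)
  .nil))))

private noncomputable def gk49 : ℕ → Bool :=
  go2 (nat_lit 83239326546217823743486939195638016)
    (nat_lit 83238056419737489201080543932447493) (nat_lit 2)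
    (nat_lit 0) (nat_lit 4) [0] gs49 (nat_lit 108) (nat_lit 975460857963490121993987568698883) fs49

private theorem okF49 : okF 7 2 (12 + 1) 108 975460857963490121993987568698883 2 gs49 fs49 = true := by decide +kernel

private theorem d49_0 : ch2 (nat_lit 166153499473114484112975882535043072) gk49 24 0 = true := by decide +kernel

private theorem d49_1 : ch2 (nat_lit 166153499473114484112975882535043072) gk49 24 1 = true := by decide +kernel

private theorem d49_2 : ch2 (nat_lit 166153499473114484112975882535043072) gk49 24 2 = true := by decide +kernel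

private theorem d49_3 : ch2 (nat_lit 166153499473114484112975882535043072) gk49 24 3 = true := by decide +kernel

private theorem d49_4 : ch2 (nat_lit 166153499473114484112975882535043072) gk49 24 4 = true := by decide +kernel

private theorem d49_5 : ch2 (nat_lit 166153499473114484112975882535043072) gk49 24 5 = true := by decide +kernel

private theorem d49_6 : ch2 (nat_lit 166153499473114484112975882535043072) gk49 24 6 = true := by decide +kernel

private theorem d49_7 : ch2 (nat_lit 166153499473114484112975882535043072) gk49 24 7 = true := by decide +kernel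

private theorem d49_8 : ch2 (nat_lit 166153499473114484112975882535043072) gk49 24 8 = true := by decide +kernel

private theorem d49_9 : ch2 (nat_lit 166153499473114484112975882535043072) gk49 24 9 = true := by decide +kernel

private theorem d49_10 : ch2 (nat_lit 166153499473114484112975882535043072) gk49 24 10 = true := by decide +kernel

private theorem d49_11 : ch2 (nat_lit 166153499473114484112975882535043072) gk49 24 11 = true := by decide +kernel

private theorem d49_12 : ch2 (nat_lit 166153499473114484112975882535043072) gk49 24 12 = true := by decide +kernel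

private theorem al49 : ∀ j ≤ 24 / 2, ch2 (512 ^ (24 / 2 + 1)) gk49 24 j = true := by
  intro j hj
  rw [show 512 ^ (24 / 2 + 1) = 166153499473114484112975882535043072 by norm_num]
  replace hj : j ≤ 12 := hj
  interval_cases j
  exacts [d49_0, d49_1, d49_2, d49_3, d49_4, d49_5, d49_6, d49_7, d49_8, d49_9, d49_10, d49_11, d49_12]

theorem num49 {n : ℕ → ℕ} (hdim : ∑ b ∈ range (7 ^ 2), n b * dimN 7 b = 133) (hev : ∀ b, n b ≠ 0 → Even b)
    (hf : ∀ b, fo 7 2 b ≤ n b) (hp : n 0 + 2 ≤ ∑ b ∈ range (7 ^ 2), n b * hb 7 2 b)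
    (h : Cls 24 (∑ b ∈ range (7 ^ 2), n b * vec 24 7 b)) : False := by
  obtain ⟨Y, h1, h2⟩ := cls2_ok (by norm_num) okE49 al49 h
  exact num2_ok (by norm_num) okL49 okF49 hdim hev hf hp (List.mem_singleton.2 (sum_eq_zero fun _ _ => mul_zero _)) h1 h2

end Cfsg.Agent.E7P.Ns
end

-- part: E7P/Ns/Three
section
/-!
# S5932, NONSPLIT: the field with 125 elements (helper88)
-/

set_option autoImplicit false
set_option maxRecDepth 100000
set_option Elab.async false

namespace Cfsg.Agent.E7P.Ns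

open Cfsg.Agent.R2.H28.SL2 (hb)
open Finset

private def fs125 : IL :=
  (.cons (nat_lit 43982328315261457366208873654390682550790) (nat_lit 6)
  (.cons (nat_lit 43981996333414890095790676600069845156869) (nat_lit 6)
  (.cons (nat_lit 130924305939040159120800724055854508935172) (nat_lit 0)
  (.cons (nat_lit 131094115786520803972497310342522098680836) (nat_lit 0)
  (.cons (nat_lit 130924140108790351124485064503113567437827) (nat_lit 0)
  (.cons (nat_lit 130924140759095109041539041325946009552388) (nat_lit 0)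
  (.cons (nat_lit 87453399716488270035912534515222663922692) (nat_lit 3)
  (.cons (nat_lit 130924306262289824238950730770038045542402) (nat_lit 0)
  (.cons (nat_lit 43981996333414890091077551433335807672326) (nat_lit 6)
  (.cons (nat_lit 130924140110691827024827354562094374324228) (nat_lit 0)
  (.cons (nat_lit 130924140433308904792328854135829595161093) (nat_lit 0)
  (.cons (nat_lit 130924471768019840641532004043189427635203) (nat_lit 0)
  (.cons (nat_lit 87453068058526431128510887296503940384771) (nat_lit 3)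
  (.cons (nat_lit 131009211674710072011004335935049174352389) (nat_lit 0)
  (.cons (nat_lit 130924140108790353537614337284755229246466) (nat_lit 0)
  (.cons (nat_lit 131094115462636075604749188666480311141891) (nat_lit 0)
  (.cons (nat_lit 87453234211392078952307207751800699225092) (nat_lit 3)
  (.cons (nat_lit 87453400040372998398929084350824644084740) (nat_lit 3)
  (.cons (nat_lit 130924306910694344200442480077195263082502) (nat_lit 0)
  (.cons (nat_lit 130924140758461286163989709000404450673669) (nat_lit 0)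
  (.cons (nat_lit 510922986344406075810296661382571755011) (nat_lit 9)
  (.cons (nat_lit 131009045195424394637892955010438800082435) (nat_lit 0)
  (.cons (nat_lit 130924472415789297353434825731522071103491) (nat_lit 0)
  (.cons (nat_lit 130924140757827458441329258668660454588933) (nat_lit 0)
  (.cons (nat_lit 130924140110058004147268834858128473589252) (nat_lit 0)
  (.cons (nat_lit 131009044871539666293710602826134926655493) (nat_lit 0)
  (.cons (nat_lit 87453068382411159500972170097845077280259) (nat_lit 3)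
  (.cons (nat_lit 130924472091270743699730501424848342615555) (nat_lit 0)
  (.cons (nat_lit 131009211025672964694160123755103643502084) (nat_lit 0)
  (.cons (nat_lit 130924140432676317432263248152277344322565) (nat_lit 0)
  (.cons (nat_lit 130924472417058185888979973960055284303364) (nat_lit 0)
  (.cons (nat_lit 511422418497010480005648333685516664838) (nat_lit 9)
  (.cons (nat_lit 130924306261657236878875919499078755158018) (nat_lit 0)
  (.cons (nat_lit 131009542682367153006055944154292486407171) (nat_lit 0)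
  (.cons (nat_lit 130924140432675084318482508370195262998530) (nat_lit 0)
  (.cons (nat_lit 130924140433942730083035093330257775428612) (nat_lit 0)
  .nil))))))))))))))))))))))))))))))))))))

private noncomputable def gk125 : ℕ → Bool :=
  go2 (nat_lit 11172193289283443295955271776512682085187840)
    (nat_lit 11085080670394376869282500896437065748183812) (nat_lit 3)
    (nat_lit 35184372089344) (nat_lit 378830753966065158) cs125 gs125 (nat_lit 135) (nat_lit 130924140108790351124475841131007993185795) fs125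

private noncomputable def _root_.Cfsg.Agent.LsF.f0f5dc7_16 : {f // @Cfsg.Agent.E7P.Ns.bnd = f} := ⟨_, by first | (delta Cfsg.Agent.E7P.Ns.bnd; rewrite [Cfsg.Agent.LsF.nmul_pat, Cfsg.Agent.LsF.nmod_pat, Cfsg.Agent.LsF.npow_pat, Cfsg.Agent.LsF.and_eq]; exact rfl) | exact rfl⟩
private noncomputable def _root_.Cfsg.Agent.LsF.f0f5dc7_17 : {f // @Cfsg.Agent.E7P.Ns.okF = f} := ⟨_, by first | (delta Cfsg.Agent.E7P.Ns.okF; rewrite [Cfsg.Agent.LsF.f0f5dc7_6.2, Cfsg.Agent.LsF.f0f5dc7_14.2, Cfsg.Agent.LsF.f0f5dc7_16.2, Cfsg.Agent.LsF.f0f5dc7_1.2, Cfsg.Agent.LsF.f0f5dc7_2.2, Cfsg.Agent.LsF.nadd_pat, Cfsg.Agent.LsF.nmul_pat, Cfsg.Agent.LsF.ndiv_pat, Cfsg.Agent.LsF.nmod_pat, Cfsg.Agent.LsF.and_eq, Cfsg.Agent.LsF.all_eq]; exact rfl) | exact rfl⟩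
private theorem okF125 : okF 5 3 (15 + 1) 135 130924140108790351124475841131007993185795 3 gs125 fs125 = true := by ((try (rewrite [Cfsg.Agent.LsF.f0f5dc7_17.2, Cfsg.Agent.LsF.nadd_pat])); decide +kernel)

private theorem d125_0 : ch2 (nat_lit 22300745198530623141535718272648361505980416) gk125 31 0 = true := by decide +kernel

private theorem d125_1 : ch2 (nat_lit 22300745198530623141535718272648361505980416) gk125 31 1 = true := by decide +kernel

private theorem d125_2 : ch2 (nat_lit 22300745198530623141535718272648361505980416) gk125 31 2 = true := by decide +kernel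

private theorem d125_3 : ch2 (nat_lit 22300745198530623141535718272648361505980416) gk125 31 3 = true := by decide +kernel

private theorem d125_4 : ch2 (nat_lit 22300745198530623141535718272648361505980416) gk125 31 4 = true := by decide +kernel

private theorem d125_5 : ch2 (nat_lit 22300745198530623141535718272648361505980416) gk125 31 5 = true := by decide +kernel

private theorem d125_6 : ch2 (nat_lit 22300745198530623141535718272648361505980416) gk125 31 6 = true := by decide +kernel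

private theorem d125_7 : ch2 (nat_lit 22300745198530623141535718272648361505980416) gk125 31 7 = true := by decide +kernel

private theorem d125_8 : ch2 (nat_lit 22300745198530623141535718272648361505980416) gk125 31 8 = true := by decide +kernel

private theorem d125_9 : ch2 (nat_lit 22300745198530623141535718272648361505980416) gk125 31 9 = true := by decide +kernel

private theorem d125_10 : ch2 (nat_lit 22300745198530623141535718272648361505980416) gk125 31 10 = true := by decide +kernel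

private theorem d125_11 : ch2 (nat_lit 22300745198530623141535718272648361505980416) gk125 31 11 = true := by decide +kernel

private theorem d125_12 : ch2 (nat_lit 22300745198530623141535718272648361505980416) gk125 31 12 = true := by decide +kernel

private theorem d125_13 : ch2 (nat_lit 22300745198530623141535718272648361505980416) gk125 31 13 = true := by decide +kernel

private theorem d125_14 : ch2 (nat_lit 22300745198530623141535718272648361505980416) gk125 31 14 = true := by decide +kernel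

private theorem d125_15 : ch2 (nat_lit 22300745198530623141535718272648361505980416) gk125 31 15 = true := by decide +kernel

private theorem al125 : ∀ j ≤ 31 / 2, ch2 (512 ^ (31 / 2 + 1)) gk125 31 j = true := by
  intro j hj
  rw [show 512 ^ (31 / 2 + 1) = 22300745198530623141535718272648361505980416 by norm_num]
  replace hj : j ≤ 15 := hj
  interval_cases j
  exacts [d125_0, d125_1, d125_2, d125_3, d125_4, d125_5, d125_6, d125_7, d125_8, d125_9, d125_10, d125_11, d125_12, d125_13, d125_14, d125_15]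

theorem num125 {n : ℕ → ℕ} (hdim : ∑ b ∈ range (5 ^ 3), n b * dimN 5 b = 133) (hev : ∀ b, n b ≠ 0 → Even b)
    (hf : ∀ b, fo 5 3 b ≤ n b) (hp : n 0 + 3 ≤ ∑ b ∈ range (5 ^ 3), n b * hb 5 3 b)
    (h : Cls 31 (∑ b ∈ range (5 ^ 3), n b * vec 31 5 b))
    (h7 : Cls 7 (∑ b ∈ range (5 ^ 3), n b * vec 7 5 b)) (h3 : Cls 3 (∑ b ∈ range (5 ^ 3), n b * vec 3 5 b)) : False := by
  obtain ⟨Y, h1, h2⟩ := cls2_ok (by norm_num) okE125 al125 h
  obtain ⟨Y7, e7, m7⟩ := cls_ok (by norm_num) (by norm_num) okE7 (fun j hj => chR_ok c7 (Nat.zero_le j) hj) h7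
  obtain ⟨Y3, e3, m3⟩ := cls_ok (by norm_num) (by norm_num) okE3 (fun j hj => chR_ok c3 (Nat.zero_le j) hj) h3
  refine num2_ok (by norm_num) okL125 okF125 hdim hev hf hp ?_ h1 h2
  refine List.mem_flatMap.2 ⟨Y7, mem_ok.1 m7, List.mem_map.2 ⟨Y3, mem_ok.1 m3, ?_⟩⟩
  rw [← e7, ← e3, mul_sum, ← sum_add_distrib]
  exact sum_congr rfl fun b _ => by rw [sm125]; ring

end Cfsg.Agent.E7P.Ns
end

-- part: E7P/Ns/Main
section
/-!
# S5932, NONSPLIT (helper88)

`Sit.ns_main`, `Sit.ns_main'` : for `|K| = 169, 121, 49, 125` the adjoint module does not have the composition factors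
`L(2 p ^ j)` and twice `J₁(j)` for all `j` together with the pressure inequality.
-/

set_option autoImplicit false
set_option maxRecDepth 100000

namespace Cfsg.Agent.E7P

open Cfsg Cfsg.Lie Module Finset
open Cfsg.Agent.R2.T1
open Cfsg.Agent.R2.H28.SL2 (IsMult hb)
open Cfsg.Agent.BpExc.TorAll (HAlg)
open Cfsg.Agent.H943.SL2Rel (h)
open Cfsg.Agent.R2.H9.E6 (pq)

universe u v

namespace Ns

/-- **NONSPLIT** -/
theorem main {p a : ℕ} [Fact p.Prime] {K : Type v} {k : Type u} [Field K] [Fintype K] [CharP K p] [Field k] [DecidableEq k]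
    [CharP k p] [IsAlgClosed k] (ι : K →+* k) (hk : HAlg p k) (ψ : Matrix.SpecialLinearGroup (Fin 2) K →* Gh k)
    (hF : Fintype.card K = p ^ a) (hc : (p = 13 ∧ a = 2) ∨ (p = 11 ∧ a = 2) ∨ (p = 7 ∧ a = 2) ∨ (p = 5 ∧ a = 3))
    {n : ℕ → ℕ} (hn : IsMult ι p a (MonoidHom.comp (L k) ψ) n) (hev : ∀ b, n b ≠ 0 → Even b)
    (h1 : ∀ j < a, 1 ≤ n (2 * p ^ j)) (h2 : ∀ j < a, 2 ≤ n (p ^ j + (p - 2) * p ^ ((j + a - 1) % a)))
    (h3 : n 0 + a ≤ ∑ c ∈ range (p ^ a), n c * R2.H28.SL2.hb p a c) : False := by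
  have ha : a ≤ 3 := by omega
  have hdim : ∑ b ∈ range (p ^ a), n b * dimN p b = 133 := by
    have h4 := hn.dim
    rw [Module.finrank_fintype_fun_eq_card, show Fintype.card chevE7.Idx = 133 from by decide +kernel] at h4
    rw [h4]
    exact sum_congr rfl fun b hb => by
      rw [card_Bf p ((mem_range.1 hb).trans_le (Nat.pow_le_pow_right (Fact.out : p.Prime).pos ha))]
  have hf : ∀ b, fo p a b ≤ n b := by
    intro b
    unfold fo
    split_ifs with h4 h4
    · obtain ⟨j, hj, rfl⟩ := h4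
      exact h1 j hj
    · obtain ⟨j, hj, rfl⟩ := h4
      exact h2 j hj
    · exact Nat.zero_le _
  have hcl := fun N => cls p ι hk ψ hF ha hn hev (N := N)
  rcases hc with ⟨rfl, rfl⟩ | ⟨rfl, rfl⟩ | ⟨rfl, rfl⟩ | ⟨rfl, rfl⟩
  · exact num169 hdim hev hf h3 (hcl 12 (by decide) (by decide) (by decide))
  · exact num121 hdim hev hf h3 (hcl 20 (by decide) (by decide) (by decide))
  · exact num49 hdim hev hf h3 (hcl 24 (by decide) (by decide) (by decide))
  · exact num125 hdim hev hf h3 (hcl 31 (by decide) (by decide) (by decide)) (hcl 7 (by decide) (by decide) (by decide))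
      (hcl 3 (by decide) (by decide) (by decide))

/-- the exceptional labels -/
theorem hb_eq {p a : ℕ} (hc : (p = 13 ∧ a = 2) ∨ (p = 11 ∧ a = 2) ∨ (p = 7 ∧ a = 2) ∨ (p = 5 ∧ a = 3)) :
    ∀ c < p ^ a, hb p a c = ∑ j ∈ range a, if c = p ^ j + (p - 2) * p ^ ((j + a - 1) % a) then 1 else 0 := by
  rcases hc with ⟨rfl, rfl⟩ | ⟨rfl, rfl⟩ | ⟨rfl, rfl⟩ | ⟨rfl, rfl⟩ <;> decide +kernel

theorem wl_lt {p a : ℕ} (hc : (p = 13 ∧ a = 2) ∨ (p = 11 ∧ a = 2) ∨ (p = 7 ∧ a = 2) ∨ (p = 5 ∧ a = 3)) :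
    ∀ j < a, p ^ j + (p - 2) * p ^ ((j + a - 1) % a) < p ^ a := by
  rcases hc with ⟨rfl, rfl⟩ | ⟨rfl, rfl⟩ | ⟨rfl, rfl⟩ | ⟨rfl, rfl⟩ <;> decide +kernel

/-- the number of exceptional factors -/
theorem sum_hb {p a : ℕ} (hc : (p = 13 ∧ a = 2) ∨ (p = 11 ∧ a = 2) ∨ (p = 7 ∧ a = 2) ∨ (p = 5 ∧ a = 3)) (n : ℕ → ℕ) :
    ∑ c ∈ range (p ^ a), n c * hb p a c = ∑ j ∈ range a, n (p ^ j + (p - 2) * p ^ ((j + a - 1) % a)) := by
  rw [sum_congr rfl fun c hc' => by rw [hb_eq hc c (mem_range.1 hc'), mul_sum], sum_comm]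
  refine sum_congr rfl fun j hj => ?_
  simp only [mul_ite, mul_one, mul_zero]
  rw [sum_ite_eq', if_pos (mem_range.2 (wl_lt hc j (mem_range.1 hj)))]

end Ns

namespace Sit

variable {p a b : ℕ} {F : Type u} {K : Type v} {k : Type u} [Field F] [Fintype F] [Field K] [Fintype K] [Field k]
  (S : Sit p a b F K k)

/-- the centre acts trivially on the Lie algebra -/
theorem ns_RL_neg : S.RL (h (-1)) = 1 := by
  have h1 : pq (h (-1) : Matrix.SpecialLinearGroup (Fin 2) K) = 1 := by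
    refine (QuotientGroup.eq_one_iff _).2 (Subgroup.mem_center_iff.2 fun g => ?_)
    refine Subtype.ext ?_
    show g.1 * !![((-1 : Kˣ) : K), 0; 0, ((-1 : Kˣ) : K)⁻¹] = !![((-1 : Kˣ) : K), 0; 0, ((-1 : Kˣ) : K)⁻¹] * g.1
    ext i j
    (revert i j; simp only [Matrix.mul_apply, Fin.sum_univ_two, inv_neg, _root_.Fin.forall_fin_succ, _root_.Units.val_neg, _root_.Units.val_one, _root_.inv_one, _root_.Matrix.of_apply, _root_.Matrix.cons_val', _root_.Matrix.cons_val_fin_one, Fin.isValue, _root_.Matrix.cons_val_zero, _root_.Matrix.cons_val_one, _root_.mul_neg, _root_.mul_one, _root_.MulZeroClass.mul_zero, _root_.add_zero, _root_.Matrix.cons_val_succ, _root_.zero_add, _root_.Fin.succ_zero_eq_one, _root_.IsEmpty.forall_iff, _root_.and_true, _root_.neg_mul, _root_.one_mul, _root_.MulZeroClass.zero_mul, _root_.and_self, _root_.neg_inj])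
  show L k (emb S.f (S.ψ0 (h (-1)))) = 1
  rw [L_adM, Kf.adM_emb, adM_apply, S.lift, h1, map_one, OneMemClass.coe_one, Units.val_one,
    Matrix.map_one _ (map_zero _) (map_one _), Matrix.toLin'_one]
  rfl

/-- **NONSPLIT** -/
theorem ns_main [DecidableEq k] (hc : (p = 13 ∧ a = 2) ∨ (p = 11 ∧ a = 2) ∨ (p = 7 ∧ a = 2) ∨ (p = 5 ∧ a = 3))
    {n : ℕ → ℕ} (hn : IsMult S.ι p a S.RL n) (h1 : ∀ j < a, 1 ≤ n (2 * p ^ j))
    (h2 : ∀ j < a, 2 ≤ n (p ^ j + (p - 2) * p ^ ((j + a - 1) % a)))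
    (h3 : n 0 + a ≤ ∑ c ∈ range (p ^ a), n c * R2.H28.SL2.hb p a c) : False := by
  classical
  have := Fact.mk S.prime
  have := S.charK
  have := S.chark
  have := S.closed
  exact Ns.main S.ι S.alg S.ψ S.cardK hc hn (hn.even S.ι p (by omega) S.ns_RL_neg) h1 h2 h3

/-- **NONSPLIT** -/
theorem ns_main' [DecidableEq k] (hc : (p = 13 ∧ a = 2) ∨ (p = 11 ∧ a = 2) ∨ (p = 7 ∧ a = 2) ∨ (p = 5 ∧ a = 3))
    {n : ℕ → ℕ} (hn : IsMult S.ι p a S.RL n) (h1 : ∀ j < a, 1 ≤ n (2 * p ^ j))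
    (h2 : ∀ j < a, 2 ≤ n (p ^ j + (p - 2) * p ^ ((j + a - 1) % a)))
    (h3 : n 0 + a ≤ ∑ j ∈ range a, n (p ^ j + (p - 2) * p ^ ((j + a - 1) % a))) : False :=
  S.ns_main hc hn h1 h2 (by rw [Ns.sum_hb hc]; exact h3)

end Sit

end Cfsg.Agent.E7P
end

-- part: E7P/A1/Mod
section
/-!
# S5932, task A1: modules for `SL₂(p)` (helper13)

* `ind` : induction of a vector fixed by the Borel subgroup;
* `Wt`, `pj` : the weight spaces of the torus and the projections on them;
* `Nn` : the operator `D₁`, `Nn ^ m = m ! D_m`;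
* `tri` : a homomorphism `L(2) → V` from a homomorphism for the Borel subgroup;
* `mem_range` : duality.
-/

set_option autoImplicit false

namespace Cfsg.Agent.E7P.A1

open Matrix Cfsg.Agent.H943.SL2Rel Cfsg.Agent.R2.H28.SL2
open Cfsg.Agent.H943.SL2Mod (apply_mul)

variable {k : Type*} [Field k] {F : Type*} [Field F] [Fintype F] [DecidableEq F] (ι : F →+* k)
variable {V : Type*} [AddCommGroup V] [Module k V] (ρ : Representation k (_root_.Matrix.SpecialLinearGroup (Fin 2) F) V)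

theorem ind {v : V} (hu : ∀ t, ρ (u t) v = v) (hh : ∀ c, ρ (h c) v = v) (g : _root_.Matrix.SpecialLinearGroup (Fin 2) F) :
    ρ g (v + ∑ t, ρ (u t) (ρ w v)) = v + ∑ t, ρ (u t) (ρ w v) := by
  have hw : ∀ c, ρ (h c) (ρ w v) = ρ w v := fun c => by rw [apply_mul, h_w, ← apply_mul, hh]
  induction g using induct with
  | hu s =>
    rw [map_add, hu, map_sum]
    exact congrArg _ (Fintype.sum_equiv (Equiv.addLeft s) _ _ fun t => by rw [apply_mul, ← u_add]; rfl)
  | hh c =>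
    rw [map_add, hh, map_sum]
    exact congrArg _ (Fintype.sum_equiv (Equiv.mulLeft₀ _ (pow_ne_zero 2 c.ne_zero)) _ _ fun t => by
      rw [apply_mul, h_u, ← apply_mul, hw]; rfl)
  | hw =>
    have h1 : ∀ t : F, ρ w (ρ (u t) (ρ w v)) = ρ (u (-t⁻¹)) (ρ w v) + if t = 0 then v - ρ w v else 0 := by
      intro t
      split_ifs with ht
      · rw [ht, _root_.inv_zero, neg_zero, u_zero, map_one, Module.End.one_apply, apply_mul, w_w, hh, add_sub_cancel]
      · rw [apply_mul, apply_mul, w_u_w t ht, ← apply_mul, ← apply_mul, ← apply_mul, hu, hw, add_zero]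
    rw [map_add, map_sum, Finset.sum_congr rfl fun t _ => h1 t, Finset.sum_add_distrib, Finset.sum_ite_eq',
      if_pos (Finset.mem_univ _),
      Fintype.sum_equiv ((Equiv.inv F).trans (Equiv.neg F)) (fun t => ρ (u (-t⁻¹)) (ρ w v))
        (fun t => ρ (u t) (ρ w v)) fun _ => rfl]
    abel
  | hm a b ha hb => rw [← apply_mul, hb, ha]

/-! ### weights -/

/-- the vectors of weight `j` -/
def Wt (j : ℤ) (x : V) : Prop := ∀ c : Fˣ, ρ (h c) x = ι c ^ j • x

/-- the projection on the vectors of weight `j` -/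
def pj (j : ℤ) : V →ₗ[k] V := -∑ c : Fˣ, ι c ^ (-j) • ρ (h c)

omit [Fintype F] [DecidableEq F] in
theorem ι_ne (c : Fˣ) : ι c ≠ 0 := (map_ne_zero ι).2 c.ne_zero

theorem pj_apply (j : ℤ) (x : V) : pj ι ρ j x = -∑ c : Fˣ, ι c ^ (-j) • ρ (h c) x := by
  simp only [pj, LinearMap.sum_apply, _root_.zpow_neg, _root_.LinearMap.neg_apply, _root_.LinearMap.smul_apply]

theorem pj_wt (j : ℤ) (x : V) : Wt ι ρ j (pj ι ρ j x) := fun a => by
  rw [pj_apply, map_neg, map_sum, smul_neg, Finset.smul_sum]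
  refine congrArg _ (Fintype.sum_equiv (Equiv.mulLeft a) _ _ fun c => ?_)
  rw [map_smul, apply_mul, ← h_mul, Equiv.coe_mulLeft, smul_smul, Units.val_mul, map_mul ι, mul_zpow, ← mul_assoc,
    ← zpow_add₀ (ι_ne ι a), add_neg_cancel, zpow_zero, one_mul]

theorem pj_mem {W : Submodule k V} (hW : ∀ c, ∀ x ∈ W, ρ (h c) x ∈ W) (j : ℤ) {x : V} (hx : x ∈ W) : pj ι ρ j x ∈ W := by
  rw [pj_apply]
  exact neg_mem (sum_mem fun c _ => W.smul_mem _ (hW c x hx))

theorem pj_comm {T : V →ₗ[k] V} {i : ℤ} (hT : ∀ c x, ρ (h c) (T x) = ι c ^ i • T (ρ (h c) x)) (j : ℤ) (x : V) :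
    T (pj ι ρ j x) = pj ι ρ (j + i) (T x) := by
  rw [pj_apply, pj_apply, map_neg, map_sum]
  refine congrArg _ (Finset.sum_congr rfl fun c _ => ?_)
  rw [hT, map_smul, smul_smul, ← zpow_add₀ (ι_ne ι c), neg_add_rev, add_right_comm, neg_add_cancel, zero_add]

theorem pj_adj {B : V →ₗ[k] V →ₗ[k] k} (hB : ∀ g x y, B (ρ g x) (ρ g y) = B x y) (j : ℤ) (x y : V) :
    B (pj ι ρ j x) y = B x (pj ι ρ (-j) y) := by
  rw [pj_apply, pj_apply, map_neg, map_neg, map_sum, map_sum, LinearMap.neg_apply, LinearMap.sum_apply]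
  refine congrArg _ (Fintype.sum_equiv (Equiv.inv Fˣ) _ _ fun c => ?_)
  rw [map_smul, map_smul, LinearMap.smul_apply, ← hB (h c⁻¹), apply_mul, ← h_mul, inv_mul_cancel, h_one, map_one,
    Module.End.one_apply, Equiv.inv_apply, Units.val_inv_eq_inv_val, map_inv₀, neg_neg, _root_.inv_zpow']

theorem N_adj {B : V →ₗ[k] V →ₗ[k] k} (hB : ∀ g x y, B (ρ g x) (ρ g y) = B x y) (h2 : Odd (Fintype.card F)) (x y : V) :
    B (Dm ι ρ 1 x) y = -B x (Dm ι ρ 1 y) := by
  have h1 : Odd (Fintype.card F - 1 - 1) := by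
    have h3 := one_lt (F := F)
    obtain ⟨n, hn⟩ := h2
    exact ⟨n - 1, by omega⟩
  rw [Dm_apply, Dm_apply, map_neg, map_neg, map_sum, map_sum, LinearMap.neg_apply, LinearMap.sum_apply,
    ← Finset.sum_neg_distrib, ← Finset.sum_neg_distrib, ← Finset.sum_neg_distrib]
  refine Fintype.sum_equiv (Equiv.neg F) _ _ fun t => ?_
  rw [map_smul, map_smul, LinearMap.smul_apply, ← hB (u (-t)), apply_mul, ← u_add, neg_add_cancel, u_zero, map_one,
    Module.End.one_apply, Equiv.neg_apply, map_neg, h1.neg_pow, neg_smul, neg_neg]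

theorem N_of_fix (h3 : 2 < Fintype.card F) {x : V} (hx : ∀ t, ρ (u t) x = x) : Dm ι ρ 1 x = 0 := by
  rw [Dm_apply, Finset.sum_congr rfl fun t _ => by rw [hx], ← Finset.sum_smul, psum ι (by omega), if_neg (by omega),
    zero_smul, neg_zero]

theorem h_N (c : Fˣ) (x : V) : ρ (h c) (Dm ι ρ 1 x) = ι c ^ (2 : ℤ) • Dm ι ρ 1 (ρ (h c) x) := by
  have h3 := one_lt (F := F)
  rw [h_Dm ι ρ (by omega), mul_one, zpow_ofNat]

section
variable (p : ℕ) [Fact p.Prime] [CharP k p] [CharP F p]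

include p in
theorem pj_of {j : ℤ} {x : V} (hx : Wt ι ρ j x) : pj ι ρ j x = x := by
  rw [pj_apply, Finset.sum_congr rfl fun c _ => by
    rw [hx c, smul_smul, ← zpow_add₀ (ι_ne ι c), neg_add_cancel, zpow_zero, one_smul], Finset.sum_const,
    Finset.card_univ, Fintype.card_units, ← Nat.cast_smul_eq_nsmul k, cast_Q p, neg_one_smul, neg_neg]

variable (hF : Fintype.card F = p)
include hF

omit [CharP F p] in
theorem N_Dm {m : ℕ} (h1 : 1 ≤ m) (h2 : m ≤ p - 1) (x : V) :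
    Dm ι ρ 1 (Dm ι ρ m x) = ((m + 1 : ℕ) : k) • Dm ι ρ (m + 1) x := by
  have h3 := (Fact.out : p.Prime).two_le
  rw [Dm_mul ι ρ le_rfl h1 (by omega) (by omega), add_comm 1 m, Nat.choose_one_right, hF, Nat.cast_sub h2,
    Nat.cast_sub (by omega), CharP.cast_eq_zero]
  congr 1
  push_cast
  ring

omit [CharP F p] in
theorem N_pow {m : ℕ} (h1 : 1 ≤ m) (h2 : m ≤ p) (x : V) : (Dm ι ρ 1 ^ m) x = (m.factorial : k) • Dm ι ρ m x := by
  induction m, h1 using Nat.le_induction with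
  | base => rw [pow_one, Nat.factorial_one, Nat.cast_one, one_smul]
  | succ m h1 ih =>
    rw [pow_succ', Module.End.mul_apply, ih (by omega), map_smul, N_Dm ι ρ p hF h1 (by omega), smul_smul,
      Nat.factorial_succ, Nat.cast_mul, mul_comm]

omit [CharP F p] in
theorem N_pow_p (x : V) : (Dm ι ρ 1 ^ p) x = 0 := by
  have h3 := (Fact.out : p.Prime).pos
  rw [N_pow ι ρ p hF h3 le_rfl, (CharP.cast_eq_zero_iff k p _).2 (Nat.dvd_factorial h3 le_rfl), zero_smul]

omit [CharP F p] in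
theorem Dm_eq {m : ℕ} (h1 : 1 ≤ m) (h2 : m ≤ p - 1) (x : V) :
    Dm ι ρ m x = (m.factorial : k)⁻¹ • (Dm ι ρ 1 ^ m) x := by
  have h3 := (Fact.out : p.Prime).pos
  rw [N_pow ι ρ p hF h1 (by omega), inv_smul_smul₀]
  rw [Ne, CharP.cast_eq_zero_iff k p, (Fact.out : p.Prime).dvd_factorial]
  omega

omit [CharP F p] in
theorem sum_u (x : V) : ∃ y, -∑ t, ρ (u t) x = (Dm ι ρ 1 ^ (p - 1)) y := by
  have h3 := (Fact.out : p.Prime).two_le
  refine ⟨((p - 1).factorial : k)⁻¹ • x, ?_⟩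
  rw [map_smul, ← Dm_eq ι ρ p hF (by omega) le_rfl, Dm_apply, hF, Nat.sub_self]
  simp only [pow_zero, one_smul]

theorem u_three (h3 : 3 ≤ p) {x : V} (hx : (Dm ι ρ 1 ^ 3) x = 0) (t : F) :
    ρ (u t) x = x + ι t • Dm ι ρ 1 x + (ι t ^ 2 * 2⁻¹) • Dm ι ρ 1 (Dm ι ρ 1 x) := by
  rw [u_eq ι ρ p, hF, ← Finset.sum_subset (s₁ := {1, 2}), Finset.sum_pair (by norm_num), pow_one, add_assoc,
    Dm_eq ι ρ p hF (m := 2) (by norm_num) (by omega), smul_smul, pow_two (Dm ι ρ 1), Module.End.mul_apply]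
  · norm_num
  · intro m hm
    simp only [Finset.mem_insert, Finset.mem_singleton] at hm
    rw [Finset.mem_Icc]
    omega
  · intro m hm hm'
    simp only [Finset.mem_insert, Finset.mem_singleton] at hm'
    rw [Finset.mem_Icc] at hm
    obtain ⟨n, rfl⟩ : ∃ n, m = n + 3 := ⟨m - 3, by omega⟩
    rw [Dm_eq ι ρ p hF hm.1 hm.2, pow_add (Dm ι ρ 1), Module.End.mul_apply, hx, map_zero, smul_zero, smul_zero]

theorem u_one (h3 : 3 ≤ p) {x : V} (hx : Dm ι ρ 1 x = 0) (t : F) : ρ (u t) x = x := by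
  rw [u_three ι ρ p hF h3 (by rw [pow_succ, Module.End.mul_apply, hx, map_zero]), hx, map_zero, smul_zero, smul_zero,
    add_zero, add_zero]

/-- a vector fixed by the Borel subgroup -/
theorem fix_B (h3 : 3 ≤ p) (h0 : ∀ y, (∀ g, ρ g y = y) → y = 0) {v : V} (hv : Dm ι ρ 1 v = 0) (hw : Wt ι ρ 0 v) :
    ∃ y, v = (Dm ι ρ 1 ^ (p - 1)) y := by
  obtain ⟨y, hy⟩ := sum_u ι ρ p hF (ρ w v)
  exact ⟨y, (eq_neg_of_add_eq_zero_left (h0 _ (ind ρ (u_one ι ρ p hF h3 hv) fun c => by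
    rw [hw c, zpow_zero, one_smul]))).trans hy⟩

end

/-! ### the module `L(2)` -/

/-- the action on the `2 × 2` matrices -/
def sq : Representation k (_root_.Matrix.SpecialLinearGroup (Fin 2) F) (Matrix (Fin 2) (Fin 2) k) where
  toFun a :=
    { toFun := fun Y => a.1.map ι * Y * (a.1.map ι)ᵀ
      map_add' := fun X Y => by rw [mul_add, add_mul]
      map_smul' := fun c Y => by rw [mul_smul_comm, smul_mul_assoc, RingHom.id_apply] }
  map_one' := LinearMap.ext fun Y => by simp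
  map_mul' a b := LinearMap.ext fun Y => by simp [Matrix.map_mul, mul_assoc]

omit [Fintype F] [DecidableEq F] in
theorem sq_apply (a : _root_.Matrix.SpecialLinearGroup (Fin 2) F) (Y : Matrix (Fin 2) (Fin 2) k) :
    sq ι a Y = a.1.map ι * Y * (a.1.map ι)ᵀ := rfl

omit [Fintype F] [DecidableEq F] in
theorem sq_u (t : F) (Y : Matrix (Fin 2) (Fin 2) k) : sq ι (u t) Y =
    !![Y 0 0 + ι t * (Y 0 1 + Y 1 0) + ι t ^ 2 * Y 1 1, Y 0 1 + ι t * Y 1 1; Y 1 0 + ι t * Y 1 1, Y 1 1] := by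
  rw [sq_apply]
  ext i j
  (revert i j; simp only [u, Matrix.mul_apply, Fin.sum_univ_two, _root_.Fin.forall_fin_succ, _root_.Matrix.map_apply, _root_.Matrix.of_apply, _root_.Matrix.cons_val', _root_.Matrix.cons_val_fin_one, Fin.isValue, _root_.Matrix.cons_val_zero, _root_.Matrix.cons_val_one, _root_.Matrix.transpose_apply, _root_.map_one, _root_.mul_one, _root_.Matrix.cons_val_succ, _root_.map_zero, _root_.MulZeroClass.mul_zero, _root_.zero_add, _root_.forall_const, _root_.one_mul, _root_.and_true, _root_.MulZeroClass.zero_mul, _root_.add_right_inj]) <;> (repeat' with_reducible apply And.intro) <;> ring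

omit [Fintype F] [DecidableEq F] in
theorem sq_h (c : Fˣ) (Y : Matrix (Fin 2) (Fin 2) k) : sq ι (h c) Y =
    !![ι c ^ 2 * Y 0 0, Y 0 1; Y 1 0, (ι c ^ 2)⁻¹ * Y 1 1] := by
  have h1 := ι_ne ι c
  rw [sq_apply]
  ext i j
  (revert i j; simp only [h, Matrix.mul_apply, Fin.sum_univ_two, _root_.Fin.forall_fin_succ, _root_.Matrix.map_apply, _root_.Matrix.of_apply, _root_.Matrix.cons_val', _root_.Matrix.cons_val_fin_one, Fin.isValue, _root_.Matrix.cons_val_zero, _root_.Matrix.cons_val_one, _root_.Matrix.transpose_apply, _root_.map_zero, _root_.MulZeroClass.mul_zero, _root_.add_zero, _root_.Matrix.cons_val_succ, _root_.map_inv₀, _root_.zero_add, _root_.forall_const, _root_.MulZeroClass.zero_mul]) <;> (repeat' with_reducible apply And.intro) <;> field_simp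

omit [Fintype F] [DecidableEq F] in
theorem sq_w (Y : Matrix (Fin 2) (Fin 2) k) : sq ι w Y = !![Y 1 1, -Y 1 0; -Y 0 1, Y 0 0] := by
  rw [sq_apply]
  ext i j
  (revert i j; simp only [w, Matrix.mul_apply, Fin.sum_univ_two, _root_.Fin.forall_fin_succ, _root_.Matrix.map_apply, _root_.Matrix.of_apply, _root_.Matrix.cons_val', _root_.Matrix.cons_val_fin_one, Fin.isValue, _root_.Matrix.cons_val_zero, _root_.Matrix.cons_val_one, _root_.Matrix.transpose_apply, _root_.map_zero, _root_.MulZeroClass.mul_zero, _root_.map_one, _root_.mul_one, _root_.zero_add, _root_.Matrix.cons_val_succ, _root_.map_neg, _root_.mul_neg, _root_.neg_add_rev, _root_.add_zero, _root_.forall_const, _root_.MulZeroClass.zero_mul, _root_.one_mul, _root_.neg_zero, _root_.and_self, _root_.neg_mul, _root_.neg_neg, _root_.implies_true])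

theorem tri (h2 : (2 : k) ≠ 0) {e x f : V} (ue : ∀ t, ρ (u t) e = e) (ux : ∀ t, ρ (u t) x = x - (2 * ι t) • e)
    (uf : ∀ t, ρ (u t) f = f + ι t • x - ι t ^ 2 • e) (he : Wt ι ρ 2 e) (hx : Wt ι ρ 0 x) (hf : Wt ι ρ (-2) f) :
    ∃ e' x' f', e' = e - ∑ t, ρ (u t) (ρ w f) ∧ (∀ t, ρ (u t) e' = e') ∧ (∀ t, ρ (u t) x' = x' - (2 * ι t) • e') ∧
      (∀ t, ρ (u t) f' = f' + ι t • x' - ι t ^ 2 • e') ∧ ρ w e' = -f' ∧ ρ w x' = -x' ∧
      ∀ c : Fˣ, ρ (h c) e' = ι c ^ 2 • e' := by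
  obtain ⟨φ, hφ⟩ : ∃ φ : Matrix (Fin 2) (Fin 2) k →ₗ[k] V,
      ∀ Y, φ Y = Y 0 0 • e - (2⁻¹ * (Y 0 1 + Y 1 0)) • x - Y 1 1 • f :=
    ⟨{ toFun := fun Y => Y 0 0 • e - (2⁻¹ * (Y 0 1 + Y 1 0)) • x - Y 1 1 • f
       map_add' := fun X Y => by simp only [Matrix.add_apply]; module
       map_smul' := fun c Y => by simp only [Matrix.smul_apply, smul_eq_mul, RingHom.id_apply]; module }, fun _ => rfl⟩
  have fix : ∀ (g : _root_.Matrix.SpecialLinearGroup (Fin 2) F) (ψ : Matrix (Fin 2) (Fin 2) k →ₗ[k] V),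
      (sq ι).linHom ρ g ψ = ψ ↔ ∀ Y, ρ g (ψ Y) = ψ (sq ι g Y) := fun g ψ =>
    ⟨fun e Y => by
      have h1 := LinearMap.congr_fun e (sq ι g Y)
      rwa [Representation.linHom_apply, LinearMap.comp_apply, LinearMap.comp_apply, Representation.inv_self_apply] at h1,
    fun e => LinearMap.ext fun Y => by
      rw [Representation.linHom_apply, LinearMap.comp_apply, LinearMap.comp_apply, e, Representation.self_inv_apply]⟩
  have h1 := fun g => (fix g _).1 (ind ((sq ι).linHom ρ) (v := φ) (fun t => (fix _ _).2 fun Y => by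
    rw [hφ, hφ, sq_u, map_sub, map_sub, map_smul, map_smul, map_smul, ue, ux, uf]
    simp only [of_apply, cons_val', cons_val_zero, cons_val_one, cons_val_fin_one]
    match_scalars <;> field_simp <;> ring) (fun c => (fix _ _).2 fun Y => by
    rw [hφ, hφ, sq_h, map_sub, map_sub, map_smul, map_smul, map_smul, he, hx, hf, zpow_zero, _root_.zpow_neg, zpow_ofNat]
    simp only [of_apply, cons_val', cons_val_zero, cons_val_one, cons_val_fin_one]
    match_scalars <;> ring) g)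
  obtain ⟨Φ, hΦ⟩ : ∃ Φ, Φ = φ + ∑ t, (sq ι).linHom ρ (u t) ((sq ι).linHom ρ w φ) := ⟨_, rfl⟩
  rw [← hΦ] at h1
  refine ⟨Φ !![1, 0; 0, 0], Φ !![0, -1; -1, 0], Φ !![0, 0; 0, -1], ?_, fun t => ?_, fun t => ?_, fun t => ?_, ?_, ?_,
    fun c => ?_⟩
  · have h3 : sq ι w⁻¹ !![1, 0; 0, 0] = !![0, 0; 0, 1] := by
      rw [Representation.inv_apply_eq_iff, sq_w]
      simp
    have h4 : ∀ t, sq ι (u t)⁻¹ !![1, 0; 0, 0] = !![1, 0; 0, 0] := fun t => by
      rw [← u_neg, sq_u]
      simp only [_root_.Fin.isValue, _root_.Matrix.of_apply, _root_.Matrix.cons_val', _root_.Matrix.cons_val_zero, _root_.Matrix.cons_val_fin_one, _root_.map_neg, _root_.Matrix.cons_val_one, _root_.add_zero, _root_.MulZeroClass.mul_zero, _root_.even_two, _root_.Even.neg_pow]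
    rw [hΦ, LinearMap.add_apply, LinearMap.sum_apply, hφ, sub_eq_add_neg e, ← Finset.sum_neg_distrib]
    refine congrArg₂ _ (by simp) (Finset.sum_congr rfl fun t _ => ?_)
    simp only [Representation.linHom_apply, LinearMap.comp_apply]
    rw [h4, h3, hφ]
    simp only [_root_.Fin.isValue, _root_.Matrix.of_apply, _root_.Matrix.cons_val', _root_.Matrix.cons_val_zero, _root_.Matrix.cons_val_fin_one, _root_.zero_smul, _root_.Matrix.cons_val_one, _root_.add_zero, _root_.MulZeroClass.mul_zero, _root_.sub_self, _root_.one_smul, _root_.zero_sub, _root_.map_neg]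
  · rw [h1, sq_u]
    simp
  · rw [h1, sq_u, ← map_smul, ← map_sub]
    refine congrArg _ ?_
    ext i j
    (revert i j; simp only [_root_.Fin.forall_fin_succ, Fin.isValue, _root_.Matrix.of_apply, _root_.Matrix.cons_val', _root_.Matrix.cons_val_zero, _root_.Matrix.cons_val_fin_one, _root_.Matrix.cons_val_one, _root_.zero_add, _root_.MulZeroClass.mul_zero, _root_.add_zero, _root_.Matrix.smul_of, _root_.Matrix.smul_cons, _root_.smul_eq_mul, _root_.mul_one, _root_.Matrix.smul_empty, _root_.Matrix.sub_apply, _root_.Matrix.cons_val_succ, _root_.forall_const, _root_.zero_sub, _root_.sub_zero, _root_.sub_self, _root_.implies_true, _root_.and_true, _root_.true_and]) <;> (repeat' with_reducible apply And.intro)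
    ring
  · rw [h1, sq_u, ← map_smul Φ, ← map_smul Φ, ← map_add, ← map_sub]
    refine congrArg _ ?_
    ext i j
    (revert i j; simp only [_root_.Fin.forall_fin_succ, Fin.isValue, _root_.Matrix.of_apply, _root_.Matrix.cons_val', _root_.Matrix.cons_val_zero, _root_.Matrix.cons_val_fin_one, _root_.Matrix.cons_val_one, _root_.add_zero, _root_.MulZeroClass.mul_zero, _root_.mul_neg, _root_.mul_one, _root_.zero_add, _root_.Matrix.smul_of, _root_.Matrix.smul_cons, _root_.smul_eq_mul, _root_.Matrix.smul_empty, _root_.Matrix.of_add_of, _root_.Matrix.add_cons, _root_.Matrix.head_cons, _root_.Matrix.tail_cons, _root_.Matrix.empty_add_empty, _root_.Matrix.sub_apply, _root_.Matrix.cons_val_succ, _root_.forall_const, _root_.zero_sub, _root_.sub_zero, _root_.and_self, _root_.implies_true])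
  · rw [h1, sq_w, ← map_neg]
    refine congrArg _ ?_
    ext i j
    (revert i j; simp only [_root_.Fin.forall_fin_succ, Fin.isValue, _root_.Matrix.of_apply, _root_.Matrix.cons_val', _root_.Matrix.cons_val_one, _root_.Matrix.cons_val_fin_one, _root_.Matrix.cons_val_zero, _root_.neg_zero, _root_.Matrix.neg_apply, _root_.Matrix.cons_val_succ, _root_.forall_const, _root_.and_self, _root_.neg_neg, _root_.implies_true])
  · rw [h1, sq_w, ← map_neg]
    refine congrArg _ ?_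
    ext i j
    (revert i j; simp only [_root_.Fin.forall_fin_succ, Fin.isValue, _root_.Matrix.of_apply, _root_.Matrix.cons_val', _root_.Matrix.cons_val_one, _root_.Matrix.cons_val_fin_one, _root_.Matrix.cons_val_zero, _root_.neg_neg, _root_.Matrix.neg_apply, _root_.Matrix.cons_val_succ, _root_.forall_const, _root_.neg_zero, _root_.and_self, _root_.implies_true])
  · rw [h1, sq_h, ← map_smul]
    refine congrArg _ ?_
    ext i j
    (revert i j; simp only [_root_.Fin.forall_fin_succ, Fin.isValue, _root_.Matrix.of_apply, _root_.Matrix.cons_val', _root_.Matrix.cons_val_zero, _root_.Matrix.cons_val_fin_one, _root_.mul_one, _root_.Matrix.cons_val_one, _root_.MulZeroClass.mul_zero, _root_.Matrix.smul_apply, _root_.smul_eq_mul, _root_.Matrix.cons_val_succ, _root_.forall_const, _root_.and_self, _root_.implies_true])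

/-- duality -/
theorem mem_range [FiniteDimensional k V] {B : V →ₗ[k] V →ₗ[k] k} (hs : ∀ x y, B x y = B y x)
    (hn : ∀ y, (∀ x, B x y = 0) → y = 0) {T T' : V →ₗ[k] V} (hT : ∀ x y, B (T x) y = B x (T' y)) {y : V}
    (hy : ∀ z, T' z = 0 → B z y = 0) : ∃ x, T x = y := by
  have h1 : LinearMap.BilinForm.IsRefl B := fun x y e => (hs y x).trans e
  have h2 : y ∈ LinearMap.range T := by
    rw [← LinearMap.BilinForm.orthogonal_orthogonal ((LinearMap.IsRefl.nondegenerate_iff_separatingRight h1).2 hn) h1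
      (LinearMap.range T)]
    exact fun z hz => hy z (hn _ fun x => (hT x z).symm.trans (hz _ ⟨x, rfl⟩))
  exact h2

end Cfsg.Agent.E7P.A1
end

-- part: E7P/A1/Lev
section
/-!
# S5932, task A1: the levels (helper13)

`Dat` : the situation `a = 1` in a frame.  `N = D₁` raises the levels by `n`, with leading term `T = ad eb`.
-/

set_option autoImplicit false
set_option maxRecDepth 100000
set_option linter.unusedSectionVars false

namespace Cfsg.Agent.E7P.A1

open Cfsg Cfsg.Lie Matrix Module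
open Cfsg.Agent.R2.T1 Cfsg.Agent.E7P.Br
open Cfsg.Agent.E7P.Kf hiding Lv Lv_le_Ge eq_zero_of_Lv_Gt mem_Lv
open Cfsg.Agent.H943.SL2Rel (u w h)
open Cfsg.Agent.R2.H28.SL2 (Dm)

universe u v

variable {k : Type u} [Field k]

theorem lev_inl (β : E) (i : Fin chevE7.rank) : bf β (cv (ac (Sum.inl i))) = 0 := by rw [ac_inl, cv_zero, map_zero]

theorem kf_zero (β : E) {x y : chevE7.Idx → k}
    (h : ∀ i j, x i ≠ 0 → y j ≠ 0 → bf β (cv (ac i)) + bf β (cv (ac j)) ≠ 0) : kf k x y = 0 := by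
  rw [kf_apply]
  refine Finset.sum_eq_zero fun i _ => ?_
  by_contra h0
  obtain ⟨j, h1, h2⟩ := exists_col (right_ne_zero_of_mul h0)
  refine h i j (left_ne_zero_of_mul h0) h2 ?_
  rcases i with i | r <;> rcases j with j | s
  · rw [lev_inl, lev_inl, add_zero]
  · exact absurd (KM_lr i s) h1
  · exact absurd (KM_rl r j) h1
  · rw [KM_rr] at h1
    have h3 : s.val = 125 - r.val := by
      by_contra h3
      exact h1 (if_neg h3)
    rw [ex_cv_inr, ex_cv_inr, h3, rv_neg r.2, map_neg, add_neg_cancel]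

theorem lv_br' {β : E} {n : ℝ} {x : chevE7.Idx → k} (hx : x ∈ Lv k ac β n) (d : ℝ) (y : chevE7.Idx → k) :
    lv ac β (d + n) (br k x y) = br k x (lv ac β d y) := by
  rw [pi_eq_sum_univ' y, map_sum, map_sum, map_sum, map_sum]
  refine Finset.sum_congr rfl fun i _ => ?_
  have h1 : (Pi.single i 1 : chevE7.Idx → k) ∈ Lv k ac β (bf β (cv (ac i))) := fun j hj => by
    by_cases e : j = i
    · rw [e]
    · exact absurd (Pi.single_eq_of_ne e _) hj
  rw [map_smul, map_smul, map_smul, map_smul]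
  by_cases e : bf β (cv (ac i)) = d
  · rw [e] at h1
    rw [lv_of_Lv h1, lv_of_Lv (add_comm n d ▸ br_Lv hx h1)]
  · rw [lv_of_ne h1 e, lv_of_ne (br_Lv hx h1) (fun e' => e (by linarith)), map_zero]

/-- the adjoint module -/
noncomputable def rep {K : Type v} [Field K] (φ : _root_.Matrix.SpecialLinearGroup (Fin 2) K →* Gh k) :
    Representation k (_root_.Matrix.SpecialLinearGroup (Fin 2) K) (chevE7.Idx → k) := MonoidHom.comp (L k) φ

theorem rep_apply {K : Type v} [Field K] (φ : _root_.Matrix.SpecialLinearGroup (Fin 2) K →* Gh k) (x : _root_.Matrix.SpecialLinearGroup (Fin 2) K)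
    (y : chevE7.Idx → k) : rep φ x y = adM k (φ x) *ᵥ y := L_mulVec _ _

/-- **the situation in a frame** -/
structure Dat (p : ℕ) (K : Type v) (k : Type u) [Field K] [Fintype K] [Field k] where
  ι : K →+* k
  φ : _root_.Matrix.SpecialLinearGroup (Fin 2) K →* Gh k
  β : E
  n : ℝ
  e : chevE7.Idx → k
  t : Kˣ → Fin chevE7.rank → kˣ
  card : Fintype.card K = p
  h11 : 11 ≤ p
  npos : 0 < n
  dom : ∀ i, 0 ≤ β i
  lab : ∀ i, β i ≤ n
  tor : ∀ c, φ (h c) = Phi k (t c)
  nofix : ∀ y, (∀ x, rep φ x y = y) → y = 0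
  ege : e ∈ Ge k ac β n
  ene : e ∉ Gt k ac β n
  efix : ∀ s, rep φ (u s) e = e
  ewt : Wt ι (rep φ) 2 e
  lead : ∀ d, ∀ y ∈ Ge k ac β d, Dm ι (rep φ) 1 y - br k e y ∈ Gt k ac β (d + n)
  step : ∀ d < 0, ∀ y ∈ Ge k ac β d, Dm ι (rep φ) 1 y ∈ Gt k ac β (d + n) → y ∈ Gt k ac β d

namespace Dat

variable {p : ℕ} {K : Type v} [Field K] [Fintype K] (D : Dat p K k)

/-- the module -/
noncomputable abbrev ρ : Representation k (_root_.Matrix.SpecialLinearGroup (Fin 2) K) (chevE7.Idx → k) := rep D.φ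

/-- the operator `D₁` -/
noncomputable abbrev N : Module.End k (chevE7.Idx → k) := Dm D.ι D.ρ 1

/-- the leading term -/
noncomputable def eb : chevE7.Idx → k := lv ac D.β D.n D.e

/-- the leading term -/
noncomputable abbrev T : Module.End k (chevE7.Idx → k) := br k D.eb

theorem eb_mem : D.eb ∈ Lv k ac D.β D.n := lv_mem _

theorem hB (g : _root_.Matrix.SpecialLinearGroup (Fin 2) K) (x y : chevE7.Idx → k) : kf k (D.ρ g x) (D.ρ g y) = kf k x y := by
  rw [rep_apply, rep_apply, kf_adM]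

theorem h_apply (c : Kˣ) (y : chevE7.Idx → k) (i : chevE7.Idx) : D.ρ (h c) y i = (ch (ac i) (D.t c) : kˣ) * y i := by
  rw [rep_apply, D.tor, wrep_L.tor, mulVec_diagonal]

theorem wt_iff {j : ℤ} {x : chevE7.Idx → k} :
    Wt D.ι D.ρ j x ↔ ∀ i, x i ≠ 0 → ∀ c : Kˣ, ((ch (ac i) (D.t c) : kˣ) : k) = D.ι c ^ j := by
  refine ⟨fun hx i hi c => mul_right_cancel₀ hi ((D.h_apply c x i).symm.trans (congrFun (hx c) i)),
    fun hx c => funext fun i => ?_⟩
  rw [h_apply, Pi.smul_apply, smul_eq_mul]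
  by_cases hi : x i = 0
  · rw [hi, mul_zero, mul_zero]
  · rw [hx i hi]

theorem wt_tv (l : Fin 7 → k) : Wt D.ι D.ρ 0 (tv l) := D.wt_iff.2 fun i hi c => by
  rcases i with i | r
  · rw [ac_inl, ch_zero, zpow_zero, Units.val_one]
  · exact absurd rfl hi

theorem eb_wt : Wt D.ι D.ρ 2 D.eb := D.wt_iff.2 fun i hi => D.wt_iff.1 D.ewt i (lv_ne hi).2

theorem pj_Ge (j : ℤ) {d : ℝ} {x : chevE7.Idx → k} [DecidableEq K] (hx : x ∈ Ge k ac D.β d) :
    pj D.ι D.ρ j x ∈ Ge k ac D.β d :=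
  pj_mem _ _ (W := Ge k ac D.β d) (fun c y hy i hi => hy i (by rw [h_apply] at hi; exact right_ne_zero_of_mul hi)) j hx

theorem pj_Lv (j : ℤ) {d : ℝ} {x : chevE7.Idx → k} [DecidableEq K] (hx : x ∈ Lv k ac D.β d) :
    pj D.ι D.ρ j x ∈ Lv k ac D.β d :=
  pj_mem _ _ (W := Lv k ac D.β d) (fun c y hy i hi => hy i (by rw [h_apply] at hi; exact right_ne_zero_of_mul hi)) j hx

variable {d : ℝ} {y : chevE7.Idx → k}

theorem lead' (hy : y ∈ Ge k ac D.β d) : D.N y - D.T y ∈ Gt k ac D.β (d + D.n) := by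
  have h1 := add_mem (D.lead d y hy) (add_comm D.n d ▸ br_Gt (sub_lv_mem D.ege) hy)
  rwa [map_sub, LinearMap.sub_apply, sub_add_sub_cancel] at h1

theorem N_Ge (hy : y ∈ Ge k ac D.β d) : D.N y ∈ Ge k ac D.β (d + D.n) := by
  have h1 := add_mem (Gt_le_Ge (D.lead' hy)) (add_comm D.n d ▸ br_Ge (Lv_le_Ge D.eb_mem) hy)
  rwa [sub_add_cancel] at h1

theorem N_pow_Ge (hy : y ∈ Ge k ac D.β d) (m : ℕ) : (D.N ^ m) y ∈ Ge k ac D.β (d + m * D.n) ∧
    lv ac D.β (d + m * D.n) ((D.N ^ m) y) = (D.T ^ m) (lv ac D.β d y) := by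
  induction m with
  | zero =>
    rw [Nat.cast_zero, zero_mul, add_zero]
    exact ⟨hy, rfl⟩
  | succ m ih =>
    rw [Nat.cast_succ, add_mul, one_mul, ← add_assoc, pow_succ', pow_succ', Module.End.mul_apply, Module.End.mul_apply,
      lv_eq_of_sub (D.lead' ih.1), lv_br' D.eb_mem, ih.2]
    exact ⟨D.N_Ge ih.1, rfl⟩

theorem inj (hd : d < 0) (hy : y ∈ Lv k ac D.β d) (h0 : D.T y = 0) : y = 0 := by
  have h1 := D.lead' (Lv_le_Ge hy)
  rw [h0, sub_zero] at h1
  exact eq_zero_of_Lv_Gt hy (D.step d hd y (Lv_le_Ge hy) h1)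

theorem j1 (hd : d ≤ D.n) (hy : D.N y ∈ Ge k ac D.β d) : y ∈ Ge k ac D.β (d - D.n) :=
  mem_Ge_of_step fun e he h1 => D.step e (by linarith) y h1 (Ge_le_Gt (by linarith) hy)

theorem j1_pow (hd : d ≤ D.n) (m : ℕ) (hy : (D.N ^ m) y ∈ Ge k ac D.β d) : y ∈ Ge k ac D.β (d - m * D.n) := by
  induction m generalizing y with
  | zero => rwa [Nat.cast_zero, zero_mul, sub_zero]
  | succ m ih =>
    have h1 := mul_nonneg (Nat.cast_nonneg (α := ℝ) m) D.npos.le
    rw [Nat.cast_succ, add_mul, one_mul, ← sub_sub]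
    exact D.j1 (by linarith) (ih (by rwa [pow_succ, Module.End.mul_apply] at hy))

variable [Fact p.Prime] [CharP k p]

include D in
theorem h12 : (12 : k) ≠ 0 := twelve_ne Fact.out (by have := D.h11; omega)

include D in
theorem h2 : (2 : k) ≠ 0 := two_ne D.h12

theorem h_T (c : Kˣ) (x : chevE7.Idx → k) : D.ρ (h c) (D.T x) = D.ι c ^ (2 : ℤ) • D.T (D.ρ (h c) x) := by
  rw [rep_apply, adM_br D.h2, ← rep_apply, ← rep_apply, D.eb_wt c, map_smul, LinearMap.smul_apply]

theorem T_adj (x y : chevE7.Idx → k) : kf k (D.T x) y = kf k x ((-D.T) y) := by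
  rw [br_anti, map_neg, LinearMap.neg_apply, kf_br D.h12, LinearMap.neg_apply, map_neg]

theorem T_pow_adj {m : ℕ} (hm : 0 < m) (x : chevE7.Idx → k) (hy : D.T y = 0) : kf k ((D.T ^ m) x) y = 0 := by
  obtain ⟨m, rfl⟩ := Nat.exists_eq_add_of_lt hm
  rw [pow_succ', Module.End.mul_apply, T_adj, LinearMap.neg_apply, hy, neg_zero, map_zero]

theorem surj_T (hd : 0 < d) (hy : y ∈ Lv k ac D.β d) : ∃ z ∈ Lv k ac D.β (d - D.n), D.T z = y := by
  obtain ⟨z, hz⟩ := mem_range (by exact kf_comm) (fun _ => kf_nondeg D.h2) D.T_adj (y := y) fun z hz => by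
    have h1 : lv ac D.β (-d) z = 0 := D.inj (by linarith) (lv_mem z) (by
      rw [← lv_br' D.eb_mem, neg_eq_zero.1 hz, map_zero])
    refine kf_zero D.β fun i j hi hj e => hi ?_
    rw [← lv_pos (c := ac) (β := D.β) (d := -d) (by rw [← hy j hj]; linarith) z, h1, Pi.zero_apply]
  exact ⟨_, lv_mem z, by rw [← lv_br' D.eb_mem, sub_add_cancel, hz, lv_of_Lv hy]⟩

theorem surj_N (hd : 0 < d) (hy : y ∈ Ge k ac D.β d) : ∃ z ∈ Ge k ac D.β (d - D.n), D.N z = y := by
  obtain ⟨z, hz⟩ := lev_desc ac D.β (fun z : Ge k ac D.β (d - D.n) => y - D.N z) 0 fun a e h1 h2 => by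
    have h3 : d ≤ e := by
      by_contra h3
      have h4 := D.N_Ge a.2
      rw [sub_add_cancel] at h4
      exact h2 (lv_of_Gt (Ge_le_Gt (not_le.1 h3) (sub_mem hy h4)))
    obtain ⟨z, h4, h5⟩ := D.surj_T (hd.trans_le h3) (lv_mem (y - D.N a))
    refine ⟨a + ⟨z, Ge_mono (by linarith) (Lv_le_Ge h4)⟩, ?_⟩
    have h7 := D.lead' (Lv_le_Ge h4)
    rw [sub_add_cancel, h5] at h7
    have h6 := sub_mem (sub_lv_mem h1) h7
    rwa [Submodule.coe_add, map_add, ← sub_sub, ← sub_sub_sub_cancel_right _ _ ((lv ac D.β e (y - D.N a) :))]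
  exact ⟨z, z.2, (sub_eq_zero.1 hz).symm⟩

variable [DecidableEq K] [CharP K p]

theorem all_Ge (y : chevE7.Idx → k) : y ∈ Ge k ac D.β (-((p - 1 : ℕ) * D.n)) := by
  have h1 := D.j1_pow (y := y) le_rfl p (by rw [N_pow_p D.ι D.ρ p D.card]; exact zero_mem _)
  rwa [Nat.cast_pred (Fact.out : p.Prime).pos, sub_mul, one_mul, neg_sub]

/-- the kernel of the leading term in level and weight zero -/
theorem ker0 (hy : y ∈ Lv k ac D.β 0) (hw : Wt D.ι D.ρ 0 y) (h0 : D.T y = 0) :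
    ∃ b ∈ Lv k ac D.β (-((p - 1 : ℕ) * D.n)), y = (D.T ^ (p - 1)) b := by
  obtain ⟨d, h1, h2⟩ := exists_gap (K := k) ac D.β D.n
  have h3 := D.lead' (Lv_le_Ge hy)
  rw [h0, sub_zero, zero_add] at h3
  obtain ⟨z, h4, h5⟩ := D.surj_N (D.npos.trans h1) (h2 h3)
  obtain ⟨b, hb⟩ := fix_B D.ι D.ρ p D.card (by have := D.h11; omega) D.nofix (v := pj D.ι D.ρ 0 (y - z))
    (by rw [pj_comm D.ι D.ρ (h_N D.ι D.ρ), map_sub, h5, sub_self, map_zero]) (pj_wt _ _ _ _)
  refine ⟨_, lv_mem b, ?_⟩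
  rw [← (D.N_pow_Ge (D.all_Ge b) _).2, neg_add_cancel, ← hb, map_sub, pj_of D.ι D.ρ p hw, map_sub, lv_of_Lv hy,
    lv_of_Gt (Ge_le_Gt (sub_pos.2 h1) (D.pj_Ge 0 h4)), sub_zero]

theorem N_e : D.N D.e = 0 := N_of_fix D.ι D.ρ (by have := D.h11; have := D.card; omega) D.efix

theorem N_adj (x y : chevE7.Idx → k) : kf k (D.N x) y = -kf k x (D.N y) :=
  A1.N_adj D.ι D.ρ D.hB (by rw [D.card]; exact (Fact.out : p.Prime).odd_of_ne_two (by have := D.h11; omega)) x y

theorem exists_f : ∃ f, Wt D.ι D.ρ (-2) f ∧ D.N (D.N f) = -((2 : k) • D.e) := by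
  have h11 := D.h11
  obtain ⟨f, hf⟩ := mem_range (by exact kf_comm) (fun _ => kf_nondeg D.h2) (T := D.N * D.N) (T' := D.N * D.N)
    (fun x y => by rw [Module.End.mul_apply, Module.End.mul_apply, N_adj, N_adj, neg_neg]) (y := D.e) fun z hz => by
    obtain ⟨b, hb⟩ := fix_B D.ι D.ρ p D.card (by omega) D.nofix (v := D.N (pj D.ι D.ρ (-2) z))
      (by rw [pj_comm D.ι D.ρ (h_N D.ι D.ρ), pj_comm D.ι D.ρ (h_N D.ι D.ρ), ← Module.End.mul_apply D.N, hz, map_zero])
      (by rw [pj_comm D.ι D.ρ (h_N D.ι D.ρ)]; exact pj_wt _ _ _ _)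
    obtain ⟨m, hm⟩ : ∃ m, p - 1 = m + 1 + 1 := ⟨p - 3, by omega⟩
    have h1 := D.j1 (y := pj D.ι D.ρ (-2) z - (D.N ^ (m + 1)) b) le_rfl (by
      rw [map_sub, hb, hm, pow_succ' _ (m + 1), Module.End.mul_apply, sub_self]
      exact zero_mem _)
    have h2 : kf k (pj D.ι D.ρ (-2) z - (D.N ^ (m + 1)) b) D.e = 0 := kf_zero D.β fun i j hi hj => by
      have h3 := h1 i hi
      have h4 := D.ege j hj
      have h5 := D.npos
      linarith only [h3, h4, h5]
    rwa [map_sub, LinearMap.sub_apply, pow_succ', Module.End.mul_apply, N_adj, N_e, map_zero, neg_zero, sub_zero,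
      pj_adj D.ι D.ρ D.hB, neg_neg, pj_of D.ι D.ρ p D.ewt] at h2
  refine ⟨pj D.ι D.ρ (-2) (-((2 : k) • f)), pj_wt _ _ _ _, ?_⟩
  rw [pj_comm D.ι D.ρ (h_N D.ι D.ρ), pj_comm D.ι D.ρ (h_N D.ι D.ρ), ← Module.End.mul_apply D.N, map_neg, map_smul, hf,
    map_neg, map_smul, show (-2 + 2 + 2 : ℤ) = 2 by norm_num, pj_of D.ι D.ρ p D.ewt]

/-- a triple -/
def Tri (e x f : chevE7.Idx → k) : Prop := (∀ t, D.ρ (u t) e = e) ∧ (∀ t, D.ρ (u t) x = x - (2 * D.ι t) • e) ∧
  (∀ t, D.ρ (u t) f = f + D.ι t • x - D.ι t ^ 2 • e) ∧ D.ρ w e = -f ∧ D.ρ w x = -x ∧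
  ∀ c : Kˣ, D.ρ (h c) e = D.ι c ^ 2 • e

theorem exists_tri : ∃ e x f b, e = D.e + (D.N ^ (p - 1)) b ∧ D.Tri e x f := by
  have h3 : 3 ≤ p := by have := D.h11; omega
  have h2 := D.h2
  obtain ⟨f, hw, hf⟩ := D.exists_f
  have h1 : D.N (D.N (D.N f)) = 0 := by rw [hf, map_neg, map_smul, N_e, smul_zero, neg_zero]
  obtain ⟨e, x, f', he, h4⟩ := tri D.ι D.ρ h2 (x := D.N f) (f := f) D.efix (fun t => by
    rw [u_three D.ι D.ρ p D.card h3 (by rw [pow_succ', Module.End.mul_apply, pow_two, Module.End.mul_apply, h1, map_zero]),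
      h1, hf]
    module) (fun t => by
    rw [u_three D.ι D.ρ p D.card h3 h1, hf]
    match_scalars <;> field_simp) D.ewt (by
    rw [← pj_of D.ι D.ρ p hw, pj_comm D.ι D.ρ (h_N D.ι D.ρ)]
    exact pj_wt _ _ _ _) hw
  obtain ⟨b, hb⟩ := sum_u D.ι D.ρ p D.card (D.ρ w f)
  exact ⟨e, x, f', b, by rw [he, ← hb, sub_eq_add_neg], h4⟩

end Dat

end Cfsg.Agent.E7P.A1
end

-- part: E7P/A1/Cnt
section
/-!
# S5932, task A1: reduction to the finite check (helper13)

* `Dat.rk7` : the support of the leading term has rank seven; `Dat.labels` : the labels are `a / m`, `m = 3, 4`;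
* `Dat.main` : the split triple; `Sit.a1_split_of` : `S.Split` for `a = 1` from `FIN`.
-/

set_option autoImplicit false
set_option maxRecDepth 100000
set_option linter.unusedSectionVars false

namespace Cfsg.Agent.E7P

open Cfsg Cfsg.Lie Matrix Module
open Cfsg.Agent.R2.T1 Cfsg.Agent.E7P.Br
open Cfsg.Agent.E7P.Kf hiding Lv Lv_le_Ge eq_zero_of_Lv_Gt mem_Lv
open Cfsg.Agent.H943.SL2Rel (u w h)
open Cfsg.Agent.R2.H28.SL2 (Dm)
open Cfsg.Agent.ChevalleyStructure.RootVec (rt)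

universe u v

namespace A1

variable {k : Type u} [Field k]

variable (k) in
/-- coordinate subspaces -/
def Cs (P : chevE7.Idx → Prop) : Submodule k (chevE7.Idx → k) where
  carrier := {x | ∀ i, x i ≠ 0 → P i}
  zero_mem' := fun _ h => absurd rfl h
  add_mem' := by
    intro x y hx hy i hi
    by_cases h : x i = 0
    · rw [Pi.add_apply, h, zero_add] at hi
      exact hy i hi
    · exact hx i h
  smul_mem' := fun _ _ hx i hi => hx i (right_ne_zero_of_mul hi)

theorem finrank_Cs (P : chevE7.Idx → Prop) : finrank k (Cs k P) = cnt P := by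
  classical
  rw [cnt, Nat.card_eq_fintype_card, ← finrank_fintype_fun_eq_card k]
  refine (LinearEquiv.ofBijective ((LinearMap.funLeft k k Subtype.val).domRestrict (Cs k P)) ⟨?_, fun f => ?_⟩).finrank_eq
  · refine (injective_iff_map_eq_zero _).2 fun x hx => Subtype.ext (funext fun i => ?_)
    by_contra h
    exact h (congrFun hx ⟨i, x.2 i h⟩)
  · exact ⟨⟨fun i => if h : P i then f ⟨i, h⟩ else 0, fun i hi => by_contra fun h => hi (dif_neg h)⟩,
      funext fun i => dif_pos i.2⟩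

theorem fr_le {U V : Type*} [AddCommGroup U] [Module k U] [AddCommGroup V] [Module k V] [FiniteDimensional k U]
    [FiniteDimensional k V] (f : U →ₗ[k] V) {P R : Submodule k U} {Q : Submodule k V} (h1 : ∀ x ∈ P, f x ∈ Q)
    (h2 : ∀ x ∈ P, f x = 0 → x ∈ R) : finrank k P ≤ finrank k Q + finrank k R := by
  rw [← (f.domRestrict P).finrank_range_add_finrank_ker, ← Submodule.finrank_map_subtype_eq P]
  refine add_le_add (Submodule.finrank_mono ?_) (Submodule.finrank_mono ?_)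
  · rintro _ ⟨x, rfl⟩
    exact h1 x x.2
  · rintro _ ⟨x, hx, rfl⟩
    exact h2 x x.2 hx

variable (k) in
/-- the toral vectors -/
def tvL : (Fin 7 → k) →ₗ[k] (chevE7.Idx → k) where
  toFun := tv
  map_add' l l' := by
    funext i
    rcases i with i | r
    · rfl
    · exact (add_zero _).symm
  map_smul' := Lb.tv_smul

theorem tv_Lv (β : E) (l : Fin 7 → k) : tv l ∈ Lv k ac β 0 := fun i hi => by
  rcases i with i | r
  · exact lev_inl β i
  · exact absurd rfl hi

theorem chk_CM : ∀ j j' : Fin 7, ∑ i : Fin 7, Lb.CM i j * iC i j' = if j = j' then 2 else 0 := by decide +kernel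

theorem pz_top (a : Fin 7 → ℕ) : pz 125 (fun j => a j) = top a := by
  simp only [pz, Lb.rt_mk, Fin.sum_univ_seven, top]
  simp only [Lb.mk, _root_.Fin.isValue, _root_.Matrix.cons_val_zero, _root_.Nat.cast_ofNat, _root_.Matrix.cons_val_one, _root_.Matrix.cons_val, _root_.Nat.cast_one, _root_.one_mul, _root_.Nat.cast_add, _root_.Nat.cast_mul]

namespace Dat

variable {p : ℕ} {K : Type v} [Field K] [Fintype K] (D : Dat p K k)

theorem top_Ge (y : chevE7.Idx → k) : y ∈ Ge k ac D.β (-bf D.β (rv 125)) := fun i _ => by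
  have h1 : ∀ r < 126, -bf D.β (rv 125) ≤ bf D.β (rv r) := fun r hr => by
    rw [bf_rv _ hr, bf_rv _ (by norm_num), ← Finset.sum_neg_distrib]
    refine Finset.sum_le_sum fun j _ => ?_
    rw [← mul_neg, Lb.rt_mk]
    refine mul_le_mul_of_nonneg_left ?_ (D.dom j)
    rcases Lb.rt_bd r hr with h | h
    · exact_mod_cast (by have := (h j).1; omega : -(Lb.mk j : ℤ) ≤ rt chevE7 r j)
    · exact_mod_cast (by have := (h j).2; omega : -(Lb.mk j : ℤ) ≤ rt chevE7 r j)
  rcases i with i | r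
  · have h2 := Dom.pos D.dom (r := 125) (by norm_num) (by norm_num)
    rw [lev_inl]
    linarith
  · rw [ex_cv_inr]
    exact h1 r r.2

theorem top_le : bf D.β (rv 125) ≤ 17 * D.n := by
  rw [bf_rv _ (by norm_num)]
  calc _ ≤ ∑ i : Fin 7, D.n * (Lb.mk i : ℝ) := Finset.sum_le_sum fun i _ => by
        rw [Lb.rt_mk, Int.cast_natCast]
        exact mul_le_mul_of_nonneg_right (D.lab i) (Nat.cast_nonneg _)
    _ = _ := by
        rw [← Finset.mul_sum, ← Nat.cast_sum, show ∑ i, Lb.mk i = 17 by decide, mul_comm]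
        norm_num

theorem T_tv (l : Fin 7 → k) (i : chevE7.Idx) : D.T (tv l) i = -(exVal l i * D.eb i) := by
  rw [br_anti, Pi.neg_apply, ex_br_tv]

theorem T_tv_zero {l : Fin 7 → k} (hl : ∀ r : Fin chevE7.nroots, D.eb (Sum.inr r) ≠ 0 → rval r (tv l) = 0) :
    D.T (tv l) = 0 := by
  funext i
  rw [T_tv, Pi.zero_apply, neg_eq_zero]
  rcases i with i | r
  · rw [exVal_inl, zero_mul]
  · by_cases h0 : D.eb (Sum.inr r) = 0
    · rw [h0, mul_zero]
    · rw [exVal_inr, hl r h0, zero_mul]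

variable [Fact p.Prime] [CharP k p] [DecidableEq K] [CharP K p]

theorem top_le' : bf D.β (rv 125) ≤ (p - 1 : ℕ) * D.n := by
  have h1 := D.all_Ge (Pi.single (Sum.inr ⟨0, by decide⟩) 1) (Sum.inr ⟨0, by decide⟩) (by
    rw [Pi.single_eq_same]; exact one_ne_zero)
  rw [ex_cv_inr] at h1
  have h2 : bf D.β (rv 0) = -bf D.β (rv 125) := by rw [← map_neg, ← rv_neg (by norm_num)]
  linarith

theorem tor0 {l : Fin 7 → k} (h0 : D.T (tv l) = 0) : l = 0 := by
  obtain ⟨b, -, hb⟩ := D.ker0 (tv_Lv _ l) (D.wt_tv l) h0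
  refine Lb.gram Fact.out D.h11 fun l' hl => ?_
  rw [hb]
  refine D.T_pow_adj (by have := D.h11; omega) b (D.T_tv_zero fun r hr => hl r r.2 ?_)
  have h1 := congrFun h0 (Sum.inr r)
  rw [T_tv, Pi.zero_apply, neg_eq_zero] at h1
  exact (mul_eq_zero.1 h1).resolve_right hr

theorem rk7 : Lb.Rk7 fun r => ∃ hr : r < 126, D.eb (Sum.inr ⟨r, hr⟩) ≠ 0 := by
  have key : ∀ (N : ℕ) (l : Fin 7 → ℤ), (∀ r < 126, (∃ hr : r < 126, D.eb (Sum.inr ⟨r, hr⟩) ≠ 0) →
      ∑ i, rc r i * l i = 0) → ∀ i, (p : ℤ) ^ N ∣ l i := by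
    intro N
    induction N with
    | zero => exact fun l _ i => by rw [pow_zero]; exact one_dvd _
    | succ N ih =>
      intro l hl
      have h1 : (fun i => (l i : k)) = 0 := D.tor0 (D.T_tv_zero fun r hr => by
        have h2 := congrArg (Int.cast : ℤ → k) (hl r r.2 ⟨r.2, hr⟩)
        push_cast at h2
        exact h2)
      choose l' hl' using fun i => (CharP.intCast_eq_zero_iff k p (l i)).1 (congrFun h1 i)
      intro i
      rw [hl' i, pow_succ']
      refine mul_dvd_mul_left _ (ih l' (fun r hr hs => ?_) i)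
      have h3 := hl r hr hs
      simp only [hl', mul_left_comm _ (p : ℤ), ← Finset.mul_sum] at h3
      exact (mul_eq_zero.1 h3).resolve_left (Int.natCast_ne_zero.2 (Fact.out : p.Prime).ne_zero)
  refine Lb.rk7_of_int fun l hl => funext fun i => Int.eq_zero_of_dvd_of_natAbs_lt_natAbs (key (l i).natAbs l hl i) ?_
  rw [Int.natAbs_pow, Int.natAbs_natCast]
  exact Nat.lt_pow_self (Fact.out : p.Prime).one_lt

theorem labels : ∃ (m : ℕ) (a : Fin 7 → ℕ), (m = 3 ∨ m = 4) ∧ (∀ j, a j ≤ m) ∧ ∀ j, m * D.β j = a j * D.n := by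
  obtain ⟨m, h0, h4, hz⟩ := Lb.alc_real (β := D.β) D.npos.ne' (D.rk7.mono fun r hr ⟨_, h⟩ =>
    ⟨1, by rw [Int.cast_one, one_mul, ← ex_cv_inr ⟨r, hr⟩]; exact D.eb_mem _ h⟩)
  have key : ∀ m : ℕ, (∀ j, ∃ z : ℤ, m * D.β j = z * D.n) → ∃ a : Fin 7 → ℕ, (∀ j, a j ≤ m) ∧ ∀ j, m * D.β j = a j * D.n := by
    intro m hz
    choose z hz using hz
    have h1 : ∀ j, 0 ≤ z j := fun j => by
      have h2 : 0 ≤ (z j : ℝ) * D.n := hz j ▸ mul_nonneg (Nat.cast_nonneg _) (D.dom j)
      exact_mod_cast nonneg_of_mul_nonneg_left h2 D.npos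
    have h2 : ∀ j, z j ≤ m := fun j => by
      have h2 : (z j : ℝ) * D.n ≤ m * D.n := hz j ▸ mul_le_mul_of_nonneg_left (D.lab j) (Nat.cast_nonneg _)
      exact_mod_cast le_of_mul_le_mul_right h2 D.npos
    exact ⟨fun j => (z j).toNat, fun j => Int.toNat_le.2 (h2 j), fun j => by
      rw [hz j, ← Int.cast_natCast, Int.toNat_of_nonneg (h1 j)]⟩
  by_cases h3 : m = 3
  · obtain ⟨a, ha⟩ := key m hz
    exact ⟨m, a, Or.inl h3, ha⟩
  · obtain ⟨c, hc⟩ : m ∣ 4 := by interval_cases m <;> simp_all only [_root_.Order.lt_one_iff, _root_.Nat.one_le_ofNat, _root_.Nat.cast_one, _root_.one_mul, _root_.OfNat.one_ne_ofNat, _root_.not_false_eq_true, _root_.isUnit_iff_eq_one, _root_.IsUnit.dvd, _root_.Order.lt_two_iff, _root_.zero_le, _root_.Nat.reduceLeDiff, _root_.Nat.cast_ofNat, _root_.Nat.reduceEqDiff, _root_.Nat.reduceDvd, _root_.Nat.ofNat_pos, _root_.not_true_eq_false, _root_.Std.le_refl, _root_.Nat.succ_ne_self, _root_.dvd_refl]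
    obtain ⟨a, ha⟩ := key 4 fun j => by
      obtain ⟨z, e⟩ := hz j
      exact ⟨c * z, by rw [hc]; push_cast; linear_combination c * e⟩
    exact ⟨4, a, Or.inr rfl, ha⟩

section
variable {m : ℕ} {a : Fin 7 → ℕ} (hm : 0 < m) (ha : ∀ j, m * D.β j = a j * D.n)
include ha

theorem lev_rv {r : ℕ} (hr : r < 126) : m * bf D.β (rv r) = pz r (fun j => a j) * D.n := by
  rw [bf_rv _ hr, pz, Finset.mul_sum, Int.cast_sum, Finset.sum_mul]
  refine Finset.sum_congr rfl fun j _ => ?_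
  push_cast
  linear_combination (rt chevE7 r j : ℝ) * ha j

include hm in
theorem lev_iff {z : ℤ} {d : ℝ} (hd : m * d = z * D.n) (i : chevE7.Idx) : bf D.β (cv (ac i)) = d ↔ il a i = z := by
  have h1 : m * bf D.β (cv (ac i)) = il a i * D.n := by
    rcases i with i | r
    · rw [lev_inl, mul_zero]
      exact (zero_mul _).symm.trans (congrArg (· * D.n) Int.cast_zero.symm)
    · rw [ex_cv_inr]
      exact D.lev_rv ha r.2
  refine ⟨fun e => ?_, fun e => mul_left_cancel₀ (Nat.cast_ne_zero.2 hm.ne') (by rw [h1, e, hd])⟩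
  rw [e, hd] at h1
  exact_mod_cast (mul_right_cancel₀ D.npos.ne' h1).symm

include hm in
theorem fin_of (hF : FIN) (hp : p = 11 ∨ p = 13 ∨ p = 17) (h34 : m = 3 ∨ m = 4) (hb : ∀ j, a j ≤ m)
    (h1 : (p - 2 : ℕ) * D.n ≤ bf D.β (rv 125)) : top a = (p - 2) * m ∧ ¬ (p : ℤ) ∣ nrm a := by
  have hm' : (0 : ℝ) < m := Nat.cast_pos.2 hm
  have h2 := D.lev_rv ha (r := 125) (by norm_num)
  rw [pz_top, Int.cast_natCast] at h2
  have e0 := D.lev_iff hm ha (z := 0) (d := 0) (by rw [mul_zero, Int.cast_zero, zero_mul])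
  have e1 := D.lev_iff hm ha (z := m) (d := D.n) (by rw [Int.cast_natCast])
  have hT : ∀ x ∈ Cs k fun i => il a i = 0 ∧ ∀ c : Kˣ, ((ch (ac i) (D.t c) : kˣ) : k) = D.ι c ^ (0 : ℤ),
      x ∈ Lv k ac D.β 0 ∧ Wt D.ι D.ρ 0 x := fun x hx =>
    ⟨fun i hi => (e0 i).2 (hx i hi).1, D.wt_iff.2 fun i hi => (hx i hi).2⟩
  have hQ : ∀ x, x ∈ Lv k ac D.β 0 ∧ Wt D.ι D.ρ 0 x →
      D.T x ∈ Cs k fun i => il a i = m ∧ ∀ c : Kˣ, ((ch (ac i) (D.t c) : kˣ) : k) = D.ι c ^ (2 : ℤ) := fun x hx i hi =>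
    ⟨(e1 i).1 ((br_Lv D.eb_mem hx.1 i hi).trans (add_zero _)), D.wt_iff.1 (fun c => by
      rw [h_T, hx.2 c, zpow_zero, one_smul]) i hi⟩
  refine hF p m a (fun i => il a i = 0 ∧ ∀ c : Kˣ, ((ch (ac i) (D.t c) : kˣ) : k) = D.ι c ^ (0 : ℤ))
    (fun i => il a i = m ∧ ∀ c : Kˣ, ((ch (ac i) (D.t c) : kˣ) : k) = D.ι c ^ (2 : ℤ)) hp h34 hb ?_ ?_ (fun z hz => ?_)
    (fun i hi => hi.1) (fun i => ⟨rfl, fun c => by rw [ac_inl, ch_zero, zpow_zero, Units.val_one]⟩)
    (fun r s t e hr hs => ⟨(e0 t).1 ?_, fun c => ?_⟩) ?_ ?_ fun ζ hζ => ?_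
  · have h3 := mul_le_mul_of_nonneg_left h1 hm'.le
    rw [h2, ← mul_assoc] at h3
    exact_mod_cast (mul_comm _ _).trans_le (le_of_mul_le_mul_right h3 D.npos)
  · have h3 := mul_le_mul_of_nonneg_left D.top_le' hm'.le
    rw [h2, ← mul_assoc] at h3
    exact_mod_cast (le_of_mul_le_mul_right h3 D.npos).trans_eq (mul_comm _ _)
  · have e2 := D.lev_iff hm ha (z := z) (d := z * D.n / m) (by field_simp)
    have e3 := D.lev_iff hm ha (z := z + m) (d := D.n + z * D.n / m) (by push_cast; field_simp; ring)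
    have h3 := fr_le D.T (P := Cs k fun i => il a i = z) (Q := Cs k fun i => il a i = z + m) (R := ⊥)
      (fun x hx i hi => (e3 i).1 (br_Lv D.eb_mem (fun j hj => (e2 j).2 (hx j hj)) i hi))
      fun x hx h0 => D.inj (div_neg_of_neg_of_pos (mul_neg_of_neg_of_pos (Int.cast_lt_zero.2 hz) D.npos) hm')
        (fun j hj => (e2 j).2 (hx j hj)) h0
    rwa [finrank_Cs, finrank_Cs, finrank_bot, add_zero] at h3
  · have h3 := (e1 r).2 hr.1
    rw [e, cv_add, map_add, (e1 s).2 hs.1] at h3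
    linarith only [h3]
  · have h3 := hr.2 c
    rw [e, ch_add, Units.val_mul, hs.2 c] at h3
    rw [zpow_zero]
    exact (mul_eq_left₀ (zpow_ne_zero _ (ι_ne D.ι c))).1 h3
  · have e2 := D.lev_iff hm ha (z := -(((p - 1) * m : ℕ) : ℤ)) (d := -((p - 1 : ℕ) * D.n)) (by
      rw [Int.cast_neg, Int.cast_natCast, Nat.cast_mul]; ring)
    have h3 := fr_le D.T (R := (Cs k fun i => il a i = -(((p - 1) * m : ℕ) : ℤ)).map (D.T ^ (p - 1)))
      (fun x hx => hQ x (hT x hx)) fun x hx h0 => by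
        obtain ⟨b, h4, h5⟩ := D.ker0 (hT x hx).1 (hT x hx).2 h0
        exact ⟨b, fun i hi => (e2 i).1 (h4 i hi), h5.symm⟩
    have h4 := h3.trans (Nat.add_le_add_left (Submodule.finrank_map_le _ _) _)
    rwa [finrank_Cs, finrank_Cs, finrank_Cs] at h4
  · have h3 := fr_le (D.T ∘ₗ tvL k) (P := ⊤) (R := ⊥) (fun l _ => hQ _ ⟨tv_Lv _ l, D.wt_tv l⟩) fun l _ h0 => D.tor0 h0
    rwa [finrank_Cs, finrank_top, finrank_fin_fun, finrank_bot, add_zero] at h3
  · have h3 := D.rk7 (cv ζ) fun r hr ⟨_, h⟩ => by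
      have h4 := congrArg (Int.cast : ℤ → ℝ) (hζ ⟨r, hr⟩ ⟨(e1 _).1 (D.eb_mem _ h), D.wt_iff.1 D.eb_wt _ h⟩)
      rw [pz, Int.cast_sum, Int.cast_zero] at h4
      rw [bf_rv _ hr, ← h4]
      exact Finset.sum_congr rfl fun j _ => by rw [Int.cast_mul, mul_comm]; rfl
    funext j
    exact Int.cast_eq_zero.1 (congrFun h3 j)

include hm in
theorem norm_zero (hm4 : m ≤ 4) (h1 : bf D.β (rv 125) = (p - 2 : ℕ) * D.n) {b : chevE7.Idx → k}
    (hb : D.e = (D.N ^ (p - 1)) b) : (p : ℤ) ∣ nrm a := by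
  have h11 := D.h11
  have h2 := D.h2
  have hn := D.npos
  have hmk : (m : k) ≠ 0 := fun e => absurd (Nat.le_of_dvd hm ((CharP.cast_eq_zero_iff k p m).1 e)) (by omega)
  obtain ⟨l, hl⟩ : ∃ l : Fin 7 → k, ∀ i, l i = (2 * m : k)⁻¹ * ∑ j : Fin 7, (iC i j : k) * a j := ⟨_, fun _ => rfl⟩
  have hv : ∀ j, Lb.vals l j = (m : k)⁻¹ * a j := fun j => by
    have h3 : ∀ j' : Fin 7, ∑ i : Fin 7, (Lb.CM i j : k) * iC i j' = if j = j' then 2 else 0 := fun j' => by
      have h4 := congrArg (Int.cast : ℤ → k) (chk_CM j j')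
      push_cast at h4
      exact h4
    rw [Lb.vals_apply]
    simp only [hl, mul_left_comm _ (2 * m : k)⁻¹, ← Finset.mul_sum]
    simp only [Finset.mul_sum _ _ (Lb.CM _ j : k), ← mul_assoc]
    rw [Finset.sum_comm]
    simp only [← Finset.sum_mul, h3, ite_mul, zero_mul, Finset.sum_ite_eq, Finset.mem_univ, if_true]
    field_simp
  have h3 : D.T (tv l) = -D.eb := funext fun i => by
    rw [T_tv, Pi.neg_apply, neg_inj]
    by_cases h0 : D.eb i = 0
    · rw [h0, mul_zero]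
    have h4 := (D.lev_iff hm ha (z := m) (d := D.n) (by rw [Int.cast_natCast]) i).1 (D.eb_mem i h0)
    rcases i with i | r
    · exact absurd (show (0 : ℤ) = m from h4) (by omega)
    · have h5 := congrArg (Int.cast : ℤ → k) (show pz r (fun j => a j) = m from h4)
      rw [pz] at h5
      push_cast at h5
      rw [exVal_inr, Lb.rval_eq r.2, Lb.pR]
      simp only [hv, mul_left_comm _ (m : k)⁻¹, ← Finset.mul_sum]
      rw [h5, inv_mul_cancel₀ hmk, one_mul]
  obtain ⟨q, rfl⟩ : ∃ q, p = q + 4 := ⟨p - 4, by omega⟩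
  have h4 := D.N_pow_Ge (D.top_Ge b) (q + 3)
  rw [h1, show -(((q + 4 - 2 : ℕ) : ℝ) * D.n) + (q + 3 : ℕ) * D.n = D.n by
    rw [show q + 4 - 2 = q + 2 from rfl]; push_cast; ring, show q + 3 = q + 4 - 1 from rfl, ← hb] at h4
  obtain ⟨c, hc, h5⟩ : ∃ c ∈ Lv k ac D.β (-(2 * D.n)), D.eb = D.T (D.T (D.T c)) := by
    have h6 := (D.N_pow_Ge (D.top_Ge b) q).2
    rw [h1, show -(((q + 4 - 2 : ℕ) : ℝ) * D.n) + q * D.n = -(2 * D.n) by
      rw [show q + 4 - 2 = q + 2 from rfl]; push_cast; ring] at h6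
    refine ⟨_, lv_mem ((D.N ^ q) b), ?_⟩
    rw [h6, eb, h4.2, show q + 4 - 1 = 3 + q by omega, pow_add]
    rfl
  have h6 : D.T (D.T c) ∈ Lv k ac D.β 0 := by
    have h7 := br_Lv D.eb_mem (br_Lv D.eb_mem hc)
    rwa [show D.n + (D.n + -(2 * D.n)) = 0 by ring] at h7
  obtain ⟨z, h7, h8⟩ := D.ker0 (D.pj_Lv 0 (add_mem (tv_Lv _ l) h6)) (pj_wt _ _ _ _) (by
    rw [pj_comm D.ι D.ρ D.h_T, map_add, h3, ← h5, neg_add_cancel, map_zero])
  have h9 : z = 0 := Br.eq_zero_of_Lv_Gt h7 (Ge_le_Gt (by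
    rw [h1, show q + 4 - 2 = q + 2 from rfl, show q + 4 - 1 = q + 3 from rfl]; push_cast; linarith only [hn]) (D.top_Ge z))
  have h10 := pj_adj D.ι D.ρ D.hB 0 (tv l + D.T (D.T c)) (tv l)
  rw [h8, h9, map_zero, map_zero, LinearMap.zero_apply, neg_zero, pj_of D.ι D.ρ (q + 4) (D.wt_tv l), map_add,
    LinearMap.add_apply, D.T_adj, D.T_adj, LinearMap.neg_apply, LinearMap.neg_apply, h3, neg_neg, br_self, neg_zero,
    map_zero, add_zero, Lb.kf_tv] at h10
  rw [← CharP.intCast_eq_zero_iff k, nrm]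
  push_cast
  simp only [hl, hv] at h10
  have h12 : ∑ i : Fin 7, ((2 * m : k)⁻¹ * ∑ j : Fin 7, (iC i j : k) * a j) * ((m : k)⁻¹ * a i) =
      (2 * m : k)⁻¹ * (m : k)⁻¹ * ∑ i : Fin 7, ∑ j : Fin 7, (a i : k) * iC i j * a j := by
    rw [Finset.mul_sum]
    refine Finset.sum_congr rfl fun i _ => ?_
    simp only [mul_assoc, ← Finset.mul_sum]
    ring
  rw [h12] at h10
  exact (mul_eq_zero.1 h10.symm).resolve_left (mul_ne_zero (inv_ne_zero (mul_ne_zero h2 hmk)) (inv_ne_zero hmk))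

end

/-- **the split triple** -/
theorem main (hF : FIN) (h19 : p ≠ 19) : ∃ e x f, D.Tri e x f ∧ e ≠ 0 ∧ e ∈ Ge k ac D.β D.n := by
  obtain ⟨e, x, f, b, he, ht⟩ := D.exists_tri
  have h11 := D.h11
  have hn := D.npos
  have h1 := (D.N_pow_Ge (D.top_Ge b) (p - 1)).1
  have hp : ((p - 1 : ℕ) : ℝ) = (p - 2 : ℕ) + 1 := by
    rw [show p - 1 = p - 2 + 1 by omega, Nat.cast_succ]
  rcases lt_or_ge (bf D.β (rv 125)) ((p - 2 : ℕ) * D.n) with h | h
  · have h2 : (D.N ^ (p - 1)) b ∈ Gt k ac D.β D.n := Ge_le_Gt (by rw [hp]; linarith) h1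
    refine ⟨e, x, f, ht, fun h0 => D.ene ?_, he ▸ add_mem D.ege (Gt_le_Ge h2)⟩
    rw [eq_neg_of_add_eq_zero_left (he.symm.trans h0)]
    exact neg_mem h2
  · obtain ⟨m, a, h34, hb, ha⟩ := D.labels
    have hm : 0 < m := by omega
    have h2 : p - 2 ≤ 17 := by exact_mod_cast le_of_mul_le_mul_right (h.trans D.top_le) hn
    have h3 : p = 11 ∨ p = 13 ∨ p = 17 := by
      have h4 : p.Prime := Fact.out
      have h5 : p ≤ 19 := by omega
      interval_cases p <;> first | omega | exact absurd h4 (by norm_num)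
    obtain ⟨h4, h5⟩ := D.fin_of hm ha hF h3 h34 hb h
    have h6 := D.lev_rv ha (r := 125) (by norm_num)
    rw [pz_top, Int.cast_natCast, h4, Nat.cast_mul, mul_right_comm, mul_comm _ (m : ℝ)] at h6
    have h7 := mul_left_cancel₀ (Nat.cast_ne_zero.2 hm.ne') h6
    refine ⟨e, x, f, ht, fun h0 => h5 (D.norm_zero hm ha (by omega) h7 (b := -b) ?_),
      he ▸ add_mem D.ege (Ge_mono (by rw [hp, h7]; linarith only []) h1)⟩
    rw [map_neg]
    exact eq_neg_of_add_eq_zero_left (he.symm.trans h0)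

end Dat

end A1

namespace Sit

variable {p a b : ℕ} {F : Type u} {K : Type v} {k : Type u} [Field F] [Fintype F] [Field K] [Fintype K] [Field k]
  (S : Sit p a b F K k)

theorem a1_mem_Fgt (f : S.Frame) {d : ℝ} {x : chevE7.Idx → k} :
    x ∈ S.Fgt d ↔ adM k f.g⁻¹ *ᵥ x ∈ Gt k ac S.β d := by
  rw [br_mem_Ft]
  constructor
  · intro h1
    have h2 := wrep_L.Gt_stab (inv_mem f.hg) h1
    rwa [← mulVec_mul, _root_.mul_inv_rev, inv_inv, mul_inv_cancel_right] at h2
  · intro h1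
    have h2 := wrep_L.Gt_stab f.hg h1
    rwa [← mulVec_mul, mul_inv_cancel_right] at h2

/-- **A1** from the finite check -/
theorem a1_split_of (hF : A1.FIN) (ha : a = 1) (h0 : S.NoFix) : S.Split := by
  classical
  subst ha
  have := S.chark
  have := S.charK
  have : Fact p.Prime := ⟨S.prime⟩
  have h11 : 11 ≤ p := by simpa using S.eleven
  have h5 : 5 ≤ p := by omega
  have h2 := two_ne (S.br_h12 h5)
  obtain ⟨f⟩ := S.exists_frame
  choose t ht using f.ht
  obtain ⟨φ, hφ⟩ : ∃ φ : _root_.Matrix.SpecialLinearGroup (Fin 2) K →* Gh k, ∀ x, φ x = f.g⁻¹ * S.ψ x * f.g :=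
    ⟨(MulAut.conj f.g⁻¹).toMonoidHom.comp S.ψ, fun x => by
      show f.g⁻¹ * S.ψ x * f.g⁻¹⁻¹ = _
      rw [inv_inv]⟩
  have e1 : ∀ x y, adM k f.g *ᵥ A1.rep φ x y = adM k (S.ψ x) *ᵥ (adM k f.g *ᵥ y) := fun x y => by
    rw [A1.rep_apply, hφ, mulVec_mul, mulVec_mul, mulVec_inv']
  have e2 : ∀ x y, A1.rep φ x (adM k f.g⁻¹ *ᵥ y) = adM k f.g⁻¹ *ᵥ (adM k (S.ψ x) *ᵥ y) := fun x y => by
    rw [A1.rep_apply, hφ, mulVec_mul, mulVec_mul, mulVec_inv']
  have e3 : ∀ y, Dm S.ι (A1.rep φ) 1 y = adM k f.g⁻¹ *ᵥ Dm S.ι S.RL 1 (adM k f.g *ᵥ y) := fun y => by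
    rw [← toLin'_apply (adM k f.g⁻¹), R2.H28.SL2.Dm_comm S.ι S.RL (A1.rep φ) _ fun x y => by
      rw [toLin'_apply, toLin'_apply, e2, br_RL], toLin'_apply, mulVec_inv]
  have e4 : ∀ {d y}, y ∈ Ge k ac S.β d → adM k f.g *ᵥ y ∈ S.Fg d := fun hy => f.mem_Fg.2 (by rwa [mulVec_inv])
  obtain ⟨j, hj, hne⟩ := S.br_exists_e h5
  obtain rfl : j = 0 := by omega
  obtain ⟨e, x, f', ⟨t1, t2, t3, t4, t5, t6⟩, h3, h4⟩ := A1.Dat.main (p := p)
    { ι := S.ι
      φ := φ
      β := S.β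
      n := S.nn
      e := adM k f.g⁻¹ *ᵥ S.br_E 1
      t := t
      card := S.cardK.trans (pow_one p)
      h11 := h11
      npos := S.nn_pos
      dom := S.β_dom
      lab := S.br_label h5
      tor := fun c => by rw [hφ, ht]; group
      nofix := fun y hy => by
        rw [← mulVec_inv (adM k) f.g y, h0 (adM k f.g *ᵥ y) fun x => by rw [← e1, hy], mulVec_zero]
      ege := f.mem_Fg.1 (S.br_E_mem h5 1)
      ene := fun h => hne (S.br_gr_of_Ft ((S.a1_mem_Fgt f).2 h))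
      efix := fun s => by rw [e2, S.br_E_fix h5]
      ewt := fun c => by
        rw [e2, S.br_E_wt h5 (by rw [S.cardK, pow_one]; omega), mulVec_smul, pow_one, zpow_ofNat]
      lead := fun d y hy => by
        have h1 := (S.a1_mem_Fgt f).1 (S.br_D_g h5 le_rfl (e4 hy))
        rwa [mulVec_sub, adM_br h2, mulVec_inv, ← e3] at h1
      step := fun d hd y hy h => by
        have h1 := (S.a1_mem_Fgt f).1 (S.br_j1_step h5 hd (e4 hy) fun j hj _ => (S.a1_mem_Fgt f).2 (by
          obtain rfl : j = 0 := by omega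
          rwa [pow_zero, ← e3]))
        rwa [mulVec_inv] at h1 } hF (by simpa using S.ne19)
  dsimp only [A1.Dat.ρ] at t1 t2 t3 t4 t5 t6
  refine ⟨0, adM k f.g *ᵥ e, adM k f.g *ᵥ x, adM k f.g *ᵥ f', one_pos, ⟨fun h => h3 ?_, fun s => ?_, fun s => ?_,
    fun s => ?_, ?_, ?_, fun c => ?_⟩, e4 h4⟩
  · rw [← mulVec_inv (adM k) f.g e, h, mulVec_zero]
  · rw [← e1, t1]
  · rw [← e1, t2, mulVec_sub, mulVec_smul, pow_zero, pow_one]
  · rw [← e1, t3, mulVec_sub, mulVec_add, mulVec_smul, mulVec_smul, pow_zero, pow_one]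
  · rw [← e1, t4, mulVec_neg]
  · rw [← e1, t5, mulVec_neg]
  · rw [← e1, t6, mulVec_smul, pow_zero, pow_one]

end Sit

end Cfsg.Agent.E7P
end

private theorem dce_4b0758392e19 : _root_.True := by
  try have : _root_.True := by simp only [_root_.Cfsg.Agent.E7P.Ns.sB.eq_1]
  try have : _root_.True := by simp only [_root_.Cfsg.Agent.E7P.Ns.vec.eq_1]
  try have : _root_.True := by simp only [_root_.Cfsg.Agent.E7P.A1.nrm.eq_1]
  try have : _root_.True := by simp only [_root_.Cfsg.Agent.E7P.A1.pj.eq_1]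
  try have : _root_.True := by simp only [_root_.Cfsg.Agent.E7P.Ns.dimN.eq_1]
  try have : _root_.True := by simp only [_root_.Cfsg.Agent.E7P.Ns.sm125.eq_1]
  try have : _root_.True := by simp only [_root_.Cfsg.Agent.E7P.A1.cnt.eq_1]
  try have : _root_.True := by simp only [_root_.Cfsg.Agent.E7P.A1.pz.eq_1]
  try have : _root_.True := by simp only [_root_.Cfsg.Agent.E7P.Ns.inB.eq_1]
  try have : _root_.True := by simp only [_root_.Cfsg.Agent.E7P.A1.top.eq_1]
  try have : _root_.True := by simp only [_root_.Cfsg.Agent.E7P.A1.Dat.eb.eq_1]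
  exact _root_.True.intro
end
end
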